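import Cfsg.Agent.Lib.J2Sylow.Closed
import Cfsg.Agent.Lib.Signalizer.Core
import Cfsg.Agent.Lib.Signalizer.GraphTrivial
import Cfsg.Agent.Lib.Constrained.Basic

/-!
# The centraliser of the central involution (helper98, for S1776)

`u = K.u 4`, `O = O(C(z))`, `A = C_S(ι aa)`.

* `exists_decomp` : `C(z) = N · O`
* `cent_outer` : `C(t) ∩ C(z) ≤ O A` for outer `t`
* `conj_A` : `A` is a Sylow 2-subgroup of `C(t) ∩ C(z)`
* `constrained_z`, `conj_u`, `odd_le_core`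
-/

set_option autoImplicit false
set_option maxRecDepth 100000
set_option linter.style.haveILetI false
set_option linter.unusedSectionVars false

open Subgroup

namespace Cfsg.Agent.JSylowSimple

open J2Sylow

section Coordinates

theorem r0_cent_eq : ∀ w : R0, w * R0.aa = R0.aa * w → ¬ R0.inV w →
    ∀ r : R0, r * w = w * r → r * R0.aa = R0.aa * r := by decide +kernel

theorem r0_cent_mem : ∀ w r : R0, w * R0.aa = R0.aa * w → r * R0.aa = R0.aa * r → r * w = w * r := by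
  decide +kernel

theorem r0_not_inQ : ∀ w : R0, w * R0.aa = R0.aa * w → ¬ R0.inV w → ¬ R0.inQ w := by decide +kernel

theorem r0_inV_iff : ∀ r : R0, R0.inV r ↔ r = 1 ∨ r = R0.z ∨ r = R0.u 4 ∨ r = R0.z * R0.u 4 := by
  decide +kernel

theorem r0_sq_inQ : ∀ r : R0, R0.inQ r → r * r = 1 ∨ r * r = R0.z := by decide +kernel

theorem fours_cent : ∀ (s t : Bool) (σ : Equiv.Perm (Fin 5)), Equiv.Perm.sign σ = 1 →
    ((bif s then vA else 1) * (bif t then vB else 1) : Equiv.Perm (Fin 5)) ≠ 1 →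
    σ * ((bif s then vA else 1) * (bif t then vB else 1)) =
      ((bif s then vA else 1) * (bif t then vB else 1)) * σ →
    σ = 1 ∨ σ = vA ∨ σ = vB ∨ σ = vA * vB := by decide +kernel

theorem fours_gen : ∀ s t s' t' : Bool,
    ((bif s then vA else 1) * (bif t then vB else 1) : Equiv.Perm (Fin 5)) ≠ 1 →
    ((bif s' then vA else 1) * (bif t' then vB else 1) : Equiv.Perm (Fin 5)) ≠ 1 →
    ((bif s then vA else 1) * (bif t then vB else 1) *
      ((bif s' then vA else 1) * (bif t' then vB else 1)) : Equiv.Perm (Fin 5)) ≠ 1 →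
    ∀ k : Fin 3,
      ![vA, vB, vA * vB] k = (bif s then vA else 1) * (bif t then vB else 1) ∨
      ![vA, vB, vA * vB] k = (bif s' then vA else 1) * (bif t' then vB else 1) ∨
      ![vA, vB, vA * vB] k = (bif s then vA else 1) * (bif t then vB else 1) *
        ((bif s' then vA else 1) * (bif t' then vB else 1)) := by decide +kernel

theorem alt_order : ∀ σ : Equiv.Perm (Fin 5), Equiv.Perm.sign σ = 1 → σ ^ 15 = 1 ∨ σ * σ = 1 := by
  decide +kernel

theorem alt_no_odd : ∀ σ : Equiv.Perm (Fin 5), Equiv.Perm.sign σ = 1 → σ ^ 15 = 1 → σ ≠ 1 →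
    ∃ v ∈ ({vA, vB, vA * vB} : Finset (Equiv.Perm (Fin 5))),
      (σ * σ * (v * σ * v)) ^ 15 ≠ 1 ∨ (σ * (v * σ * v) * σ * (v * σ * v)⁻¹) ^ 15 ≠ 1 := by
  decide +kernel

theorem fours_inv : ∀ v ∈ ({vA, vB, vA * vB} : Finset (Equiv.Perm (Fin 5))), v⁻¹ = v := by
  decide +kernel

end Coordinates

universe v

variable {G : Type v} [Group G] (K : Cfg G)

local notation "𝕆" => Cfsg.centralizerPPrimeCore 2

/-- `A \ ⟨z, u⟩`. -/
def Outer (t : G) : Prop := t ∈ K.A ∧ t ∉ zpowers K.z ⊔ zpowers (K.u 4)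

theorem V_cases {x : G} (hx : x ∈ zpowers K.z ⊔ zpowers (K.u 4)) :
    ∃ r, R0.inV r ∧ K.ι r = x := by
  have hle : zpowers K.z ⊔ zpowers (K.u 4) ≤ (K.S : Subgroup G) :=
    sup_le (zpowers_le.2 (K.ι_mem _)) (zpowers_le.2 (K.ι_mem _))
  let W : Subgroup R0 :=
    { carrier := {r | R0.inV r}
      one_mem' := Or.inl rfl
      mul_mem' := fun {a b} ha hb => R0.inV_mul a b ha hb
      inv_mem' := fun {a} ha => (by decide +kernel : ∀ v, R0.inV v → R0.inV v⁻¹) a ha }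
  have h : zpowers K.z ⊔ zpowers (K.u 4) ≤ W.map K.ι :=
    sup_le (zpowers_le.2 ⟨R0.z, Or.inr (Or.inl rfl), rfl⟩)
      (zpowers_le.2 ⟨R0.u 4, Or.inr (Or.inr (Or.inl rfl)), rfl⟩)
  exact h hx

theorem ι_mem_V {r : R0} : K.ι r ∈ zpowers K.z ⊔ zpowers (K.u 4) ↔ R0.inV r := by
  constructor
  · intro h
    obtain ⟨r', hr', e⟩ := V_cases K h
    exact K.inj e ▸ hr'
  · intro h
    rcases (r0_inV_iff r).1 h with rfl | rfl | rfl | rfl
    · rw [map_one]; exact one_mem _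
    · exact mem_sup_left (mem_zpowers _)
    · exact mem_sup_right (mem_zpowers _)
    · rw [map_mul]; exact mul_mem (mem_sup_left (mem_zpowers _)) (mem_sup_right (mem_zpowers _))

theorem Outer.exists_ι {K : Cfg G} {t : G} (ht : Outer K t) :
    ∃ r, r * R0.aa = R0.aa * r ∧ ¬ R0.inV r ∧ K.ι r = t := by
  obtain ⟨r, rfl⟩ := K.exists_ι ht.1.1
  exact ⟨r, K.mem_A.1 ht.1, fun h => ht.2 ((ι_mem_V K).2 h), rfl⟩

theorem outer_ι {r : R0} (h1 : r * R0.aa = R0.aa * r) (h2 : ¬ R0.inV r) : Outer K (K.ι r) :=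
  ⟨K.mem_A.2 h1, fun h => h2 ((ι_mem_V K).1 h)⟩

theorem A_sq {x : G} (hx : x ∈ K.A) : x * x = 1 := by
  obtain ⟨r, rfl⟩ := K.exists_ι hx.1
  rw [← map_mul, (Cfg.aa_data.2 r (K.mem_A.1 hx)).1, map_one]

theorem A_comm {x y : G} (hx : x ∈ K.A) (hy : y ∈ K.A) : x * y = y * x := by
  obtain ⟨r, rfl⟩ := K.exists_ι hx.1
  obtain ⟨w, rfl⟩ := K.exists_ι hy.1
  exact K.ι_comm.2 (r0_cent_mem w r (K.mem_A.1 hy) (K.mem_A.1 hx))

theorem A_inv {x : G} (hx : x ∈ K.A) : x⁻¹ = x := inv_eq_of_mul_eq_one_right (A_sq K hx)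

theorem A_le_C : K.A ≤ centralizer ({K.z} : Set G) := fun _ hx => K.S_le_centralizer hx.1

variable [Finite G]

theorem O_conj {c o : G} (hc : c ∈ centralizer ({K.z} : Set G)) (ho : o ∈ 𝕆 K.z) :
    c * o * c⁻¹ ∈ 𝕆 K.z :=
  Signalizer.conj_mem (Signalizer.centralizer_le_normalizer_core K.z) hc ho

theorem O_le_C : 𝕆 K.z ≤ centralizer ({K.z} : Set G) := Signalizer.core_le_centralizer K.z

theorem odd_O : ¬ 2 ∣ Nat.card (𝕆 K.z) := by
  haveI : Fact (Nat.Prime 2) := ⟨Nat.prime_two⟩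
  exact Signalizer.not_dvd_card_core K.z

theorem eq_one_of_sq {x : G} (hx : x ∈ 𝕆 K.z) {n : ℕ} (h : x ^ 2 ^ n = 1) : x = 1 := by
  rw [← orderOf_eq_one_iff]
  refine Nat.eq_one_of_dvd_coprimes ?_ (Subgroup.orderOf_dvd_natCard _ hx) (orderOf_dvd_of_pow_eq_one h)
  exact (((Nat.Prime.coprime_iff_not_dvd Nat.prime_two).2 (odd_O K)).symm).pow_right n

theorem ι_O {r : R0} (h : K.ι r ∈ 𝕆 K.z) : r = 1 := by
  refine K.inj (((map_one K.ι).symm) ▸ eq_one_of_sq K h (n := 7) ?_)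
  rw [← orderOf_dvd_iff_pow_eq_one]
  have := Subgroup.orderOf_dvd_natCard _ (K.ι_mem r)
  rwa [K.card_S] at this

theorem mem_coreN {n : K.N} (h : (n : G) ∈ 𝕆 K.z) : n ∈ Cfsg.oddCore K.N := by
  haveI : Fact (Nat.Prime 2) := ⟨Nat.prime_two⟩
  set X : Subgroup K.N := (𝕆 K.z).subgroupOf K.N with hX
  have hXn : X.Normal := ⟨fun x hx g => mem_subgroupOf.2 (by
    simpa using O_conj K (K.N_le_C g.2) (mem_subgroupOf.1 hx))⟩
  refine Cores.le_pPrimeCore hXn ?_ (mem_subgroupOf.2 h)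
  refine ((Nat.Prime.coprime_iff_not_dvd Nat.prime_two).2 fun h2 => odd_O K (h2.trans ?_)).symm
  rw [← Subgroup.card_map_of_injective K.N.subtype_injective]
  exact card_dvd_of_le (map_le_iff_le_comap.2 le_rfl)

theorem pairs_O {n : K.N} (h : (n : G) ∈ 𝕆 K.z) : K.pairs n = 1 := K.pairs_core (mem_coreN K h)

variable (hno : TwoTimesPSL.NoIndexTwo G)

include hno

/-- `C(z) = N · O(C(z))`. -/
theorem exists_decomp :
    ∀ x ∈ centralizer ({K.z} : Set G), ∃ n : K.N, ∃ o ∈ 𝕆 K.z, x = n * o := by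
  intro x hx
  haveI : (Cfsg.oddCore K.C).Normal := Cores.pPrimeCore_normal 2 K.C
  obtain ⟨n, o, ho, e⟩ := K.exists_core_decomp hno ⟨x, hx⟩
  exact ⟨n, o, ⟨o, ho, rfl⟩, congrArg Subtype.val e⟩

theorem core_N_le {n : K.N} (hn : n ∈ Cfsg.oddCore K.N) : (n : G) ∈ 𝕆 K.z := by
  haveI : (Cfsg.oddCore K.C).Normal := Cores.pPrimeCore_normal 2 K.C
  let q : K.N →* K.C ⧸ Cfsg.oddCore K.C :=
    (QuotientGroup.mk' _).comp (Subgroup.inclusion K.N_le_C)
  have hq : Function.Surjective q := fun y => by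
    obtain ⟨c, rfl⟩ := QuotientGroup.mk'_surjective _ y
    obtain ⟨m, o, ho, rfl⟩ := K.exists_core_decomp hno c
    refine ⟨m, ?_⟩
    rw [map_mul, show QuotientGroup.mk' (Cfsg.oddCore K.C) o = 1 from
      (QuotientGroup.eq_one_iff o).2 ho, mul_one]
    rfl
  have h := Cores.map_pPrimeCore_le q hq 2 ⟨n, hn, rfl⟩
  rw [Cores.pPrimeCore_quotient_self, mem_bot] at h
  exact ⟨_, (QuotientGroup.eq_one_iff _).1 h, rfl⟩

/-- Above the four-group every element of `C(z)` lies in `S · O`. -/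
theorem fours_O {n : K.N} (hn : K.pairs n ∈ fours) :
    ∃ r : R0, ∃ o ∈ 𝕆 K.z, (n : G) = K.ι r * o := by
  obtain ⟨r, o, ho, rfl⟩ := K.fours_decomp hn
  exact ⟨r, (o : G), core_N_le K hno ho, rfl⟩

/-- The action of `C(z)` on the pairs. -/
noncomputable def actC : centralizer ({K.z} : Set G) →* Equiv.Perm (Fin 5) :=
  MonoidHom.mk' (fun x => K.pairs (exists_decomp K hno x x.2).choose) <| by
    have key : ∀ {x : G} (hx : x ∈ centralizer ({K.z} : Set G)) {n : K.N} {o : G}, o ∈ 𝕆 K.z →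
        x = n * o → K.pairs (exists_decomp K hno x hx).choose = K.pairs n := by
      intro x hx n o ho e
      obtain ⟨o', ho', e'⟩ := (exists_decomp K hno x hx).choose_spec
      set n' := (exists_decomp K hno x hx).choose with hn'
      have h : ((n⁻¹ * n' : K.N) : G) ∈ 𝕆 K.z := by
        rw [Subgroup.coe_mul, Subgroup.coe_inv,
          show (n : G)⁻¹ * n' = o * o'⁻¹ by rw [eq_mul_inv_iff_mul_eq, mul_assoc, ← e', e, inv_mul_cancel_left]]
        exact mul_mem ho (inv_mem ho')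
      have h1 := pairs_O K h
      rwa [map_mul, map_inv, inv_mul_eq_one, eq_comm] at h1
    intro x y
    obtain ⟨o, ho, ex⟩ := (exists_decomp K hno x x.2).choose_spec
    obtain ⟨o', ho', ey⟩ := (exists_decomp K hno y y.2).choose_spec
    set n := (exists_decomp K hno x x.2).choose
    set m := (exists_decomp K hno y y.2).choose
    rw [← map_mul]
    refine key (x * y).2 (n := n * m) (o := (m : G)⁻¹ * o * m * o') (mul_mem ?_ ho') ?_
    · have := O_conj K (inv_mem (K.N_le_C m.2)) ho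
      rwa [inv_inv] at this
    · rw [Subgroup.coe_mul, ex, ey, Subgroup.coe_mul]
      group

theorem actC_eq {x : centralizer ({K.z} : Set G)} {n : K.N} {o : G} (ho : o ∈ 𝕆 K.z)
    (e : (x : G) = n * o) : actC K hno x = K.pairs n := by
  obtain ⟨o', ho', e'⟩ := (exists_decomp K hno x x.2).choose_spec
  have h : ((n⁻¹ * (exists_decomp K hno x x.2).choose : K.N) : G) ∈ 𝕆 K.z := by
    rw [Subgroup.coe_mul, Subgroup.coe_inv, show (n : G)⁻¹ * _ = o * o'⁻¹ from by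
      rw [eq_mul_inv_iff_mul_eq, mul_assoc, ← e', e, inv_mul_cancel_left]]
    exact mul_mem ho (inv_mem ho')
  have h1 := pairs_O K h
  rw [map_mul, map_inv, inv_mul_eq_one] at h1
  exact h1.symm

theorem actC_ι (r : R0) : actC K hno ⟨K.ι r, K.S_le_centralizer (K.ι_mem r)⟩ = R0.perm r := by
  rw [actC_eq K hno (n := ⟨K.ι r, K.S_le_N (K.ι_mem r)⟩) (one_mem _) (mul_one _).symm, K.pairs_ι]

theorem actC_even (x : centralizer ({K.z} : Set G)) : Equiv.Perm.sign (actC K hno x) = 1 := by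
  obtain ⟨n, o, ho, e⟩ := exists_decomp K hno x x.2
  rw [actC_eq K hno ho e, ← Equiv.Perm.mem_alternatingGroup, ← K.range_pairs hno]
  exact ⟨n, rfl⟩

theorem actC_fours {x : centralizer ({K.z} : Set G)} (h : actC K hno x ∈ fours) :
    ∃ r : R0, ∃ o ∈ 𝕆 K.z, (x : G) = K.ι r * o := by
  obtain ⟨n, o, ho, e⟩ := exists_decomp K hno x x.2
  rw [actC_eq K hno ho e] at h
  obtain ⟨r, o', ho', e'⟩ := fours_O K hno h
  exact ⟨r, o' * o, mul_mem ho' ho, by rw [e, e', mul_assoc]⟩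

/-- `C(t) ∩ C(z) ≤ O(C(z)) A` for outer `t`. -/
theorem cent_outer {t x : G} (ht : Outer K t) (hxt : x * t = t * x) (hxz : x * K.z = K.z * x) :
    ∃ o ∈ 𝕆 K.z, ∃ a ∈ K.A, x = o * a := by
  obtain ⟨w, hw1, hw2, rfl⟩ := ht.exists_ι
  set X : centralizer ({K.z} : Set G) := ⟨x, mem_centralizer_singleton_iff.2 hxz⟩ with hX
  have hcomm : Commute X (⟨K.ι w, K.S_le_centralizer (K.ι_mem w)⟩ : centralizer ({K.z} : Set G)) :=
    Subtype.ext hxt
  have hσ := (hcomm.map (actC K hno)).eq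
  rw [actC_ι] at hσ
  have h4 : actC K hno X ∈ fours := mem_fours.2 (fours_cent w.s w.t _ (actC_even K hno X)
    (fun h => r0_not_inQ w hw1 hw2 (R0.perm_eq_one w.s w.t h)) hσ)
  obtain ⟨r, o, ho, e⟩ := actC_fours K hno h4
  change x = K.ι r * o at e
  have ho1 : K.ι w * o * (K.ι w)⁻¹ ∈ 𝕆 K.z := O_conj K (K.S_le_centralizer (K.ι_mem w)) ho
  have hrw : r * w = w * r := by
    have h1 : K.ι ((w * r)⁻¹ * (r * w)) = o * ((K.ι w)⁻¹ * o * K.ι w)⁻¹ := by
      have h := hxt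
      rw [e] at h
      rw [map_mul, map_inv, map_mul, map_mul]
      calc (K.ι w * K.ι r)⁻¹ * (K.ι r * K.ι w)
          = (K.ι w * K.ι r)⁻¹ * (K.ι r * o * K.ι w) * ((K.ι w)⁻¹ * o * K.ι w)⁻¹ := by group
        _ = o * ((K.ι w)⁻¹ * o * K.ι w)⁻¹ := by rw [h]; group
    have h2 := ι_O K (r := (w * r)⁻¹ * (r * w)) (h1 ▸ mul_mem ho (inv_mem (by
      simpa using O_conj K (inv_mem (K.S_le_centralizer (K.ι_mem w))) ho)))
    exact (inv_mul_eq_one.1 h2).symm
  refine ⟨K.ι r * o * (K.ι r)⁻¹, O_conj K (K.S_le_centralizer (K.ι_mem r)) ho, K.ι r,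
    K.mem_A.2 (r0_cent_eq w hw1 hw2 r hrw), ?_⟩
  rw [e, inv_mul_cancel_right]

theorem cent_outer_two {t : G} (ht : Outer K t) {P : Subgroup G} (hP : IsPGroup 2 P)
    (hAP : K.A ≤ P) (hc : ∀ x ∈ P, x * t = t * x ∧ x * K.z = K.z * x) : P = K.A := by
  refine le_antisymm (fun x hx => ?_) hAP
  obtain ⟨o, ho, a, ha, rfl⟩ := cent_outer K hno ht (hc x hx).1 (hc x hx).2
  have hoP : o ∈ P := by simpa using mul_mem hx (inv_mem (hAP ha))
  obtain ⟨n, hn⟩ := hP ⟨o, hoP⟩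
  rw [eq_one_of_sq K ho (n := n) (by simpa using congrArg Subtype.val hn), one_mul]
  exact ha

/-- `A` is a Sylow 2-subgroup of `C(t) ∩ C(z)`. -/
theorem conj_A {t : G} (ht : Outer K t) {P : Subgroup G} (hP : IsPGroup 2 P)
    (hc : ∀ x ∈ P, x * t = t * x ∧ x * K.z = K.z * x) :
    ∃ d, d * K.z = K.z * d ∧ d * t = t * d ∧ ∀ x ∈ P, d * x * d⁻¹ ∈ K.A := by
  haveI : Fact (Nat.Prime 2) := ⟨Nat.prime_two⟩
  set X : Subgroup G := centralizer ({t} : Set G) ⊓ centralizer ({K.z} : Set G) with hX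
  have hPX : P ≤ X := fun x hx =>
    ⟨mem_centralizer_singleton_iff.2 (hc x hx).1, mem_centralizer_singleton_iff.2 (hc x hx).2⟩
  have hAX : K.A ≤ X := fun x hx =>
    ⟨mem_centralizer_singleton_iff.2 (A_comm K hx ht.1), A_le_C K hx⟩
  obtain ⟨T, hT⟩ := ((K.S.2.to_le (inf_le_left : K.A ≤ _)).comap_of_injective X.subtype
    X.subtype_injective).exists_le_sylow
  have hTA : (T : Subgroup X).map X.subtype = K.A :=
    cent_outer_two K hno ht (T.2.map _) (fun x hx => mem_map.2 ⟨⟨x, hAX hx⟩, hT hx, rfl⟩) (by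
      rintro _ ⟨y, -, rfl⟩
      exact ⟨mem_centralizer_singleton_iff.1 y.2.1, mem_centralizer_singleton_iff.1 y.2.2⟩)
  obtain ⟨T', hT'⟩ := (hP.comap_of_injective X.subtype X.subtype_injective).exists_le_sylow
  obtain ⟨d, hd⟩ := MulAction.exists_smul_eq X T' T
  refine ⟨d, mem_centralizer_singleton_iff.1 d.2.2, mem_centralizer_singleton_iff.1 d.2.1,
    fun x hx => ?_⟩
  rw [← hTA]
  refine mem_map.2 ⟨d * ⟨x, hPX hx⟩ * d⁻¹, ?_, rfl⟩
  rw [← hd, Sylow.coe_subgroup_smul]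
  exact mem_map.2 ⟨_, hT' hx, rfl⟩

theorem constrained_z : Cfsg.IsPConstrained 2 ↥(centralizer ({K.z} : Set G)) := by
  haveI : Fact (Nat.Prime 2) := ⟨Nat.prime_two⟩
  haveI : (Cfsg.oddCore K.C).Normal := Cores.pPrimeCore_normal 2 K.C
  obtain ⟨D⟩ := K.exists_five_centralizer hno
  refine (Constrained.isPConstrained_of_map (p := 2) (QuotientGroup.mk' (Cfsg.oddCore K.C))
    (QuotientGroup.mk'_surjective _) ?_ ?_).1
  · rw [QuotientGroup.ker_mk']
    exact Cores.not_dvd_card_pPrimeCore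
  · haveI := D.normal_range
    have hle : D.F.hom.range ≤ Cfsg.pCore 2 (K.C ⧸ Cfsg.oddCore K.C) :=
      Cores.le_pCore inferInstance (IsPGroup.of_card (n := 5) D.F.natCard_range)
    intro h hh
    refine hle (D.ker h (Equiv.ext fun i => ?_))
    have e : h * D.F.u i * h⁻¹ = D.F.u i :=
      mul_inv_eq_iff_eq_mul.2 ((mem_centralizer_iff.1 hh _ (hle (D.F.u_mem_range i))).symm)
    show D.φ h i = i
    by_contra hne
    have ha := D.F.anti _ _ hne
    rcases D.act h i with e' | e' <;> rw [e] at e'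
    · rw [← e'] at ha
      exact D.F.z_ne (mul_eq_left.1 ha.symm)
    · have e'' : D.F.u (D.φ h i) = D.F.u i * D.F.z := by rw [e', mul_assoc, D.F.z_sq, mul_one]
      simp only [e'', mul_assoc, D.F.z_u, D.F.z_sq, D.F.u_sq'] at ha
      exact D.F.z_ne ha

/-- The pairs are conjugate in `C(z)`. -/
theorem conj_u (i : Fin 5) : ∃ c ∈ centralizer ({K.z} : Set G),
    c * K.u 4 * c⁻¹ = K.u i ∨ c * K.u 4 * c⁻¹ = K.u i * K.z := by
  obtain ⟨σ, hσ, hσi⟩ := (by decide +kernel :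
    ∀ i : Fin 5, ∃ σ : Equiv.Perm (Fin 5), Equiv.Perm.sign σ = 1 ∧ σ 4 = i) i
  have hmem : σ ∈ K.pairs.range := by
    rw [K.range_pairs hno, Equiv.Perm.mem_alternatingGroup]; exact hσ
  obtain ⟨n, hn⟩ := hmem
  refine ⟨n, K.N_le_C n.2, ?_⟩
  have := K.pairs_spec n 4
  rwa [hn, hσi] at this

/-- An odd subgroup of `C(x)` normalised by a quaternion pair lies in `O(C(x))`, for `x ~ z`. -/
theorem odd_le_core : ∀ {x q1 q2 : G}, IsConj K.z x → x ≠ K.z → q1 ∈ (K.S : Subgroup G) →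
    q2 ∈ (K.S : Subgroup G) → q1 * q1 = K.z → q2 * q2 = K.z → q1 * q2 * (q1 * q2) = K.z →
    q1 * x = x * q1 → q2 * x = x * q2 → ∀ Y : Subgroup G, Odd (Nat.card Y) →
    Y ≤ centralizer ({x} : Set G) →
    (∀ y ∈ Y, q1 * y * q1⁻¹ ∈ Y ∧ q2 * y * q2⁻¹ ∈ Y) → Y ≤ 𝕆 x := by
  intro x q1 q2 hx hxz h1 h2 hq1 hq2 hq12 hc1 hc2 Y hY hYx hYn
  obtain ⟨g0, hg0⟩ := isConj_iff.1 hx.symm
  -- move the pair into the Sylow subgroup
  set P : Subgroup G := (K.S : Subgroup G) ⊓ centralizer ({x} : Set G) with hP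
  have hPC : P.map (MulAut.conj g0).toMonoidHom ≤ centralizer ({K.z} : Set G) := by
    rintro _ ⟨p, hp, rfl⟩
    refine mem_centralizer_singleton_iff.2 ?_
    show g0 * p * g0⁻¹ * K.z = K.z * (g0 * p * g0⁻¹)
    rw [← hg0, conj_mul, conj_mul, mem_centralizer_singleton_iff.1 hp.2]
  obtain ⟨c, hc, hcS⟩ := K.conj_into K.S_le_centralizer hPC ((K.S.2.to_le inf_le_left).map _)
  set g := c * g0 with hg
  have hgx : g * x * g⁻¹ = K.z := by
    rw [hg, show c * g0 * x * (c * g0)⁻¹ = c * (g0 * x * g0⁻¹) * c⁻¹ by group, hg0,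
      mem_centralizer_singleton_iff.1 hc, mul_inv_cancel_right]
  have hgS : ∀ p ∈ P, g * p * g⁻¹ ∈ (K.S : Subgroup G) := fun p hp => by
    rw [hg, show c * g0 * p * (c * g0)⁻¹ = c * (g0 * p * g0⁻¹) * c⁻¹ by group]
    exact hcS _ ⟨p, hp, rfl⟩
  obtain ⟨r1, hr1⟩ := K.exists_ι (hgS q1 ⟨h1, mem_centralizer_singleton_iff.2 hc1⟩)
  obtain ⟨r2, hr2⟩ := K.exists_ι (hgS q2 ⟨h2, mem_centralizer_singleton_iff.2 hc2⟩)
  -- they lie outside the extraspecial group
  have hout : ∀ {r : R0} {q : G}, K.ι r = g * q * g⁻¹ → q * q = K.z →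
      R0.perm r ≠ 1 := by
    intro r q hr hq hp
    have e : K.ι (r * r) = g * K.z * g⁻¹ := by rw [map_mul, hr, conj_mul, hq]
    rcases r0_sq_inQ r (R0.perm_eq_one r.s r.t hp) with h | h <;> rw [h] at e
    · rw [map_one] at e
      exact K.frame.z_ne (conj_eq_one_iff.1 e.symm)
    · exact hxz (mul_left_cancel (mul_right_cancel (hgx.trans e)))
  have hp1 := hout hr1 hq1
  have hp2 := hout hr2 hq2
  have hr12 : K.ι (r1 * r2) = g * (q1 * q2) * g⁻¹ := by rw [map_mul, hr1, hr2, conj_mul]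
  have hp12 := hout hr12 hq12
  set C := centralizer ({K.z} : Set G) with hC
  have hYC : ∀ y ∈ Y, g * y * g⁻¹ ∈ C := fun y hy => mem_centralizer_singleton_iff.2 (by
    rw [← hgx, conj_mul, conj_mul, mem_centralizer_singleton_iff.1 (hYx hy)])
  -- the image in the alternating group
  let f : Y →* Equiv.Perm (Fin 5) := (actC K hno).comp
    (((MulAut.conj g).toMonoidHom.comp Y.subtype).codRestrict C fun y => hYC y y.2)
  have hf : ∀ (y : G) (hy : y ∈ Y), f ⟨y, hy⟩ = actC K hno ⟨g * y * g⁻¹, hYC y hy⟩ := fun _ _ => rfl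
  have hodd : ∀ y : Y, f y ^ 15 = 1 := by
    intro y
    rcases alt_order (f y) (actC_even K hno _) with h | h
    · exact h
    · have h2 : orderOf (f y) ∣ 2 := orderOf_dvd_of_pow_eq_one (by rw [pow_two, h])
      have h1 : orderOf (f y) ∣ Nat.card Y :=
        (orderOf_map_dvd f y).trans (orderOf_dvd_natCard y)
      rw [orderOf_eq_one_iff.1 (Nat.eq_one_of_dvd_coprimes (Nat.coprime_two_right.2 hY) h1 h2),
        one_pow]
  have hconj : ∀ {r : R0} {q : G}, K.ι r = g * q * g⁻¹ → (∀ y ∈ Y, q * y * q⁻¹ ∈ Y) →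
      ∀ y : Y, ∃ y' : Y, f y' = R0.perm r * f y * (R0.perm r)⁻¹ := by
    intro r q hr hq y
    refine ⟨⟨q * y * q⁻¹, hq y y.2⟩, ?_⟩
    rw [← actC_ι K hno r, hf, ← map_inv, show f y = actC K hno ⟨g * y * g⁻¹, hYC y y.2⟩ from rfl,
      ← map_mul, ← map_mul]
    congr 1
    ext
    show g * (q * (y : G) * q⁻¹) * g⁻¹ = K.ι r * (g * y * g⁻¹) * (K.ι r)⁻¹
    rw [hr]
    group
  have hker : ∀ y : Y, f y = 1 := by
    intro y
    by_contra hne
    obtain ⟨v, hv, hbad⟩ := alt_no_odd (f y) (actC_even K hno _) (hodd y) hne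
    obtain ⟨y', hy'⟩ : ∃ y' : Y, f y' = v * f y * v := by
      have e := fours_inv v hv
      have h12 : ∀ y ∈ Y, q1 * q2 * y * (q1 * q2)⁻¹ ∈ Y := fun y hy => by
        rw [show q1 * q2 * y * (q1 * q2)⁻¹ = q1 * (q2 * y * q2⁻¹) * q1⁻¹ by group]
        exact (hYn _ (hYn y hy).2).1
      have hp : R0.perm (r1 * r2) = R0.perm r1 * R0.perm r2 := by
        rw [← actC_ι K hno r1, ← actC_ι K hno r2, ← actC_ι K hno (r1 * r2), ← map_mul]
        exact congrArg _ (Subtype.ext (map_mul _ _ _))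
      obtain ⟨k, hk⟩ : ∃ k : Fin 3, ![vA, vB, vA * vB] k = v := by
        simp only [Finset.mem_insert, Finset.mem_singleton] at hv
        rcases hv with h | h | h
        · exact ⟨0, h.symm⟩
        · exact ⟨1, h.symm⟩
        · exact ⟨2, h.symm⟩
      rcases hk ▸ fours_gen r1.s r1.t r2.s r2.t hp1 hp2 (hp ▸ hp12) k with h | h | h
      · obtain ⟨y', hy'⟩ := hconj hr1 (fun y hy => (hYn y hy).1) y
        exact ⟨y', by rw [hy', show R0.perm r1 = v from h.symm, e]⟩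
      · obtain ⟨y', hy'⟩ := hconj hr2 (fun y hy => (hYn y hy).2) y
        exact ⟨y', by rw [hy', show R0.perm r2 = v from h.symm, e]⟩
      · obtain ⟨y', hy'⟩ := hconj hr12 h12 y
        exact ⟨y', by rw [hy', hp, show R0.perm r1 * R0.perm r2 = v from h.symm, e]⟩
    rcases hbad with h | h
    · exact h (by rw [← hy', ← map_mul, ← map_mul]; exact hodd _)
    · exact h (by rw [← hy', ← map_inv, ← map_mul, ← map_mul, ← map_mul]; exact hodd _)
  -- hence the image lies in the core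
  intro y hy
  have h4 : actC K hno ⟨g * y * g⁻¹, hYC y hy⟩ ∈ fours := by
    rw [← hf y hy, hker]; exact one_mem _
  obtain ⟨r, o, ho, e⟩ := actC_fours K hno h4
  haveI : (Cfsg.oddCore K.C).Normal := Cores.pPrimeCore_normal 2 K.C
  obtain ⟨o', ho', rfl⟩ := ho
  set π := QuotientGroup.mk' (Cfsg.oddCore K.C)
  have hπ : π ⟨g * y * g⁻¹, hYC y hy⟩ = π ⟨K.ι r, K.S_le_centralizer (K.ι_mem r)⟩ := by
    rw [show (⟨g * y * g⁻¹, hYC y hy⟩ : K.C) =
      ⟨K.ι r, K.S_le_centralizer (K.ι_mem r)⟩ * o' from Subtype.ext e, map_mul,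
      show π o' = 1 from (QuotientGroup.eq_one_iff o').2 ho', mul_one]
  have hone : π ⟨g * y * g⁻¹, hYC y hy⟩ = 1 := by
    rw [← orderOf_eq_one_iff]
    refine Nat.eq_one_of_dvd_coprimes (Nat.Coprime.pow_right 7 (Nat.coprime_two_right.2 hY)) ?_ ?_
    · refine (orderOf_map_dvd _ _).trans ?_
      rw [← Subgroup.orderOf_coe]
      show orderOf (MulAut.conj g y) ∣ _
      rw [MulEquiv.orderOf_eq]
      exact Subgroup.orderOf_dvd_natCard _ hy
    · rw [hπ]
      refine (orderOf_map_dvd _ _).trans ?_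
      rw [← Subgroup.orderOf_coe]
      have := Subgroup.orderOf_dvd_natCard _ (K.ι_mem r)
      rwa [K.card_S] at this
  have hm : g * y * g⁻¹ ∈ 𝕆 (g * x * g⁻¹) := by
    rw [hgx]; exact ⟨_, (QuotientGroup.eq_one_iff _).1 hone, rfl⟩
  rw [← Signalizer.map_conj_centralizerPPrimeCore] at hm
  obtain ⟨y', hy', e'⟩ := hm
  rwa [(MulAut.conj g).injective e'] at hy'

end Cfsg.Agent.JSylowSimple
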