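import Cfsg.Agent.Lib.JSylowSimple.Centre
import Cfsg.Agent.Lib.NormEven.Tools

/-!
# Fusion of involutions (helper98, for S1776)

* `involution_cases` : the involutions of the Sylow subgroup
* `exists_conj_outer` : `N(A) ∩ C(z)` is transitive on the outer elements of `A`
* `exists_norm_conj` : a fusion of `z` to an outer element happens in `N(A)`
* `conj_u_z` : in a simple group `z` is conjugate to `u`
-/

set_option autoImplicit false
set_option maxRecDepth 100000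
set_option linter.style.haveILetI false
set_option linter.unusedSectionVars false

open Subgroup

namespace Cfsg.Agent.JSylowSimple

open J2Sylow

section Coordinates

theorem r0_involution_cases : ∀ r : R0, r * r = 1 → r ≠ 1 → r * R0.aa = R0.aa * r ∨
    R0.u 0 * r * R0.u 0 * R0.aa = R0.aa * (R0.u 0 * r * R0.u 0) ∨
    ∃ i, r = R0.u i ∨ r = R0.u i * R0.z := by decide +kernel

theorem r0_split : ∀ r : R0, R0.inB r ∨ R0.inB (r * R0.u 0) := by decide +kernel

theorem r0_quat : ∀ i : Fin 5, ∃ q1 q2 : R0, q1 * q1 = R0.z ∧ q2 * q2 = R0.z ∧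
    q1 * q2 * (q1 * q2) = R0.z ∧ q1 * R0.u i = R0.u i * q1 ∧ q2 * R0.u i = R0.u i * q2 := by
  decide +kernel

theorem r0_coset : ∀ w w' : R0, w.s = w'.s → w.t = w'.t → ¬ R0.inQ w → w * w = 1 → w' * w' = 1 →
    ∃ q, q * w * q⁻¹ = w' := by decide +kernel

theorem perm_inj : ∀ s t s' t' : Bool,
    ((bif s then vA else 1) * (bif t then vB else 1) : Equiv.Perm (Fin 5)) =
      (bif s' then vA else 1) * (bif t' then vB else 1) → s = s' ∧ t = t' := by decide +kernel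

/-- The three-cycle normalising the four-group. -/
def cyc : Equiv.Perm (Fin 5) := Equiv.swap 1 2 * Equiv.swap 2 3

theorem cyc_sign : Equiv.Perm.sign cyc = 1 := by decide +kernel

theorem cyc_tab : ∀ s t s' t' : Bool,
    ((bif s then vA else 1) * (bif t then vB else 1) : Equiv.Perm (Fin 5)) ≠ 1 →
    ((bif s' then vA else 1) * (bif t' then vB else 1) : Equiv.Perm (Fin 5)) ≠ 1 →
    ∃ k : Fin 3, cyc ^ (k : ℕ) * ((bif s then vA else 1) * (bif t then vB else 1)) *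
      (cyc ^ (k : ℕ))⁻¹ = (bif s' then vA else 1) * (bif t' then vB else 1) := by decide +kernel

theorem r0_conj_u4 : R0.u 0 * R0.u 4 * (R0.u 0)⁻¹ = R0.z * R0.u 4 := by decide +kernel

end Coordinates

universe v

variable {G : Type v} [Group G] (K : Cfg G)

local notation "𝕆" => Cfsg.centralizerPPrimeCore 2

theorem conjA_B {b a : G} (hb : b ∈ K.B) (ha : a ∈ K.A) : b * a * b⁻¹ ∈ K.A := by
  obtain ⟨r, rfl⟩ := K.exists_ι hb.1
  obtain ⟨w, rfl⟩ := K.exists_ι ha.1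
  rw [← map_inv, ← map_mul, ← map_mul, K.mem_A]
  exact R0.conj_cent_aa r (K.mem_B.1 hb) w (K.mem_A.1 ha)

theorem S_split {x : G} (hx : x ∈ (K.S : Subgroup G)) : x ∈ K.B ∨ x * K.u 0 ∈ K.B := by
  obtain ⟨r, rfl⟩ := K.exists_ι hx
  refine (r0_split r).imp K.mem_B.2 fun h => ?_
  rw [show K.u 0 = K.ι (R0.u 0) from rfl, ← map_mul]
  exact K.mem_B.2 h

theorem involution_cases {x : G} (hx : x ∈ (K.S : Subgroup G)) (h2 : x * x = 1) (h1 : x ≠ 1) :
    x ∈ K.A ∨ K.u 0 * x * K.u 0 ∈ K.A ∨ ∃ i, x = K.u i ∨ x = K.u i * K.z := by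
  obtain ⟨r, rfl⟩ := K.exists_ι hx
  rcases r0_involution_cases r (K.inj (by rw [map_mul, h2, map_one]))
    (fun e => h1 (by rw [e, map_one])) with h | h | ⟨i, h | h⟩
  · exact Or.inl (K.mem_A.2 h)
  · refine Or.inr (Or.inl ?_)
    rw [show K.u 0 = K.ι (R0.u 0) from rfl, ← map_mul, ← map_mul]
    exact K.mem_A.2 h
  · exact Or.inr (Or.inr ⟨i, Or.inl (h ▸ rfl)⟩)
  · exact Or.inr (Or.inr ⟨i, Or.inr (by rw [h, map_mul]; rfl)⟩)

theorem exists_quat (i : Fin 5) : ∃ q1 ∈ (K.S : Subgroup G), ∃ q2 ∈ (K.S : Subgroup G),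
    q1 * q1 = K.z ∧ q2 * q2 = K.z ∧ q1 * q2 * (q1 * q2) = K.z ∧
    q1 * K.u i = K.u i * q1 ∧ q2 * K.u i = K.u i * q2 := by
  obtain ⟨q1, q2, e1, e2, e3, e4, e5⟩ := r0_quat i
  refine ⟨K.ι q1, K.ι_mem _, K.ι q2, K.ι_mem _, ?_, ?_, ?_, ?_, ?_⟩
  all_goals simp only [Cfg.z, Cfg.u, ← map_mul, e1, e2, e3, e4, e5]

theorem A_cases {x : G} (hx : x ∈ K.A) :
    x = 1 ∨ x = K.z ∨ x = K.u 4 ∨ x = K.z * K.u 4 ∨ Outer K x := by
  by_cases h : x ∈ zpowers K.z ⊔ zpowers (K.u 4)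
  · obtain ⟨r, hr, rfl⟩ := V_cases K h
    rcases (r0_inV_iff r).1 hr with e | e | e | e <;> subst e
    · exact Or.inl (map_one _)
    · exact Or.inr (Or.inl rfl)
    · exact Or.inr (Or.inr (Or.inl rfl))
    · exact Or.inr (Or.inr (Or.inr (Or.inl (map_mul _ _ _))))
  · exact Or.inr (Or.inr (Or.inr (Or.inr ⟨hx, h⟩)))

theorem V_le_A {x : G} (hx : x ∈ zpowers K.z ⊔ zpowers (K.u 4)) : x ∈ K.A := by
  obtain ⟨r, hr, rfl⟩ := V_cases K hx
  exact K.mem_A.2 ((by decide +kernel : ∀ v, R0.inV v → v * R0.aa = R0.aa * v) r hr)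

theorem conj_u_uz : K.u 0 * K.u 4 * (K.u 0)⁻¹ = K.z * K.u 4 := by
  simp only [Cfg.z, Cfg.u, ← map_inv, ← map_mul, r0_conj_u4]

theorem move {t : G} (ht : Outer K t) : ∃ n : G, n * K.z = K.z * n ∧ n * K.u 4 = K.u 4 * n ∧
    (∀ a ∈ K.A, n * a * n⁻¹ ∈ K.A) ∧ n * t * n⁻¹ = t * K.z := by
  obtain ⟨w, hw1, hw2, rfl⟩ := ht.exists_ι
  obtain ⟨q, hq, hqw⟩ := R0.move_outer w hw1 hw2
  refine ⟨K.ι q, K.z_comm (K.ι_mem q), ?_, fun a ha => conjA_B K (K.mem_B.2 hq) ha, ?_⟩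
  · exact K.ι_comm.2 hq
  · rw [← map_inv, ← map_mul, ← map_mul, hqw, map_mul]; rfl

omit K in
/-- An involution in the coset of an involution modulo an odd element it inverts is conjugate to it. -/
theorem conj_of_inverted {x o : G} (hx : x * x = 1) (h : x * o * (x * o) = 1) (ho : Odd (orderOf o)) :
    ∃ k : ℕ, o ^ k * (x * o) * (o ^ k)⁻¹ = x := by
  obtain ⟨m, hm⟩ := ho
  refine ⟨m + 1, ?_⟩
  have hxi : x⁻¹ = x := inv_eq_of_mul_eq_one_right hx
  have e : x * o * x⁻¹ = o⁻¹ := by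
    rw [hxi, eq_inv_iff_mul_eq_one]
    simpa [mul_assoc] using h
  have hp : x * o ^ (m + 1) * x⁻¹ = (o ^ (m + 1))⁻¹ := by rw [← conj_pow, e, inv_pow]
  have hsq : o ^ (m + 1) * o ^ (m + 1) = o := by
    rw [← pow_add, show m + 1 + (m + 1) = 1 + orderOf o by omega, pow_add, pow_one,
      pow_orderOf_eq_one, mul_one]
  have e2 : o ^ (m + 1) * x = x * (o ^ (m + 1))⁻¹ := by
    rw [← hp]
    simp [hxi, mul_assoc, ← mul_assoc x x, hx]
  calc o ^ (m + 1) * (x * o) * (o ^ (m + 1))⁻¹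
      = o ^ (m + 1) * x * (o * (o ^ (m + 1))⁻¹) := by group
    _ = x * (o ^ (m + 1))⁻¹ * (o * (o ^ (m + 1))⁻¹) := by rw [e2]
    _ = x := by
      generalize hp' : o ^ (m + 1) = p at hsq ⊢
      rw [← hsq]; group

variable [Finite G] (hno : TwoTimesPSL.NoIndexTwo G)

include hno

/-- `N(A) ∩ C(z)` is transitive on the outer elements. -/
theorem exists_conj_outer {t t' : G} (ht : Outer K t) (ht' : Outer K t') : ∃ c : G,
    c * K.z = K.z * c ∧ (∀ a ∈ K.A, c * a * c⁻¹ ∈ K.A) ∧ c * t * c⁻¹ = t' := by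
  obtain ⟨w, hw1, hw2, rfl⟩ := ht.exists_ι
  obtain ⟨w', hw1', hw2', rfl⟩ := ht'.exists_ι
  have hne : ∀ {r : R0}, r * R0.aa = R0.aa * r → ¬ R0.inV r → R0.perm r ≠ 1 := fun {r} h1 h2 h =>
    r0_not_inQ r h1 h2 (R0.perm_eq_one r.s r.t h)
  obtain ⟨k, hk⟩ := cyc_tab w.s w.t w'.s w'.t (hne hw1 hw2) (hne hw1' hw2')
  obtain ⟨n, hn⟩ : cyc ∈ K.pairs.range := by
    rw [K.range_pairs hno, Equiv.Perm.mem_alternatingGroup]; exact cyc_sign
  set C := centralizer ({K.z} : Set G) with hC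
  set n' : C := ⟨n, K.N_le_C n.2⟩ ^ (k : ℕ) with hn'
  have hact : actC K hno n' = cyc ^ (k : ℕ) := by
    rw [hn', map_pow, actC_eq K hno (n := n) (one_mem _) (mul_one _).symm, hn]
  set y : C := n' * ⟨K.ι w, K.S_le_centralizer (K.ι_mem w)⟩ * n'⁻¹ with hy
  have hyp : actC K hno y = R0.perm w' := by
    rw [hy, map_mul, map_mul, map_inv, hact, actC_ι]; exact hk
  obtain ⟨r, o, ho, e⟩ := actC_fours K hno (x := y) (by
    rw [hyp]
    exact mem_fours.2 (R0.perm_mem w'))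
  have hr : R0.perm r = R0.perm w' := by
    rw [← hyp, actC_eq K hno (n := ⟨K.ι r, K.S_le_N (K.ι_mem r)⟩) ho e, K.pairs_ι]
  obtain ⟨hs, hst⟩ := perm_inj r.s r.t w'.s w'.t hr
  have hy2 : K.ι r * o * (K.ι r * o) = 1 := by
    rw [← e, hy]
    simp only [Subgroup.coe_mul, Subgroup.coe_inv, conj_mul]
    rw [A_sq K (K.mem_A.2 hw1)]
    group
  have hr2 : r * r = 1 := by
    refine ι_O K ?_
    rw [map_mul, show K.ι r * K.ι r = K.ι r * o⁻¹ * (K.ι r)⁻¹ * o⁻¹ by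
      rw [eq_mul_inv_iff_mul_eq, eq_mul_inv_iff_mul_eq, eq_mul_inv_iff_mul_eq, ← mul_one (K.ι r)]
      conv_rhs => rw [← hy2]
      group]
    exact mul_mem (O_conj K (K.S_le_centralizer (K.ι_mem r)) (inv_mem ho)) (inv_mem ho)
  have hoo : Odd (orderOf o) := by
    rw [← Nat.not_even_iff_odd, even_iff_two_dvd]
    exact fun h => odd_O K (h.trans (Subgroup.orderOf_dvd_natCard _ ho))
  obtain ⟨m, hm⟩ := conj_of_inverted (x := K.ι r) (o := o) (by rw [← map_mul, hr2, map_one]) hy2 hoo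
  obtain ⟨q, hq⟩ := r0_coset r w' hs hst (fun h => r0_not_inQ w' hw1' hw2' ⟨hs ▸ h.1, hst ▸ h.2⟩) hr2
    (Cfg.aa_data.2 w' hw1').1
  set c0 : G := K.ι q * o ^ m * (n' : G) with hc0
  have hc0z : c0 * K.z = K.z * c0 := mem_centralizer_singleton_iff.1
    (mul_mem (mul_mem (K.S_le_centralizer (K.ι_mem q)) (pow_mem (O_le_C K ho) m)) n'.2)
  have hc0t : c0 * K.ι w * c0⁻¹ = K.ι w' := by
    rw [hc0, show K.ι q * o ^ m * (n' : G) * K.ι w * (K.ι q * o ^ m * (n' : G))⁻¹ =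
      K.ι q * (o ^ m * ((n' : G) * K.ι w * (n' : G)⁻¹) * (o ^ m)⁻¹) * (K.ι q)⁻¹ by group,
      show (n' : G) * K.ι w * (n' : G)⁻¹ = K.ι r * o from e, hm, ← map_inv, ← map_mul, ← map_mul, hq]
  obtain ⟨d, hdz, hdt, hdA⟩ := conj_A K hno ht'
    ((K.S.2.to_le (inf_le_left : K.A ≤ _)).map (MulAut.conj c0).toMonoidHom) (by
      rintro _ ⟨a, ha, rfl⟩
      refine ⟨?_, ?_⟩ <;> show c0 * a * c0⁻¹ * _ = _ * (c0 * a * c0⁻¹)
      · rw [← hc0t, conj_mul, conj_mul, A_comm K ha ht.1]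
      · rw [← show c0 * K.z * c0⁻¹ = K.z from mul_inv_eq_iff_eq_mul.2 hc0z, conj_mul, conj_mul,
          K.z_comm ha.1])
  refine ⟨d * c0, by rw [mul_assoc, hc0z, ← mul_assoc, hdz, mul_assoc], fun a ha => ?_, ?_⟩
  · have := hdA _ ⟨a, ha, rfl⟩
    simpa [mul_assoc] using this
  · rw [show d * c0 * K.ι w * (d * c0)⁻¹ = d * (c0 * K.ι w * c0⁻¹) * d⁻¹ by group, hc0t, hdt,
      mul_inv_cancel_right]

omit hno in
/-- A fusion of `z` with an element of `A` happens in the normaliser of `A`. -/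
theorem exists_norm_conj {t : G} (ht : t ∈ K.A) (h : IsConj K.z t) :
    ∃ m : G, (∀ a ∈ K.A, m * a * m⁻¹ ∈ K.A) ∧ m * t * m⁻¹ = K.z := by
  obtain ⟨g, hg⟩ := isConj_iff.1 h.symm
  obtain ⟨c, hc, hcS⟩ := K.conj_into K.S_le_centralizer (P := K.A.map (MulAut.conj g).toMonoidHom) (by
    rintro _ ⟨a, ha, rfl⟩
    refine mem_centralizer_singleton_iff.2 ?_
    show g * a * g⁻¹ * K.z = K.z * (g * a * g⁻¹)
    rw [← hg, conj_mul, conj_mul, A_comm K ha ht]) ((K.S.2.to_le (inf_le_left : K.A ≤ _)).map _)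
  set k := c * g with hk
  have hkt : k * t * k⁻¹ = K.z := by
    rw [hk, show c * g * t * (c * g)⁻¹ = c * (g * t * g⁻¹) * c⁻¹ by group, hg,
      mem_centralizer_singleton_iff.1 hc, mul_inv_cancel_right]
  set X := K.A.map (MulAut.conj k).toMonoidHom with hX
  have hXS : X ≤ (K.S : Subgroup G) := by
    rintro _ ⟨a, ha, rfl⟩
    show k * a * k⁻¹ ∈ _
    rw [hk, show c * g * a * (c * g)⁻¹ = c * (g * a * g⁻¹) * c⁻¹ by group]
    exact hcS _ ⟨a, ha, rfl⟩
  rcases K.sixteen hXS (by rw [hX, Subgroup.card_map_of_injective (MulAut.conj k).injective, K.card_A])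
    (by
      rintro _ ⟨x, hx, rfl⟩ _ ⟨y, hy, rfl⟩
      rw [← map_mul, ← map_mul, A_comm K hx hy])
    (by
      rintro _ ⟨x, hx, rfl⟩
      rw [← map_mul, A_sq K hx, map_one]) with e | e
  · exact ⟨k, fun a ha => e.le ⟨a, ha, rfl⟩, hkt⟩
  · have hu : (K.u 0)⁻¹ = K.u 0 := inv_eq_of_mul_eq_one_right (K.frame.u_sq 0)
    refine ⟨K.u 0 * k, fun a ha => ?_, ?_⟩
    · obtain ⟨r, hr⟩ := K.exists_ι (hXS ⟨a, ha, rfl⟩)
      have hrX : K.ι r ∈ X := hr ▸ ⟨a, ha, rfl⟩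
      rw [show K.u 0 * k * a * (K.u 0 * k)⁻¹ = K.u 0 * (k * a * k⁻¹) * (K.u 0)⁻¹ by group,
        show k * a * k⁻¹ = K.ι r from hr.symm, hu,
        show K.u 0 = K.ι (R0.u 0) from rfl, ← map_mul, ← map_mul, K.mem_A]
      exact (R0.flip_cent r).1 ((e r).1 hrX)
    · rw [show K.u 0 * k * t * (K.u 0 * k)⁻¹ = K.u 0 * (k * t * k⁻¹) * (K.u 0)⁻¹ by group, hkt,
        show K.u 0 * K.z = K.z * K.u 0 from K.z_comm (K.ι_mem _)]
      exact mul_inv_cancel_right _ _

omit hno in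
/-- In a simple group `z` is conjugate to `u`. -/
theorem conj_u_z [IsSimpleGroup G] (hna : ¬ IsMulCommutative G) : IsConj K.z (K.u 4) := by
  by_contra hnot
  have hno : TwoTimesPSL.NoIndexTwo G := TwoTimesPSL.noIndexTwo_of_simple hna
  have huz : IsConj (K.u 4) (K.z * K.u 4) := isConj_iff.2 ⟨_, conj_u_uz K⟩
  have hnot' : ¬ IsConj K.z (K.z * K.u 4) := fun h => hnot (h.trans huz.symm)
  have hz : orderOf K.z = 2 := by
    haveI : Fact (Nat.Prime 2) := ⟨Nat.prime_two⟩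
    exact orderOf_eq_prime (by rw [pow_two]; exact K.z_sq) K.frame.z_ne
  -- some conjugate of `z` other than `z` lies in the Sylow subgroup
  obtain ⟨t, ht, hzt⟩ : ∃ t, Outer K t ∧ IsConj K.z t := by
    by_contra hno'
    push Not at hno'
    refine NormEven.isolated_contra hna K.S hz (K.ι_mem _) fun g hg => ?_
    by_contra hgz
    set y := g * K.z * g⁻¹ with hy
    have hzy : IsConj K.z y := isConj_iff.2 ⟨g, rfl⟩
    have hA : ∀ x ∈ K.A, IsConj K.z x → x = K.z := by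
      intro x hx hzx
      rcases A_cases K hx with e | e | e | e | e
      · rw [e, isConj_comm, isConj_one_right] at hzx
        exact absurd hzx K.frame.z_ne
      · exact e
      · exact absurd (e ▸ hzx) hnot
      · exact absurd (e ▸ hzx) hnot'
      · exact absurd hzx (hno' x e)
    rcases involution_cases K hg (by rw [hy, conj_mul, K.z_sq]; group)
      (fun e => K.frame.z_ne (conj_eq_one_iff.1 e)) with h | h | ⟨i, h⟩
    · exact hgz (hA y h hzy)
    · have hu : (K.u 0)⁻¹ = K.u 0 := inv_eq_of_mul_eq_one_right (K.frame.u_sq 0)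
      have := hA _ h (hzy.trans (isConj_iff.2 ⟨K.u 0, by rw [hu]⟩))
      refine hgz ?_
      calc y = (K.u 0)⁻¹ * (K.u 0 * y * K.u 0) * (K.u 0)⁻¹ := by group
        _ = K.z := by
          rw [this, hu, show K.u 0 * K.z = K.z * K.u 0 from K.z_comm (K.ι_mem _), mul_assoc,
            show K.u 0 * K.u 0 = 1 from K.frame.u_sq 0, mul_one]
    · obtain ⟨c, hc, hci⟩ := conj_u K hno i
      obtain ⟨j, hj⟩ : ∃ j ∈ ({K.u 4, K.z * K.u 4} : Set G), IsConj j y := by
        have hcz : c * (K.z * K.u 4) * c⁻¹ = c * K.u 4 * c⁻¹ * K.z := by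
          rw [← conj_mul, mul_inv_eq_iff_eq_mul.2 (mem_centralizer_singleton_iff.1 hc)]
          have := mem_centralizer_singleton_iff.1 (mul_mem (mul_mem hc
            (K.S_le_centralizer (K.ι_mem (R0.u 4)))) (inv_mem hc))
          exact this.symm
        rcases h with h | h <;> rcases hci with hci | hci
        · exact ⟨_, Or.inl rfl, isConj_iff.2 ⟨c, hci.trans h.symm⟩⟩
        · exact ⟨_, Or.inr rfl, isConj_iff.2 ⟨c, by rw [hcz, hci, h, mul_assoc, K.z_sq, mul_one]⟩⟩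
        · exact ⟨_, Or.inr rfl, isConj_iff.2 ⟨c, by rw [hcz, hci, h]⟩⟩
        · exact ⟨_, Or.inl rfl, isConj_iff.2 ⟨c, hci.trans h.symm⟩⟩
      rcases hj with ⟨rfl | rfl, hj⟩
      · exact hnot (hzy.trans hj.symm)
      · exact hnot' (hzy.trans hj.symm)
  -- the normaliser of `A` fixes the pair `u, zu`, hence `z`
  obtain ⟨m, hmA, hmt⟩ := exists_norm_conj K ht.1 hzt
  have hU : ∀ x ∈ ({K.u 4, K.z * K.u 4} : Set G),
      m * x * m⁻¹ ∈ ({K.u 4, K.z * K.u 4} : Set G) := by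
    intro x hx
    have hnx : ¬ IsConj K.z x := by rcases hx with rfl | rfl <;> assumption
    have hxA : x ∈ K.A := by
      rcases hx with rfl | rfl
      · exact V_le_A K (mem_sup_right (mem_zpowers _))
      · exact V_le_A K (mul_mem (mem_sup_left (mem_zpowers _)) (mem_sup_right (mem_zpowers _)))
    have hcj : IsConj x (m * x * m⁻¹) := isConj_iff.2 ⟨m, rfl⟩
    rcases A_cases K (hmA x hxA) with e | e | e | e | e
    · exfalso
      rw [e] at hcj
      rw [isConj_one_left] at hcj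
      rcases hx with rfl | rfl
      · exact (R0.u_basic.1 4).2.1 (K.inj (hcj.trans (map_one K.ι).symm))
      · exact (by decide +kernel : R0.z * R0.u 4 ≠ 1)
          (K.inj ((map_mul K.ι _ _).trans (hcj.trans (map_one K.ι).symm)))
    · exact absurd (e ▸ hcj).symm hnx
    · exact Or.inl e
    · exact Or.inr e
    · obtain ⟨c, -, -, hc⟩ := exists_conj_outer K hno ht e
      exact absurd ((hzt.trans (isConj_iff.2 ⟨c, hc⟩)).trans hcj.symm) hnx
  have hmz : m * K.z * m⁻¹ = K.z := by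
    have hu2 : K.u 4 * K.u 4 = 1 := K.frame.u_sq 4
    have e : K.z = K.u 4 * (K.z * K.u 4) := by
      rw [← mul_assoc, show K.u 4 * K.z = K.z * K.u 4 from K.z_comm (K.ι_mem _), mul_assoc, hu2,
        mul_one]
    conv_lhs => rw [e, ← conj_mul]
    have e1 := hU _ (Or.inl rfl)
    have e2 := hU _ (Or.inr rfl)
    rcases e1 with e1 | e1 <;> rcases e2 with e2 | e2
    · have := e1.trans e2.symm
      exact absurd (mul_left_cancel (mul_right_cancel this)) (fun h => K.frame.z_ne (right_eq_mul.1 h))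
    · rw [e1, e2]; exact e.symm
    · rw [e1, e2, mul_assoc, hu2, mul_one]
    · have := e1.trans e2.symm
      exact absurd (mul_left_cancel (mul_right_cancel this)) (fun h => K.frame.z_ne (right_eq_mul.1 h))
  exact ht.2 (mul_left_cancel (mul_right_cancel (hmt.trans hmz.symm)) ▸ mem_sup_left (mem_zpowers _))

end Cfsg.Agent.JSylowSimple
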