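import Cfsg.Prelude.Def_Local
import Cfsg.Agent.EqLemmas
import Mathlib

/-!
# A group with trivial odd core and a fused Klein Sylow 2-subgroup (helper51, for S1776)
-/

set_option autoImplicit false

namespace Cfsg.Agent.JSylowSimple

/-- `⟨z, u⟩` is a Sylow 2-subgroup, `O(K) = 1` and `c` cycles `z, u, z u`. -/
structure Quad {K : Type*} [Group K] (z u c : K) : Prop where
  core : Cfsg.oddCore K = ⊥
  klein : IsKleinFour (Subgroup.closure ({z, u} : Set K))
  sylow : ∃ P : Sylow 2 K, (P : Subgroup K) = Subgroup.closure ({z, u} : Set K)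
  z2 : orderOf z = 2
  u2 : orderOf u = 2
  zu : Commute z u
  cz : c * z * c⁻¹ = u
  cu : c * u * c⁻¹ = z * u

end Cfsg.Agent.JSylowSimple
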