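/-
A finite group with trivial odd core, Klein four Sylow 2-subgroups and an element cycling the three involutions.

Main results (namespace `Cfsg.Agent.JSylowSimple`): `Quad`, `Quad.exists_torus`, `Quad.eq_one_of_no_torus`,
`Quad.eq_one_of_invariant`.
-/
import Cfsg.Agent.Lib.JSylowSimple.Quad
import Cfsg.Agent.Lib.AbelianSylowTwo.Simple
import Cfsg.Agent.Lib.GWKlein.General.Main
import Cfsg.Agent.Lib.GWKlein.General.L2Facts
import Cfsg.Agent.Lib.AbelianSylow.Cent.FieldPSL

set_option autoImplicit false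
set_option linter.style.haveILetI false

open Subgroup
open scoped commutatorElement

namespace Cfsg.Agent.JSylowSimple

theorem eq_sq_pow {K : Type*} [Group K] {x : K} (hx : Odd (orderOf x)) : ∃ j : ℕ, x = (x * x) ^ j := by
  obtain ⟨j, hj⟩ := hx
  exact ⟨j + 1, by
    rw [← pow_two, ← pow_mul, show 2 * (j + 1) = orderOf x + 1 by omega, pow_succ, pow_orderOf_eq_one, one_mul]⟩

theorem eq_one_of_sq {K : Type*} [Group K] {x : K} (hx : Odd (orderOf x)) (h : x * x = 1) : x = 1 := by
  obtain ⟨j, hj⟩ := eq_sq_pow hx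
  rw [hj, h, one_pow]

theorem ringEquiv_eq_one {F : Type} [Field F] [Finite F] (h5 : Nat.card F = 5) (σ : F ≃+* F) : σ = 1 := by
  have := Fintype.ofFinite F
  haveI : Fact (Nat.Prime 5) := ⟨by norm_num⟩
  let φ : ZMod 5 ≃+* F := ZMod.ringEquivOfPrime F (Fact.out) (by rw [← Nat.card_eq_fintype_card, h5])
  refine RingEquiv.ext fun x => ?_
  have h : σ.toRingHom.comp φ.toRingHom = φ.toRingHom := RingHom.ext_zmod _ _
  obtain ⟨k, rfl⟩ := φ.surjective x
  exact congrArg (fun f : ZMod 5 →+* F => f k) h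

namespace Quad

variable {K : Type*} [Group K] [Finite K] {z u c : K} (h : Quad z u c)
include h

theorem z_mul : z * z = 1 := by rw [← pow_two, ← h.z2, pow_orderOf_eq_one]
theorem u_mul : u * u = 1 := by rw [← pow_two, ← h.u2, pow_orderOf_eq_one]
theorem u_ne : u ≠ 1 := fun e => by simpa [e] using h.u2
theorem z_ne : z ≠ 1 := fun e => by simpa [e] using h.z2

theorem z_ne_u : z ≠ u := fun e => by
  have h1 := h.cu
  rw [← e, h.cz, ← e, h.z_mul] at h1
  exact h.z_ne h1

theorem mem_cases {v : K} (hv : v ∈ Subgroup.closure ({z, u} : Set K)) : v = 1 ∨ v = z ∨ v = u ∨ v = z * u := by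
  have r1 : u * z = z * u := h.zu.eq.symm
  have r2 : z * (z * u) = u := by rw [← mul_assoc, h.z_mul, one_mul]
  have r3 : u * (z * u) = z := by rw [← mul_assoc, r1, mul_assoc, h.u_mul, mul_one]
  have r4 : z * u * z = u := by rw [mul_assoc, r1, r2]
  have r5 : z * u * u = z := by rw [mul_assoc, h.u_mul, mul_one]
  have r6 : z * u * (z * u) = 1 := by rw [mul_assoc, r3, h.z_mul]
  have iz : z⁻¹ = z := inv_eq_of_mul_eq_one_right h.z_mul
  have iu : u⁻¹ = u := inv_eq_of_mul_eq_one_right h.u_mul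
  induction hv using Subgroup.closure_induction with
  | mem x hx => rcases hx with rfl | rfl <;> simp
  | one => exact Or.inl rfl
  | mul x y _ _ hx hy =>
    rcases hx with rfl | rfl | rfl | rfl <;> rcases hy with rfl | rfl | rfl | rfl <;>
      simp only [one_mul, mul_one, h.z_mul, h.u_mul, r1, r2, r3, r4, r5, r6, true_or, or_true]
  | inv x _ hx =>
    rcases hx with rfl | rfl | rfl | rfl <;>
      simp only [inv_one, iz, iu, mul_inv_rev, r1, true_or, or_true]

theorem z_mem : z ∈ Subgroup.closure ({z, u} : Set K) := Subgroup.subset_closure (by simp)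
theorem u_mem : u ∈ Subgroup.closure ({z, u} : Set K) := Subgroup.subset_closure (by simp)

omit [Finite K] h in
theorem commute_of_mem {e v : K} (he1 : Commute e z) (he2 : Commute e u)
    (hv : v ∈ Subgroup.closure ({z, u} : Set K)) : Commute e v := by
  induction hv using Subgroup.closure_induction with
  | mem x hx => rcases hx with rfl | rfl <;> assumption
  | one => exact Commute.one_right e
  | mul x y _ _ hx hy => exact hx.mul_right hy
  | inv x _ hx => exact hx.inv_right

/-- Normal two-core: no element of odd order centralises `z`. -/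
theorem trivial_of_pCore (h2 : Cfsg.pCore 2 K ≠ ⊥) {x : K} (hx : Odd (orderOf x)) (hxz : Commute x z) : x = 1 := by
  haveI : Fact (Nat.Prime 2) := ⟨Nat.prime_two⟩
  obtain ⟨P, hP⟩ := h.sylow
  set V := Subgroup.closure ({z, u} : Set K) with hV
  set O := Cfsg.pCore 2 K with hO
  haveI hOn : O.Normal := Cores.pCore_normal 2 K
  have hOV : O ≤ V := hP ▸ Cores.pCore_le_sylow P
  obtain ⟨v, hvO, hv1⟩ := (ne_bot_iff_exists_ne_one.1 h2 |> fun ⟨a, ha⟩ =>
    ⟨a.1, a.2, fun e => ha (Subtype.ext e)⟩ : ∃ v, v ∈ O ∧ v ≠ 1)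
  have hu_z : u ∈ O → z * u ∈ O := fun hm => h.cu ▸ hOn.conj_mem u hm c
  have hzu_z : z * u ∈ O → z ∈ O := fun hm => by
    have h1 := hOn.conj_mem _ hm c
    rwa [show c * (z * u) * c⁻¹ = c * z * c⁻¹ * (c * u * c⁻¹) by group, h.cz, h.cu,
      ← mul_assoc, h.zu.eq.symm, mul_assoc, h.u_mul, mul_one] at h1
  have hzO : z ∈ O := by
    rcases h.mem_cases (hOV hvO) with rfl | rfl | rfl | rfl
    · exact absurd rfl hv1
    · exact hvO
    · exact hzu_z (hu_z hvO)
    · exact hzu_z hvO
  have hOeq : O = V := le_antisymm hOV ((closure_le _).2 (by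
    rintro a (rfl | rfl)
    · exact hzO
    · exact h.cz ▸ hOn.conj_mem z hzO c))
  haveI hVn : V.Normal := hOeq ▸ hOn
  -- `x` centralises `u`
  have hxu : Commute x u := by
    have h1 := hVn.conj_mem u h.u_mem x
    rcases h.mem_cases h1 with e | e | e | e
    · exact absurd (conj_eq_one_iff.1 e) h.u_ne
    · refine absurd ?_ h.z_ne_u
      have h2 : x * u * x⁻¹ = x * z * x⁻¹ := by rw [e, hxz.eq, mul_inv_cancel_right]
      exact (mul_left_cancel (mul_right_cancel h2)).symm
    · exact mul_inv_eq_iff_eq_mul.1 e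
    · obtain ⟨j, hj⟩ := eq_sq_pow hx
      have h2 : x * x * u * (x * x)⁻¹ = u := by
        rw [show x * x * u * (x * x)⁻¹ = x * (x * u * x⁻¹) * x⁻¹ by group, e,
          show x * (z * u) * x⁻¹ = x * z * x⁻¹ * (x * u * x⁻¹) by group, e, hxz.eq, mul_inv_cancel_right,
          ← mul_assoc, h.z_mul, one_mul]
      rw [hj]
      exact Commute.pow_left (mul_inv_eq_iff_eq_mul.1 h2) j
  set C := centralizer (V : Set K) with hC
  haveI : C.Normal := inferInstance
  have hxC : x ∈ C := mem_centralizer_iff.2 fun y hy => (commute_of_mem hxz hxu hy).eq.symm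
  have hPC : (P : Subgroup K) ≤ C := by
    rw [hP]
    exact fun a ha => mem_centralizer_iff.2 fun y hy =>
      (commute_of_mem (commute_of_mem (Commute.refl z) h.zu ha).symm
        (commute_of_mem h.zu.symm (Commute.refl u) ha).symm hy).eq.symm
  set Q : Sylow 2 C := P.subtype hPC with hQ
  have hQV : ∀ {a : C}, a ∈ (Q : Subgroup C) → (a : K) ∈ V := fun {a} ha => hP ▸ (mem_subgroupOf.1 (by
    simpa [hQ] using ha))
  have hnc : normalizer ((Q : Subgroup C) : Set C) ≤ centralizer ((Q : Subgroup C) : Set C) := fun a _ =>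
    mem_centralizer_iff.2 fun b hb => Subtype.ext (mem_centralizer_iff.1 a.2 b (hQV hb))
  have hcpl := MonoidHom.ker_transferSylow_isComplement' Q hnc
  have hker : (MonoidHom.transferSylow Q hnc).ker = ⊥ := by
    have h1 : Cfsg.pPrimeCore 2 C = ⊥ := by
      refine (map_eq_bot_iff_of_injective _ C.subtype_injective).1 ?_
      rw [Cores.pPrimeCore_map_subtype, show Cfsg.pPrimeCore 2 K = ⊥ from h.core, bot_inf_eq]
    exact le_bot_iff.1 (h1 ▸ Cores.le_pPrimeCore inferInstance (Nat.coprime_comm.1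
      (Nat.prime_two.coprime_iff_not_dvd.2 (MonoidHom.not_dvd_card_ker_transferSylow Q hnc))))
  rw [hker, isComplement'_bot_left] at hcpl
  have hxV : x ∈ V := hQV (a := ⟨x, hxC⟩) (hcpl ▸ mem_top _)
  refine eq_one_of_sq hx ?_
  rcases h.mem_cases hxV with e | e | e | e <;> rw [e]
  · exact one_mul 1
  · exact h.z_mul
  · exact h.u_mul
  · rw [mul_assoc, ← mul_assoc u, ← h.zu.eq, mul_assoc z u, h.u_mul, mul_one, h.z_mul]

open GWKlein in
/-- The two cases. -/
theorem cases :
    (∀ x : K, Odd (orderOf x) → Commute x z → x = 1) ∨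
      ∃ (M : Subgroup K) (_ : M.Normal), centralizer (M : Set K) = ⊥ ∧ z ∈ M ∧ u ∈ M ∧
        ∃ (F : Type) (_ : Field F) (_ : Finite F) (n : ℕ), L2.TorusOrder F n ∧
          Nonempty (M ≃* PSL2.PSL2 F) := by
  haveI : Fact (Nat.Prime 2) := ⟨Nat.prime_two⟩
  by_cases h2 : Cfsg.pCore 2 K = ⊥
  · right
    obtain ⟨P, hP⟩ := h.sylow
    have hk : IsKleinFour (P : Subgroup K) := hP ▸ h.klein
    obtain ⟨M, hMn, hs, hna, hPM, hC⟩ := AbelianSylowTwo.exists_simple_normal h.core h2 P hk
    haveI := hs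
    have hk' : IsKleinFour ((P.subtype hPM : Sylow 2 M) : Subgroup M) := by
      have e : ((P.subtype hPM : Sylow 2 M) : Subgroup M) ≃* (P : Subgroup K) := subgroupOfEquivOfLe hPM
      exact ⟨(Nat.card_congr e.toEquiv).trans hk.card_four,
        (Monoid.exponent_eq_of_mulEquiv e).trans hk.exponent_two⟩
    obtain ⟨F, _, _, hodd, ⟨e⟩⟩ := klein_of_step kleinStep M hna (P.subtype hPM) hk'
    obtain ⟨F', _, _, h8, h3, ⟨e'⟩⟩ := psl_arith hna hodd e fun hd => by
      have h' := (P.subtype hPM).pow_dvd_card_of_pow_dvd_card (n := 3) (by simpa using hd)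
      rw [hk'.card_four] at h'
      norm_num at h'
    rw [← Nat.card_eq_fintype_card] at h8 h3
    obtain ⟨n, hn⟩ := L2.exists_torusOrder F' h8 h3
    exact ⟨M, hMn, hC, hPM (hP ▸ h.z_mem), hPM (hP ▸ h.u_mem), F', inferInstance, inferInstance, n, hn, ⟨e'⟩⟩
  · exact Or.inl fun x hx hxz => h.trivial_of_pCore h2 hx hxz

omit [Finite K] h in
theorem mem_of_inverted {M : Subgroup K} [hM : M.Normal] (hu : u ∈ M) {x : K} (hx : Odd (orderOf x))
    (hxu : u * x * u⁻¹ = x⁻¹) : x ∈ M := by
  obtain ⟨j, hj⟩ := eq_sq_pow hx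
  have h1 : x * x ∈ M := by
    have h1 := mul_mem (hM.conj_mem u hu x) (inv_mem hu)
    rwa [show x * u * x⁻¹ * u⁻¹ = x * (u * x * u⁻¹)⁻¹ by group, hxu, inv_inv] at h1
  rw [hj]
  exact pow_mem h1 j

/-- (1) The elements of odd order centralising `z` and inverted by `u` lie in a cyclic group. -/
theorem exists_torus : ∃ τ : K, ∀ x : K, Odd (orderOf x) → Commute x z → u * x * u⁻¹ = x⁻¹ →
    x ∈ Subgroup.zpowers τ := by
  rcases h.cases with h1 | ⟨M, hM, -, hz, hu, F, _, _, n, hn, ⟨e⟩⟩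
  · exact ⟨1, fun x hx hxz _ => by rw [h1 x hx hxz]; exact one_mem _⟩
  have hez : orderOf (e ⟨z, hz⟩) = 2 := by
    rw [MulEquiv.orderOf_eq, Subgroup.orderOf_mk, h.z2]
  obtain ⟨y, hy, hyz, -⟩ := hn.exists_torus hez
  refine ⟨(e.symm y : M), fun x hx hxz hxu => ?_⟩
  have hxM := mem_of_inverted hu hx hxu
  have h1 := hn.mem_torus hez hy hyz (x := e ⟨x, hxM⟩)
    (by rwa [MulEquiv.orderOf_eq, Subgroup.orderOf_mk])
    ((show Commute (⟨x, hxM⟩ : M) ⟨z, hz⟩ from Subtype.ext hxz.eq).map e)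
  obtain ⟨k, hk⟩ := mem_zpowers_iff.1 h1
  refine mem_zpowers_iff.2 ⟨k, ?_⟩
  rw [← SubgroupClass.coe_zpow, ← map_zpow, hk, MulEquiv.symm_apply_apply]

/-- The image of the four-group in the simple group, and its centraliser. -/
theorem klein_image {M : Subgroup K} (hz : z ∈ M) (hu : u ∈ M) {F : Type} [Field F] [Finite F]
    (e : M ≃* PSL2.PSL2 F) :
    IsKleinFour (((Subgroup.closure ({z, u} : Set K)).subgroupOf M).map e.toMonoidHom) := by
  have hle : Subgroup.closure ({z, u} : Set K) ≤ M := (closure_le _).2 (by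
    rintro a (rfl | rfl) <;> assumption)
  have e' := (((Subgroup.closure ({z, u} : Set K)).subgroupOf M).equivMapOfInjective e.toMonoidHom
    e.injective).symm.trans (subgroupOfEquivOfLe hle)
  exact ⟨(Nat.card_congr e'.toEquiv).trans h.klein.card_four,
    (Monoid.exponent_eq_of_mulEquiv e').trans h.klein.exponent_two⟩

open GWKlein in
/-- An element of odd order of the simple group centralising the four-group is trivial. -/
theorem eq_one_of_commute {M : Subgroup K} (hz : z ∈ M) (hu : u ∈ M) {F : Type} [Field F] [Finite F] {n : ℕ}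
    (hn : L2.TorusOrder F n) (e : M ≃* PSL2.PSL2 F) {x : K} (hxM : x ∈ M) (hx : Odd (orderOf x))
    (hxz : Commute x z) (hxu : Commute x u) : x = 1 := by
  have h2 : (2 : F) ≠ 0 := by
    have := Fintype.ofFinite F
    exact PSL2.two_ne_zero_iff_odd.2 hn.odd_card
  obtain ⟨v, hv, hvx⟩ := PSL2.mem_map_klein h2 (h.klein_image hz hu e)
    (z := Matrix.ProjectiveSpecialLinearGroup.toPGL (e ⟨x, hxM⟩)) (by
      rintro _ ⟨w, hw, rfl⟩
      rw [← map_mul, ← map_mul]
      exact congrArg _ (((show Commute (⟨x, hxM⟩ : M) w from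
        Subtype.ext (commute_of_mem hxz hxu hw).eq).map e.toMonoidHom).eq.symm))
  obtain ⟨w, hw, rfl⟩ := hv
  have h1 : w = ⟨x, hxM⟩ := e.injective (Matrix.ProjectiveSpecialLinearGroup.toPGL_injective hvx :)
  subst h1
  refine eq_one_of_sq hx ?_
  rcases h.mem_cases (show x ∈ Subgroup.closure ({z, u} : Set K) from hw) with e' | e' | e' | e' <;> rw [e']
  · exact one_mul 1
  · exact h.z_mul
  · exact h.u_mul
  · rw [mul_assoc, ← mul_assoc u, ← h.zu.eq, mul_assoc z u, h.u_mul, mul_one, h.z_mul]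

open GWKlein in
/-- (2) With trivial torus, the four-group has no centraliser of odd order. -/
theorem eq_one_of_no_torus (htor : ∀ x : K, Odd (orderOf x) → Commute x z → u * x * u⁻¹ = x⁻¹ → x = 1) :
    ∀ e : K, Odd (orderOf e) → Commute e z → Commute e u → e = 1 := by
  intro d hd hdz hdu
  rcases h.cases with h1 | ⟨M, hM, hC, hz, hu, F, _, _, n, hn, ⟨e⟩⟩
  · exact h1 d hd hdz
  have hez : orderOf (e ⟨z, hz⟩) = 2 := by rw [MulEquiv.orderOf_eq, Subgroup.orderOf_mk, h.z2]
  obtain ⟨y, hy, hyz, -⟩ := hn.exists_torus hez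
  set v := e ⟨u, hu⟩ with hv
  -- the torus is trivial
  have hn1 : n = 1 := by
    set t := y ^ 2 with ht
    have hto : orderOf t = n := by
      rw [ht, orderOf_pow_of_dvd (by norm_num) (by rw [hy]; exact dvd_mul_right 2 n), hy,
        Nat.mul_div_cancel_left _ (by norm_num)]
    have htz : Commute t (e ⟨z, hz⟩) := hyz ▸ (Commute.refl y).pow_pow 2 n
    have hvz : Commute v (e ⟨z, hz⟩) :=
      (show Commute (⟨u, hu⟩ : M) ⟨z, hz⟩ from Subtype.ext h.zu.symm.eq).map e
    have hvv : v * v = 1 := by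
      rw [hv, ← map_mul, show (⟨u, hu⟩ : M) * ⟨u, hu⟩ = 1 from Subtype.ext h.u_mul, map_one]
    have ht' : Commute (v * t * v⁻¹) (e ⟨z, hz⟩) := (hvz.mul_left htz).mul_left hvz.inv_left
    have ho' : Odd (orderOf (v * t * v⁻¹)) := by
      rw [show v * t * v⁻¹ = MulAut.conj v t from rfl, MulEquiv.orderOf_eq, hto]; exact hn.odd
    have hct : Commute t (v * t * v⁻¹) :=
      hn.commute_of_odd hez (hto ▸ hn.odd) htz ho' ht'
    set a := t * (v * t * v⁻¹)⁻¹ with ha
    have hao : Odd (orderOf a) := Odd.of_dvd_nat (Odd.mul (hto ▸ hn.odd) (by rwa [orderOf_inv]))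
      (hct.inv_right.orderOf_mul_dvd_mul_orderOf)
    have haz : Commute a (e ⟨z, hz⟩) := htz.mul_left ht'.inv_left
    have hainv : v * a * v⁻¹ = a⁻¹ := by
      have e1 : v * a * v⁻¹ = v * t * v⁻¹ * (v * v * t * (v * v)⁻¹)⁻¹ := by rw [ha]; group
      rw [e1, hvv, inv_one, mul_one, one_mul, ha]
      group
    have ha1 : a = 1 := by
      have h1 := htor ((e.symm a : M) : K) (by rwa [Subgroup.orderOf_coe, MulEquiv.orderOf_eq])
        (by
          have := (haz.map e.symm).map M.subtype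
          simpa using this)
        (by
          have := congrArg (fun g => ((e.symm g : M) : K)) hainv
          simpa [hv, map_mul, map_inv] using this)
      exact e.symm.injective (Subtype.ext (h1.trans (by simp)))
    have htv : Commute t v := by
      have h1 : v * t * v⁻¹ = t := (mul_inv_eq_one.1 (ha ▸ ha1)).symm
      exact (mul_inv_eq_iff_eq_mul.1 h1).symm
    have h1 := h.eq_one_of_commute hz hu hn e (x := ((e.symm t : M) : K)) (e.symm t).2
      (by rw [Subgroup.orderOf_coe, MulEquiv.orderOf_eq, hto]; exact hn.odd)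
      (by
        have := (htz.map e.symm).map M.subtype
        simpa using this)
      (by
        have := (htv.map e.symm).map M.subtype
        simpa [hv] using this)
    rw [← hto, ← MulEquiv.orderOf_eq e.symm, ← Subgroup.orderOf_coe, h1, orderOf_one]
  have h5 : Nat.card F = 5 := by
    have := hn.three
    rcases hn.eq with ⟨-, q⟩ | ⟨-, q⟩ <;> omega
  -- the automorphism induced by `d`
  haveI := hM
  set α : MulAut (PSL2.PSL2 F) := MulAut.congr e (MulAut.conjNormal d) with hα
  have hαap : ∀ w, α w = e (MulAut.conjNormal d (e.symm w)) := fun w => rfl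
  have hαo : Odd (orderOf α) := Odd.of_dvd_nat hd
    (orderOf_map_dvd ((MulAut.congr e).toMonoidHom.comp MulAut.conjNormal) d)
  obtain ⟨σ, β, hσ, -⟩ := AbelianSylow.Field.exists_conj_semi hn.odd_card (h.klein_image hz hu e)
    (α := α) (by
      rintro _ ⟨w, hw, rfl⟩
      rw [hαap]
      refine congrArg e (Subtype.ext ?_)
      rw [MulAut.conjNormal_apply]
      simp only [MulEquiv.coe_toMonoidHom, MulEquiv.symm_apply_apply]
      show d * (w : K) * d⁻¹ = (w : K)
      rw [(show Commute d (w : K) from commute_of_mem hdz hdu hw).eq, mul_inv_cancel_right]) hαo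
  rw [ringEquiv_eq_one h5 σ, orderOf_one, eq_comm, orderOf_eq_one_iff] at hσ
  have hdC : d ∈ centralizer (M : Set K) := mem_centralizer_iff.2 fun g hg => by
    have h1 := hαap (e ⟨g, hg⟩)
    rw [hσ, MulAut.one_apply, MulEquiv.symm_apply_apply] at h1
    have h2 := congrArg Subtype.val (e.injective h1)
    rw [MulAut.conjNormal_apply] at h2
    exact eq_mul_inv_iff_mul_eq.1 h2
  rwa [hC, mem_bot] at hdC

open GWKlein in
/-- (3) An invariant subgroup of odd order meets the torus trivially. -/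
theorem eq_one_of_invariant {Y : Subgroup K} (hY : Odd (Nat.card Y)) (hzY : z ∈ normalizer (Y : Set K))
    (huY : u ∈ normalizer (Y : Set K)) (hcY : c ∈ normalizer (Y : Set K)) :
    ∀ x ∈ Y, Commute x z → u * x * u⁻¹ = x⁻¹ → x = 1 := by
  intro x hxY hxz hxu
  have hodd : ∀ y ∈ Y, Odd (orderOf y) := fun y hy => Odd.of_dvd_nat hY (Y.orderOf_dvd_natCard hy)
  rcases h.cases with h1 | ⟨M, hM, -, hz, hu, F, _, _, n, hn, ⟨e⟩⟩
  · exact h1 x (hodd x hxY) hxz
  have hxM := mem_of_inverted hu (hodd x hxY) hxu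
  by_contra hne
  set W := Y ⊓ M with hW
  haveI : Group.IsSolvable W := OddOrderTheorem.solvable
    (Odd.of_dvd_nat hY (card_dvd_of_le inf_le_left))
  have hnorm : ∀ g ∈ normalizer (Y : Set K), g ∈ normalizer (W : Set K) := fun g hg => by
    rw [mem_normalizer_iff]
    intro w
    rw [hW, mem_inf, mem_inf, ← (mem_normalizer_iff.1 hg) w]
    refine and_congr_right' ⟨fun hw => hM.conj_mem w hw g, fun hw => ?_⟩
    have := hM.conj_mem _ hw g⁻¹
    simpa [mul_assoc] using this
  obtain ⟨n₀, hn₀⟩ := (inferInstance : Group.IsSolvable W).solvable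
  have hex : ∃ m, derivedSeries W m ≠ ⊥ ∧ derivedSeries W (m + 1) = ⊥ := by
    classical
    obtain ⟨m, hm, hmin⟩ : ∃ m, derivedSeries W m = ⊥ ∧ ∀ k < m, derivedSeries W k ≠ ⊥ :=
      ⟨Nat.find ⟨n₀, hn₀⟩, Nat.find_spec (⟨n₀, hn₀⟩ : ∃ m, derivedSeries W m = ⊥), fun k hk => Nat.find_min _ hk⟩
    rcases m with _ | m
    · exfalso
      rw [derivedSeries_zero] at hm
      have h1 : (⟨x, hxY, hxM⟩ : W) ∈ (⊤ : Subgroup W) := mem_top _
      rw [hm, mem_bot] at h1
      exact hne (congrArg (fun w : W => (w : K)) h1)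
    · exact ⟨m, hmin m (Nat.lt_succ_self m), hm⟩
  obtain ⟨m, hm0, hm1⟩ := hex
  set A := (derivedSeries W m).map W.subtype with hA
  have hAW : A ≤ W := map_subtype_le _
  have hcom : ∀ a ∈ A, ∀ b ∈ A, Commute a b := by
    rintro _ ⟨a, ha, rfl⟩ _ ⟨b, hb, rfl⟩
    have h1 : ⁅a, b⁆ ∈ derivedSeries W (m + 1) := by
      rw [derivedSeries_succ]; exact commutator_mem_commutator ha hb
    rw [hm1, mem_bot, commutatorElement_eq_one_iff_mul_comm] at h1
    exact congrArg Subtype.val h1
  have hAn : ∀ g ∈ normalizer (Y : Set K), ∀ a ∈ A, g * a * g⁻¹ ∈ A := fun g hg a ha =>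
    (mem_normalizer_iff.1 (Cores.normalizer_le_normalizer_map (derivedSeries W m) (hnorm g hg)) a).1 ha
  have hAo : ∀ a ∈ A, Odd (orderOf a) := fun a ha => hodd a (hAW ha).1
  -- some involution of the four-group has a fixed point in `A`
  obtain ⟨a, haA, ha1, haz⟩ : ∃ a ∈ A, a ≠ 1 ∧ Commute a z := by
    by_contra hno
    push Not at hno
    have key : ∀ v, v * v = 1 → (∀ a ∈ A, v * a * v⁻¹ ∈ A) → (∀ a ∈ A, Commute a v → a = 1) →
        ∀ a ∈ A, v * a * v⁻¹ = a⁻¹ := by
      intro v hv hvA hfix a ha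
      refine eq_inv_of_mul_eq_one_left (hfix _ (mul_mem (hvA a ha) ha) ?_)
      have hvi : v⁻¹ = v := inv_eq_of_mul_eq_one_right hv
      have h2 : v * (v * a * v⁻¹ * a) * v⁻¹ = v * a * v⁻¹ * a := by
        rw [show v * (v * a * v⁻¹ * a) * v⁻¹ = v * v * a * (v * v)⁻¹ * (v * a * v⁻¹) by group, hv, one_mul,
          inv_one, mul_one]
        exact (hcom a ha _ (hvA a ha)).eq
      exact (mul_inv_eq_iff_eq_mul.1 h2).symm
    have hzA : ∀ a ∈ A, Commute a z → a = 1 := fun a ha haz => by_contra fun ne => hno a ha ne haz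
    have huA : ∀ a ∈ A, Commute a u → a = 1 := fun a ha hau => by
      have hci : c⁻¹ ∈ normalizer (Y : Set K) := inv_mem hcY
      have h1 := hzA _ (hAn _ hci a ha) (by
        have := hau.map (MulAut.conj c⁻¹).toMonoidHom
        simp only [MulEquiv.coe_toMonoidHom, MulAut.conj_apply] at this
        rwa [show c⁻¹ * u * c⁻¹⁻¹ = z by rw [← h.cz]; group] at this)
      exact conj_eq_one_iff.1 h1
    have iz := key z h.z_mul (hAn z hzY) hzA
    have iu := key u h.u_mul (hAn u huY) huA
    have hzuA : ∀ a ∈ A, Commute a (z * u) := fun a ha => by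
      have h1 : z * u * a * (z * u)⁻¹ = a := by
        rw [show z * u * a * (z * u)⁻¹ = z * (u * a * u⁻¹) * z⁻¹ by group, iu a ha, iz _ (inv_mem ha), inv_inv]
      exact (mul_inv_eq_iff_eq_mul.1 h1).symm
    obtain ⟨⟨a, ha⟩, hane⟩ := ne_bot_iff_exists_ne_one.1
      (fun e => hm0 ((map_eq_bot_iff_of_injective _ W.subtype_injective).1 (hA ▸ e)) : A ≠ ⊥)
    have h1 := huA _ (hAn _ (inv_mem hcY) a ha) (by
      have := (hzuA a ha).map (MulAut.conj c⁻¹).toMonoidHom
      simp only [MulEquiv.coe_toMonoidHom, MulAut.conj_apply] at this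
      rwa [show c⁻¹ * (z * u) * c⁻¹⁻¹ = u by rw [← h.cu]; group] at this)
    exact hane (Subtype.ext (conj_eq_one_iff.1 h1))
  obtain ⟨p, hp, hpd⟩ := Nat.exists_prime_and_dvd (fun e => ha1 (orderOf_eq_one_iff.1 e))
  set t := a ^ (orderOf a / p) with ht
  have hto : orderOf t = p := orderOf_pow_orderOf_div (orderOf_pos a).ne' hpd
  have htA : t ∈ A := pow_mem haA _
  have hp2 : p ≠ 2 := fun e => by
    have h1 := hAo t htA
    rw [hto, e] at h1
    exact absurd h1 (by decide)
  have hbA := hAn c hcY t htA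
  set b := c * t * c⁻¹ with hb
  have htM : t ∈ M := (hAW htA).2
  have hbM : b ∈ M := (hAW hbA).2
  have htz : Commute t z := haz.pow_left _
  have hbu : Commute b u := by
    have := htz.map (MulAut.conj c).toMonoidHom
    simp only [MulEquiv.coe_toMonoidHom, MulAut.conj_apply] at this
    rwa [h.cz] at this
  have hez : orderOf (e ⟨z, hz⟩) = 2 := by rw [MulEquiv.orderOf_eq, Subgroup.orderOf_mk, h.z2]
  have hbz : Commute b z := by
    have h1 := hn.mem_centralizer_of_conj_pow hez hp hp2 (z := e ⟨t, htM⟩) (c := e ⟨b, hbM⟩)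
      (by rw [MulEquiv.orderOf_eq, Subgroup.orderOf_mk, hto])
      ((show Commute (⟨t, htM⟩ : M) ⟨z, hz⟩ from Subtype.ext htz.eq).map e) (a := 1) (b := 1)
      hp.not_dvd_one (by
        rw [pow_one, ← map_inv, ← map_mul, ← map_mul]
        refine congrArg e (Subtype.ext ?_)
        show b * t * b⁻¹ = t
        rw [(hcom b hbA t htA).eq, mul_inv_cancel_right])
    have := (h1.map e.symm).map M.subtype
    simpa using this
  have hb1 := h.eq_one_of_commute hz hu hn e hbM (hAo b hbA) hbz hbu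
  have : t = 1 := conj_eq_one_iff.1 hb1
  rw [this, orderOf_one] at hto
  exact hp.ne_one hto.symm

end Quad

end Cfsg.Agent.JSylowSimple
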