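import Cfsg.Agent.Lib.JSylowSimple.Tools

/-!
# An elementary group of order sixteen with five marked four-groups (helper51, for S1776)

`A` elementary of order 16, `U = ⟨z, u⟩ ≤ A`, and for every `t ∈ A \ U` a four-group `line t ∋ t`
meeting `U` trivially, central in `C(t)` modulo `O(C(t))`, and `rot t ∈ C(t)` of odd order cycling
`z, u, z u`.
-/

set_option autoImplicit false
set_option linter.style.haveILetI false
set_option linter.unusedSectionVars false

namespace Cfsg.Agent.JSylowSimple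

open Subgroup
open scoped commutatorElement Pointwise

universe v

variable {G : Type v} [Group G]

/-- The objects. -/
structure Data (G : Type v) [Group G] where
  A : Subgroup G
  z : G
  u : G
  line : G → Subgroup G
  rot : G → G

namespace Data

variable (D : Data G)

/-- The four-group `U`. -/
def four : Subgroup G := zpowers D.z ⊔ zpowers D.u

/-- `A \ U`. -/
def Outer (t : G) : Prop := t ∈ D.A ∧ t ∉ D.four

/-- `E = O(C(z)) ∩ C(A)`. -/
def E : Subgroup G := Cfsg.centralizerPPrimeCore 2 D.z ⊓ centralizer (D.A : Set G)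

/-- `O(C(t)) E`. -/
def Ostar (t : G) : Subgroup G := Cfsg.centralizerPPrimeCore 2 t ⊔ D.E

end Data

/-- The hypotheses. -/
structure Setup (D : Data G) : Prop where
  elem : Cfsg.IsElementaryAbelian 2 D.A
  card : Nat.card D.A = 16
  zA : D.z ∈ D.A
  uA : D.u ∈ D.A
  z1 : D.z ≠ 1
  u1 : D.u ≠ 1
  zu : D.z ≠ D.u
  con : ∀ w ∈ D.four, w ≠ 1 → Cfsg.IsPConstrained 2 ↥(centralizer ({w} : Set G))
  cent : ∀ t, D.Outer t → ∀ x : G, x * t = t * x → x * D.z = D.z * x →
    ∃ o ∈ Cfsg.centralizerPPrimeCore 2 D.z, ∃ a ∈ D.A, x = o * a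
  line_le : ∀ t, D.Outer t → D.line t ≤ D.A
  line_card : ∀ t, D.Outer t → Nat.card (D.line t) = 4
  line_mem : ∀ t, D.Outer t → t ∈ D.line t
  line_disj : ∀ t, D.Outer t → ∀ v ∈ D.line t, v ∈ D.four → v = 1
  line_eq : ∀ t, D.Outer t → ∀ v ∈ D.line t, v ≠ 1 → D.line v = D.line t
  central : ∀ t, D.Outer t → ∀ v ∈ D.line t, ∀ g ∈ centralizer ({t} : Set G),
    ⁅g, v⁆ ∈ Cfsg.centralizerPPrimeCore 2 t
  line_max : ∀ t, D.Outer t → ∀ a ∈ D.A, (∀ g ∈ centralizer ({t} : Set G),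
    ⁅g, a⁆ ∈ Cfsg.centralizerPPrimeCore 2 t) → a ∈ D.line t
  rot_cent : ∀ t, D.Outer t → D.rot t ∈ centralizer ({t} : Set G)
  rot_norm : ∀ t, D.Outer t → ∀ a ∈ D.A, D.rot t * a * (D.rot t)⁻¹ ∈ D.A
  rot_z : ∀ t, D.Outer t → D.rot t * D.z * (D.rot t)⁻¹ = D.u
  rot_u : ∀ t, D.Outer t → D.rot t * D.u * (D.rot t)⁻¹ = D.z * D.u
  move : ∀ t, D.Outer t → ∃ n : G, n * D.z = D.z * n ∧ n * D.u = D.u * n ∧
    (∀ a ∈ D.A, n * a * n⁻¹ ∈ D.A) ∧ n * t * n⁻¹ = t * D.z
  two_le : ∀ t, D.Outer t → ∀ T : Subgroup G, IsPGroup 2 T → T ≤ centralizer ({t} : Set G) →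
    Nat.card T ≤ 16

namespace Setup

variable {D : Data G} (S : Setup D)
include S

local notation "𝕆" => Cfsg.centralizerPPrimeCore 2

theorem comm {a b : G} (ha : a ∈ D.A) (hb : b ∈ D.A) : a * b = b * a :=
  Signalizer.commute_of_isMulCommutative S.elem.1 ha hb

theorem sq {a : G} (ha : a ∈ D.A) : a * a = 1 := by rw [← pow_two]; exact S.elem.2 a ha

theorem inv_eq {a : G} (ha : a ∈ D.A) : a⁻¹ = a := inv_eq_of_mul_eq_one_right (S.sq ha)

theorem mem_four {x : G} : x ∈ D.four ↔ x = 1 ∨ x = D.z ∨ x = D.u ∨ x = D.z * D.u := by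
  constructor
  · intro hx
    have hn : zpowers D.u ≤ normalizer (zpowers D.z : Set G) :=
      Signalizer.le_normalizer_of_commute fun a ha b hb =>
        S.comm (zpowers_le.2 S.uA ha) (zpowers_le.2 S.zA hb)
    obtain ⟨a, ha, b, hb, rfl⟩ := (Coprime.mem_sup_iff hn).1 hx
    have two : ∀ {c : G}, c ∈ D.A → ∀ d ∈ zpowers c, d = 1 ∨ d = c := by
      intro c hc d hd
      obtain ⟨i, rfl⟩ := mem_zpowers_iff.1 hd
      rcases Int.even_or_odd' i with ⟨j, rfl | rfl⟩
      · left; rw [zpow_mul, zpow_two, S.sq hc, one_zpow]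
      · right; rw [zpow_add, zpow_mul, zpow_two, S.sq hc, one_zpow, one_mul, zpow_one]
    rcases two S.zA a ha with rfl | rfl <;> rcases two S.uA b hb with rfl | rfl <;> simp
  · rintro (rfl | rfl | rfl | rfl)
    · exact one_mem _
    · exact mem_sup_left (mem_zpowers _)
    · exact mem_sup_right (mem_zpowers _)
    · exact mul_mem (mem_sup_left (mem_zpowers _)) (mem_sup_right (mem_zpowers _))

theorem z_mem : D.z ∈ D.four := mem_sup_left (mem_zpowers _)

theorem u_mem : D.u ∈ D.four := mem_sup_right (mem_zpowers _)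

theorem four_le : D.four ≤ D.A := sup_le (zpowers_le.2 S.zA) (zpowers_le.2 S.uA)

theorem four_elem : Cfsg.IsElementaryAbelian 2 D.four := Signalizer.elemAb_of_le S.elem S.four_le

theorem zu_ne : D.z * D.u ≠ 1 := fun e => S.zu (by
  rw [← S.inv_eq S.uA]; exact eq_inv_of_mul_eq_one_left e)

theorem four_not_cyclic : ¬ IsCyclic D.four := fun h => by
  obtain ⟨g, hg⟩ := h.exists_generator
  have key : ∀ x : D.four, x = 1 ∨ x = g := fun x => by
    obtain ⟨i, rfl⟩ := mem_zpowers_iff.1 (hg x)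
    have hgg : g * g = 1 := Subtype.ext (S.sq (S.four_le g.2))
    rcases Int.even_or_odd' i with ⟨j, rfl | rfl⟩
    · left; rw [zpow_mul, zpow_two, hgg, one_zpow]
    · right; rw [zpow_add, zpow_mul, zpow_two, hgg, one_zpow, one_mul, zpow_one]
  rcases key ⟨D.z, S.z_mem⟩ with e | e
  · exact S.z1 (congrArg Subtype.val e)
  rcases key ⟨D.u, S.u_mem⟩ with e' | e'
  · exact S.u1 (congrArg Subtype.val e')
  exact S.zu ((congrArg Subtype.val e).trans (congrArg Subtype.val e').symm)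

theorem mul_four {w w' : G} (hw : w ∈ D.four) (hw1 : w ≠ 1) (hw' : w' ∈ D.four) (hw'1 : w' ≠ 1)
    (hne : w ≠ w') {x : G} (hx : x ∈ D.four) : x = 1 ∨ x = w ∨ x = w' ∨ x = w * w' := by
  have h1 := S.mem_four.1 hw
  have h2 := S.mem_four.1 hw'
  have h3 := S.mem_four.1 hx
  have hzu : D.u * D.z = D.z * D.u := S.comm S.uA S.zA
  have hz := S.sq S.zA
  have hu := S.sq S.uA
  have hz' : ∀ y : G, D.z * (D.z * y) = y := fun y => by rw [← mul_assoc, hz, one_mul]
  have hu' : ∀ y : G, D.u * (D.u * y) = y := fun y => by rw [← mul_assoc, hu, one_mul]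
  have huz' : ∀ y : G, D.u * (D.z * y) = D.z * (D.u * y) := fun y => by
    rw [← mul_assoc, hzu, mul_assoc]
  rcases h1 with rfl | rfl | rfl | rfl
  · exact absurd rfl hw1
  all_goals rcases h2 with rfl | rfl | rfl | rfl
  all_goals try exact absurd rfl hw'1
  all_goals try exact absurd rfl hne
  all_goals rcases h3 with rfl | rfl | rfl | rfl
  all_goals simp [mul_assoc, hzu, hu, hz', huz']

/-! ### Outer elements and lines -/

theorem outer_mul {t w : G} (ht : D.Outer t) (hw : w ∈ D.four) : D.Outer (t * w) :=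
  ⟨mul_mem ht.1 (S.four_le hw), fun h => ht.2 (by
    have := mul_mem h (inv_mem hw)
    rwa [mul_inv_cancel_right] at this)⟩

theorem outer_ne {t : G} (ht : D.Outer t) : t ≠ 1 := fun e => ht.2 (e ▸ one_mem _)

theorem line_outer {t v : G} (ht : D.Outer t) (hv : v ∈ D.line t) (hv1 : v ≠ 1) : D.Outer v :=
  ⟨S.line_le t ht hv, fun h => hv1 (S.line_disj t ht v hv h)⟩

theorem line_elem {t : G} (ht : D.Outer t) : Cfsg.IsElementaryAbelian 2 (D.line t) :=
  Signalizer.elemAb_of_le S.elem (S.line_le t ht)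

theorem line_ne {t w : G} (ht : D.Outer t) (hw : w ∈ D.four) (hw1 : w ≠ 1) :
    t * w ∉ D.line t := fun h => hw1 (S.line_disj t ht w (by
  have := mul_mem (inv_mem (S.line_mem t ht)) h
  rwa [inv_mul_cancel_left] at this) hw)

section
variable [Finite G]

theorem four_card : Nat.card D.four = 4 := by
  have hne : D.u ∉ zpowers D.z := fun h => by
    obtain ⟨i, hi⟩ := mem_zpowers_iff.1 h
    rcases Int.even_or_odd' i with ⟨j, rfl | rfl⟩
    · exact S.u1 (by rw [← hi, zpow_mul, zpow_two, S.sq S.zA, one_zpow])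
    · exact S.zu (by rw [← hi, zpow_add, zpow_mul, zpow_two, S.sq S.zA, one_zpow, one_mul, zpow_one])
  haveI : Fact (Nat.Prime 2) := ⟨Nat.prime_two⟩
  rw [Data.four, Signalizer.card_sup_zpowers S.elem (zpowers_le.2 S.zA) S.uA hne, Nat.card_zpowers,
    orderOf_eq_prime (S.elem.2 _ S.zA) S.z1]

/-- Two four-groups of `A` meeting trivially generate it. -/
theorem exists_mul {V W : Subgroup G} (hV : V ≤ D.A) (hW : W ≤ D.A) (hV4 : Nat.card V = 4)
    (hW4 : Nat.card W = 4) (hd : ∀ x ∈ V, x ∈ W → x = 1) {a : G} (ha : a ∈ D.A) :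
    ∃ v ∈ V, ∃ w ∈ W, a = v * w := by
  let f : V × W → D.A := fun p => ⟨p.1 * p.2, mul_mem (hV p.1.2) (hW p.2.2)⟩
  have hf : Function.Injective f := by
    rintro ⟨v, w⟩ ⟨v', w'⟩ h
    have h' : (v : G) * w = v' * w' := congrArg Subtype.val h
    have e : (v' : G)⁻¹ * v = w' * (w : G)⁻¹ := by
      rw [inv_mul_eq_iff_eq_mul, ← mul_assoc, ← h', mul_inv_cancel_right]
    have h1 : (v' : G)⁻¹ * v = 1 :=
      hd _ (mul_mem (inv_mem v'.2) v.2) (e ▸ mul_mem w'.2 (inv_mem w.2))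
    obtain rfl : v' = v := Subtype.ext (inv_mul_eq_one.1 h1)
    obtain rfl : w = w' := Subtype.ext (mul_left_cancel h')
    rfl
  obtain ⟨⟨v, w⟩, hvw⟩ := ((Nat.bijective_iff_injective_and_card f).2 ⟨hf, by
    rw [Nat.card_prod, hV4, hW4, S.card]⟩).2 ⟨a, ha⟩
  exact ⟨v, v.2, w, w.2, (congrArg Subtype.val hvw).symm⟩

/-- `A = line t × U`. -/
theorem decomp {t a : G} (ht : D.Outer t) (ha : a ∈ D.A) :
    ∃ v ∈ D.line t, ∃ w ∈ D.four, a = v * w :=
  S.exists_mul (S.line_le t ht) S.four_le (S.line_card t ht) S.four_card (S.line_disj t ht) ha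

theorem line_meet {s t : G} (hs : D.Outer s) (ht : D.Outer t) (hne : s ∉ D.line t) {x : G}
    (hxs : x ∈ D.line s) (hxt : x ∈ D.line t) : x = 1 := by
  by_contra hx
  refine hne ?_
  rw [← S.line_eq t ht x hxt hx, S.line_eq s hs x hxs hx]
  exact S.line_mem s hs

/-- The centraliser of two lines is the centraliser of `A`. -/
theorem cent_lines {s t x : G} (hs : D.Outer s) (ht : D.Outer t) (hne : s ∉ D.line t)
    (h1 : ∀ v ∈ D.line s, v * x = x * v) (h2 : ∀ v ∈ D.line t, v * x = x * v) :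
    x ∈ centralizer (D.A : Set G) := by
  refine mem_centralizer_iff.2 fun a ha => ?_
  obtain ⟨v, hv, w, hw, rfl⟩ := S.exists_mul (S.line_le s hs) (S.line_le t ht) (S.line_card s hs)
    (S.line_card t ht) (fun y hy hy' => S.line_meet hs ht hne hy hy') ha
  exact (Commute.mul_left (h1 v hv) (h2 w hw)).eq

/-- The centraliser of a line and two elements of `U`. -/
theorem cent_line_four {t x : G} (ht : D.Outer t) (h1 : ∀ v ∈ D.line t, v * x = x * v)
    {w w' : G} (hw : w ∈ D.four) (hw1 : w ≠ 1) (hw' : w' ∈ D.four) (hw'1 : w' ≠ 1) (hne : w ≠ w')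
    (hx : w * x = x * w) (hx' : w' * x = x * w') : x ∈ centralizer (D.A : Set G) := by
  refine mem_centralizer_iff.2 fun a ha => ?_
  obtain ⟨v, hv, y, hy, rfl⟩ := S.decomp ht ha
  refine (Commute.mul_left (h1 v hv) ?_).eq
  rcases S.mul_four hw hw1 hw' hw'1 hne hy with rfl | rfl | rfl | rfl
  · exact Commute.one_left x
  · exact hx
  · exact hx'
  · exact Commute.mul_left hx hx'

/-! ### Centralisers -/

theorem conj_O (g a : G) : 𝕆 (g * a * g⁻¹) = (𝕆 a).map (MulAut.conj g).toMonoidHom :=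
  (Signalizer.map_conj_centralizerPPrimeCore a g).symm

theorem A_le_cent {a : G} (ha : a ∈ D.A) : D.A ≤ centralizer ({a} : Set G) := fun _ hb =>
  mem_centralizer_singleton_iff.2 (S.comm hb ha)

theorem A_le_normO {a : G} (ha : a ∈ D.A) : D.A ≤ normalizer (𝕆 a : Set G) :=
  Signalizer.invariant_core S.elem.1 ha

theorem rot_comm {t : G} (ht : D.Outer t) : D.rot t * t * (D.rot t)⁻¹ = t := by
  rw [mem_centralizer_singleton_iff.1 (S.rot_cent t ht), mul_inv_cancel_right]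

theorem cent_all {t w x : G} (ht : D.Outer t) (hw : w ∈ D.four) (hw1 : w ≠ 1)
    (hxt : x * t = t * x) (hxw : x * w = w * x) : ∃ o ∈ 𝕆 w, ∃ a ∈ D.A, x = o * a := by
  obtain ⟨g, hgt, hgA, hgw⟩ : ∃ g : G, g * t = t * g ∧ (∀ a ∈ D.A, g * a * g⁻¹ ∈ D.A) ∧
      g * D.z * g⁻¹ = w := by
    have hc := mem_centralizer_singleton_iff.1 (S.rot_cent t ht)
    rcases S.mem_four.1 hw with rfl | rfl | rfl | rfl
    · exact absurd rfl hw1
    · exact ⟨1, by simp, fun a ha => by simpa using ha, by simp⟩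
    · exact ⟨D.rot t, hc, S.rot_norm t ht, S.rot_z t ht⟩
    · refine ⟨D.rot t * D.rot t, (Commute.mul_left hc hc).eq, fun a ha => ?_, ?_⟩
      · have := S.rot_norm t ht _ (S.rot_norm t ht a ha)
        simpa [mul_assoc] using this
      · rw [← S.rot_u t ht, ← S.rot_z t ht]
        group
  obtain ⟨o, ho, a, ha, hxo⟩ := S.cent t ht (g⁻¹ * x * g)
    (((Commute.inv_left hgt).mul_left hxt).mul_left hgt).eq
    (by
      have h := congrArg (fun y => g⁻¹ * y * g) hxw
      rw [← hgw] at h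
      simpa [mul_assoc] using h)
  refine ⟨g * o * g⁻¹, ?_, g * a * g⁻¹, hgA a ha, ?_⟩
  · rw [← hgw, S.conj_O]
    exact ⟨o, ho, rfl⟩
  · calc x = g * (g⁻¹ * x * g) * g⁻¹ := by group
      _ = _ := by rw [hxo]; group

theorem mem_O_of_odd {t w x : G} (ht : D.Outer t) (hw : w ∈ D.four) (hw1 : w ≠ 1)
    (hxt : x * t = t * x) (hxw : x * w = w * x) (hx : Odd (orderOf x)) : x ∈ 𝕆 w := by
  obtain ⟨o, ho, a, ha, rfl⟩ := S.cent_all ht hw hw1 hxt hxw
  refine mem_of_sq_mem hx ?_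
  have e : o * a * (o * a) = o * (a * o * a⁻¹) := by
    rw [S.inv_eq ha]; simp [mul_assoc]
  rw [e]
  exact mul_mem ho (Signalizer.conj_mem (S.A_le_normO (S.four_le hw)) ha ho)

theorem odd_E : Odd (Nat.card D.E) := odd_of_le inf_le_left (odd_core _)

theorem E_le_cent : D.E ≤ centralizer (D.A : Set G) := inf_le_right

theorem E_comm {e a : G} (he : e ∈ D.E) (ha : a ∈ D.A) : e * a = a * e :=
  (mem_centralizer_iff.1 he.2 a ha).symm

theorem mem_E {t x : G} (ht : D.Outer t) (hx : Odd (orderOf x))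
    (hxA : x ∈ centralizer (D.A : Set G)) : x ∈ D.E :=
  ⟨S.mem_O_of_odd ht S.z_mem S.z1 (mem_centralizer_iff.1 hxA t ht.1).symm
    (mem_centralizer_iff.1 hxA D.z S.zA).symm hx, hxA⟩

theorem E_le_O {t w : G} (ht : D.Outer t) (hw : w ∈ D.four) (hw1 : w ≠ 1) : D.E ≤ 𝕆 w :=
  fun _ he => S.mem_O_of_odd ht hw hw1 (S.E_comm he ht.1) (S.E_comm he (S.four_le hw))
    (odd_orderOf S.odd_E he)

theorem A_le_normE : D.A ≤ normalizer (D.E : Set G) :=
  Signalizer.le_normalizer_of_commute fun _ ha _ he => (S.E_comm he ha).symm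

theorem E_le_normO {a : G} (ha : a ∈ D.A) : D.E ≤ normalizer (𝕆 a : Set G) := fun _ he =>
  Signalizer.centralizer_le_normalizer_core a (mem_centralizer_singleton_iff.2 (S.E_comm he ha))

theorem mem_Ostar {t x : G} (ht : t ∈ D.A) : x ∈ D.Ostar t ↔ ∃ o ∈ 𝕆 t, ∃ e ∈ D.E, o * e = x :=
  Coprime.mem_sup_iff (S.E_le_normO ht)

theorem odd_Ostar {t : G} (ht : t ∈ D.A) : Odd (Nat.card (D.Ostar t)) :=
  odd_sup (S.E_le_normO ht) (odd_core t) S.odd_E

theorem Ostar_le_cent {t : G} (ht : t ∈ D.A) : D.Ostar t ≤ centralizer ({t} : Set G) :=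
  sup_le (Signalizer.core_le_centralizer t) fun _ he =>
    mem_centralizer_singleton_iff.2 (S.E_comm he ht)

theorem A_le_normOstar {t : G} (ht : t ∈ D.A) : D.A ≤ normalizer (D.Ostar t : Set G) :=
  Signalizer.le_normalizer_sup (S.A_le_normO ht) S.A_le_normE

theorem line_comm_O {t v g : G} (ht : D.Outer t) (hv : v ∈ D.line t)
    (hg : g * t = t * g) : ⁅g, v⁆ ∈ 𝕆 t :=
  S.central t ht v hv g (mem_centralizer_singleton_iff.2 hg)

/-- An odd `A`-invariant subgroup of `C(t) ∩ C(U)` lies in `𝕆*(t)`. -/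
theorem le_Ostar {t : G} {Y : Subgroup G} (ht : D.Outer t) (hY : Odd (Nat.card Y))
    (hAY : D.A ≤ normalizer (Y : Set G)) (hYt : ∀ y ∈ Y, y * t = t * y)
    (hYU : ∀ y ∈ Y, ∀ w ∈ D.four, y * w = w * y) : Y ≤ D.Ostar t :=
  split (S.line_elem ht) hY ((S.line_le t ht).trans hAY)
    (fun y hy v hv => mem_sup_left (S.line_comm_O ht hv (hYt y hy)))
    fun y hy hc => mem_sup_right (S.mem_E ht (odd_orderOf hY hy)
      (S.cent_line_four ht hc S.z_mem S.z1 S.u_mem S.u1 S.zu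
        (hYU y hy _ S.z_mem).symm (hYU y hy _ S.u_mem).symm))

/-- The cores of the involutions of a line balance. -/
theorem line_balance {t v : G} (ht : D.Outer t) (hv : v ∈ D.line t) (hv1 : v ≠ 1) :
    𝕆 t ⊓ centralizer ({v} : Set G) ≤ 𝕆 v := by
  haveI : Fact (Nat.Prime 2) := ⟨Nat.prime_two⟩
  have hvo := S.line_outer ht hv hv1
  set C := centralizer ({v} : Set G) with hC
  set Y := 𝕆 t ⊓ C with hY
  haveI hn : (Cfsg.oddCore C).Normal := Cores.pPrimeCore_normal 2 C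
  set J : Subgroup C := Y.subgroupOf C ⊔ Cfsg.oddCore C with hJ
  have htv : t ∈ D.line v := (S.line_eq t ht v hv hv1).symm ▸ S.line_mem t ht
  have htC : t ∈ C := S.A_le_cent hvo.1 ht.1
  have hYJ : ∀ g : C, ∀ y ∈ Y.subgroupOf C, g * y * g⁻¹ ∈ J := by
    intro g y hy
    obtain ⟨o, ho, hog⟩ := Constrained.exists_mul_mem_centralizer (O := Cfsg.oddCore C)
      (Cores.not_dvd_card_pPrimeCore (p := 2))
      (Signalizer.isPGroup_zpowers_of_pow_eq_one
        (show (⟨t, htC⟩ : C) ^ 2 = 1 from Subtype.ext (S.elem.2 t ht.1))) (x := g) (by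
      intro a ha
      obtain ⟨i, rfl⟩ := mem_zpowers_iff.1 ha
      have h1 := S.line_comm_O hvo (zpow_mem htv i)
        (mem_centralizer_singleton_iff.1 g.2)
      obtain ⟨d, hd, hde⟩ := h1
      have : d = g * (⟨t, htC⟩ : C) ^ i * g⁻¹ * ((⟨t, htC⟩ : C) ^ i)⁻¹ := Subtype.ext (by
        rw [← Subgroup.coe_subtype, hde]; simp [commutatorElement_def])
      exact this ▸ hd)
    have hcomm : ((o * g : C) : G) * t = t * ((o * g : C) : G) :=
      (congrArg Subtype.val (mem_centralizer_iff.1 hog _ (mem_zpowers _))).symm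
    have hmem : (o * g) * y * (o * g)⁻¹ ∈ Y.subgroupOf C := mem_subgroupOf.2
      ⟨Signalizer.conj_mem (Signalizer.centralizer_le_normalizer_core t)
        (mem_centralizer_singleton_iff.2 hcomm) (mem_subgroupOf.1 hy).1,
        ((o * g) * y * (o * g)⁻¹ : C).2⟩
    have e : g * y * g⁻¹ = o⁻¹ * ((o * g) * y * (o * g)⁻¹) * o := by group
    rw [e]
    exact mul_mem (mul_mem (inv_mem (mem_sup_right ho)) (mem_sup_left hmem)) (mem_sup_right ho)
  have hJn : J.Normal := by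
    refine ⟨fun x hx g => ?_⟩
    have hle : J ≤ J.comap (MulAut.conj g).toMonoidHom :=
      sup_le (fun y hy => hYJ g y hy) fun y hy => mem_sup_right (hn.conj_mem y hy g)
    exact hle hx
  have hJodd : Odd (Nat.card J) := by
    rw [hJ, sup_comm]
    refine odd_sup (normalizer_eq_top (H := Cfsg.oddCore C) ▸ le_top)
      (Nat.coprime_two_right.1 (Cores.coprime_card_pPrimeCore 2)) ?_
    rw [Cores.card_subgroupOf inf_le_right]
    exact odd_of_le inf_le_left (odd_core t)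
  intro y hy
  exact ⟨⟨y, hy.2⟩, Cores.le_pPrimeCore hJn (Nat.coprime_two_right.2 hJodd)
    (mem_sup_left (show (⟨y, hy.2⟩ : C) ∈ Y.subgroupOf C from hy)), rfl⟩

end

end Setup

end Cfsg.Agent.JSylowSimple
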