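import Cfsg.Agent.Lib.JSylowSimple.Fusion
import Cfsg.Agent.Lib.JSylowSimple.Setup
import Cfsg.Agent.Lib.ZStar.Glauberman
import Cfsg.Agent.Lib.ZStar.Unique
import Cfsg.Agent.Lib.HallHigman.PSolvable

/-!
# The centraliser of an outer element not conjugate to `z` (helper98, for S1776)

When no outer element is conjugate to `z`, either every `C(t)`, `t` outer, is 2-constrained, or
`exists_setup` gives the `Setup` of five marked four-groups on `A`.
-/

set_option autoImplicit false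
set_option maxRecDepth 100000
set_option linter.style.haveILetI false
set_option linter.unusedSectionVars false
set_option linter.unusedVariables false

open Subgroup

namespace Cfsg.Agent.JSylowSimple

open J2Sylow
open scoped commutatorElement

universe v

variable {G : Type v} [Group G] [Finite G]

local notation "𝕆" => Cfsg.centralizerPPrimeCore 2

theorem constrained_conj {a b : G} (h : IsConj a b)
    (ha : Cfsg.IsPConstrained 2 ↥(centralizer ({a} : Set G))) :
    Cfsg.IsPConstrained 2 ↥(centralizer ({b} : Set G)) := by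
  haveI : Fact (Nat.Prime 2) := ⟨Nat.prime_two⟩
  obtain ⟨g, rfl⟩ := isConj_iff.1 h
  have e : (centralizer ({a} : Set G)).map (MulAut.conj g).toMonoidHom =
      centralizer ({g * a * g⁻¹} : Set G) := by
    ext x
    rw [Signalizer.mem_map_conj, mem_centralizer_singleton_iff, mem_centralizer_singleton_iff]
    constructor
    · intro hx
      calc x * (g * a * g⁻¹) = g * (g⁻¹ * x * g * a) * g⁻¹ := by group
        _ = g * a * g⁻¹ * x := by rw [hx]; group
    · intro hx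
      calc g⁻¹ * x * g * a = g⁻¹ * (x * (g * a * g⁻¹)) * g := by group
        _ = a * (g⁻¹ * x * g) := by rw [hx]; group
  exact Constrained.isPConstrained_congr
    (((centralizer ({a} : Set G)).equivMapOfInjective _ (MulAut.conj g).injective).trans
      (MulEquiv.subgroupCongr e)) ha

variable (K : Cfg G)

/-- `n` normalises `A`. -/
def Norm (n : G) : Prop := ∀ a ∈ K.A, n * a * n⁻¹ ∈ K.A

theorem Norm.mul {K : Cfg G} {m n : G} (hm : Norm K m) (hn : Norm K n) : Norm K (m * n) := by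
  intro a ha
  rw [show m * n * a * (m * n)⁻¹ = m * (n * a * n⁻¹) * m⁻¹ by group]
  exact hm _ (hn a ha)

theorem Norm.inv {K : Cfg G} {n : G} (hn : Norm K n) : Norm K n⁻¹ := by
  intro a ha
  have heq : K.A.map (MulAut.conj n).toMonoidHom = K.A := Subgroup.eq_of_le_of_card_ge
    (fun _ ⟨y, hy, e⟩ => e ▸ hn y hy)
    (by rw [Subgroup.card_map_of_injective (MulAut.conj n).injective])
  obtain ⟨y, hy, rfl⟩ := heq.ge ha
  show n⁻¹ * (n * y * n⁻¹) * n⁻¹⁻¹ ∈ K.A
  rwa [show n⁻¹ * (n * y * n⁻¹) * n⁻¹⁻¹ = y by group]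

theorem Norm.pow {K : Cfg G} {n : G} (hn : Norm K n) : ∀ k : ℕ, Norm K (n ^ k)
  | 0 => fun a ha => by simpa using ha
  | k + 1 => by rw [pow_succ]; exact (Norm.pow hn k).mul hn

theorem O_inf_A {x : G} (hx : x ∈ 𝕆 K.z) (hA : x ∈ K.A) : x = 1 :=
  eq_one_of_sq K hx (n := 1) (by rw [pow_one, pow_two]; exact A_sq K hA)

theorem z_mem_A : K.z ∈ K.A := V_le_A K (mem_sup_left (mem_zpowers _))

theorem u_mem_A : K.u 4 ∈ K.A := V_le_A K (mem_sup_right (mem_zpowers _))

theorem A_elem : Cfsg.IsElementaryAbelian 2 K.A :=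
  ⟨⟨⟨fun a b => Subtype.ext (A_comm K a.2 b.2)⟩⟩, fun a ha => by rw [pow_two]; exact A_sq K ha⟩

theorem A_two : IsPGroup 2 K.A := K.S.2.to_le inf_le_left

theorem u_ne : K.u 4 ≠ 1 ∧ K.z * K.u 4 ≠ 1 ∧ K.z ≠ K.u 4 ∧ K.z * K.u 4 ≠ K.z ∧
    K.z * K.u 4 ≠ K.u 4 := by
  have h : R0.u 4 ≠ 1 ∧ R0.z * R0.u 4 ≠ 1 ∧ R0.z ≠ R0.u 4 ∧ R0.z * R0.u 4 ≠ R0.z ∧
      R0.z * R0.u 4 ≠ R0.u 4 := by decide +kernel
  simp only [Cfg.z, Cfg.u, ← map_mul, ne_eq, K.inj.eq_iff, map_eq_one_iff K.ι K.inj]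
  exact h

variable (hno : TwoTimesPSL.NoIndexTwo G)

include hno

/-- An element of `N(A) ∩ C(t) ∩ C(z)` centralises `A`. -/
theorem fix_central {t n : G} (ht : Outer K t) (hn : Norm K n) (hnt : n * t = t * n)
    (hnz : n * K.z = K.z * n) : ∀ a ∈ K.A, n * a * n⁻¹ = a := by
  obtain ⟨o, ho, b, hb, rfl⟩ := cent_outer K hno ht hnt hnz
  intro a ha
  have e : o * b * a * (o * b)⁻¹ = o * a * o⁻¹ := by
    rw [show o * b * a * (o * b)⁻¹ = o * (b * a * b⁻¹) * o⁻¹ by group, A_comm K hb ha,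
      mul_inv_cancel_right]
  rw [e]
  have h1 : o * a * o⁻¹ * a⁻¹ ∈ K.A := mul_mem (e ▸ hn a ha) (inv_mem ha)
  have h2 : o * a * o⁻¹ * a⁻¹ ∈ 𝕆 K.z := by
    rw [show o * a * o⁻¹ * a⁻¹ = o * (a * o⁻¹ * a⁻¹) by group]
    exact mul_mem ho (O_conj K (A_le_C K ha) (inv_mem ho))
  exact mul_inv_eq_one.1 (O_inf_A K h2 h1)

variable (hu : IsConj K.z (K.u 4)) (hne : ∀ t, Outer K t → ¬ IsConj K.z t)

include hu

theorem z_conj_V {w : G} (hw : w = K.z ∨ w = K.u 4 ∨ w = K.z * K.u 4) : IsConj K.z w := by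
  rcases hw with rfl | rfl | rfl
  · exact IsConj.refl _
  · exact hu
  · exact hu.trans (isConj_iff.2 ⟨_, conj_u_uz K⟩)

include hne

theorem norm_V {n : G} (hn : Norm K n) {w : G} (hw : w = K.z ∨ w = K.u 4 ∨ w = K.z * K.u 4) :
    n * w * n⁻¹ = K.z ∨ n * w * n⁻¹ = K.u 4 ∨ n * w * n⁻¹ = K.z * K.u 4 := by
  have hc : IsConj K.z (n * w * n⁻¹) := (z_conj_V K hno hu hw).trans (isConj_iff.2 ⟨n, rfl⟩)
  have hwA : w ∈ K.A := by
    rcases hw with rfl | rfl | rfl
    exacts [z_mem_A K, u_mem_A K, mul_mem (z_mem_A K) (u_mem_A K)]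
  rcases A_cases K (hn w hwA) with e | e | e | e | e
  · rw [e, isConj_comm, isConj_one_right] at hc
    exact absurd hc K.frame.z_ne
  · exact Or.inl e
  · exact Or.inr (Or.inl e)
  · exact Or.inr (Or.inr e)
  · exact absurd hc (hne _ e)

/-- A 2-group centralising an outer element has order at most 16. -/
theorem two_le {t : G} (ht : Outer K t) {T : Subgroup G} (hT : IsPGroup 2 T)
    (hTt : T ≤ centralizer ({t} : Set G)) : Nat.card T ≤ 16 := by
  haveI : Fact (Nat.Prime 2) := ⟨Nat.prime_two⟩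
  set C := centralizer ({t} : Set G) with hC
  set tC : C := ⟨t, mem_centralizer_singleton_iff.2 rfl⟩ with htC
  haveI : (zpowers tC).Normal := ⟨fun x hx g => by
    obtain ⟨i, rfl⟩ := mem_zpowers_iff.1 hx
    have hc : Commute g tC := Subtype.ext (mem_centralizer_singleton_iff.1 g.2)
    rw [(hc.zpow_right i).eq, mul_inv_cancel_right]
    exact zpow_mem (mem_zpowers _) i⟩
  have ht2 : IsPGroup 2 (zpowers tC) := Signalizer.isPGroup_zpowers_of_pow_eq_one
    (show tC ^ 2 = 1 from Subtype.ext (by rw [pow_two]; exact A_sq K ht.1))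
  obtain ⟨P, hP⟩ := (hT.comap_of_injective C.subtype C.subtype_injective).exists_le_sylow
  have htP : tC ∈ (P : Subgroup C) :=
    Cores.pCore_le_sylow P (Cores.le_pCore inferInstance ht2 (mem_zpowers _))
  set T' : Subgroup G := (P : Subgroup C).map C.subtype with hT'
  have htT' : t ∈ T' := mem_map.2 ⟨tC, htP, rfl⟩
  have hTT' : T ≤ T' := fun x hx => mem_map.2 ⟨⟨x, hTt hx⟩, hP hx, rfl⟩
  obtain ⟨g, -, hg⟩ := K.conj_into (X := ⊤) le_top (le_top : T' ≤ ⊤) (P.2.map C.subtype)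
  refine le_trans (Nat.le_of_dvd Nat.card_pos (card_dvd_of_le hTT')) ?_
  set w := g * t * g⁻¹ with hw
  have hw2 : w * w = 1 := by rw [hw, conj_mul, A_sq K ht.1, mul_one, mul_inv_cancel]
  have hwz : ¬ IsConj K.z w := fun h => hne t ht (h.trans (isConj_iff.2 ⟨g, rfl⟩).symm)
  have hw1 : w ≠ 1 := fun e => ht.2 (conj_eq_one_iff.1 e ▸ one_mem _)
  -- move the image of `t` into `A`
  obtain ⟨k, hkA, hkS⟩ : ∃ k : G, k * t * k⁻¹ ∈ K.A ∧
      ∀ x ∈ T', k * x * k⁻¹ ∈ (K.S : Subgroup G) := by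
    rcases involution_cases K (hg t htT') hw2 hw1 with h | h | ⟨i, h⟩
    · exact ⟨g, h, hg⟩
    · have hu0 : (K.u 0)⁻¹ = K.u 0 := inv_eq_of_mul_eq_one_right (K.frame.u_sq 0)
      refine ⟨K.u 0 * g, ?_, fun x hx => ?_⟩
      · rw [show K.u 0 * g * t * (K.u 0 * g)⁻¹ = K.u 0 * (g * t * g⁻¹) * (K.u 0)⁻¹ by group, hu0]
        exact h
      · rw [show K.u 0 * g * x * (K.u 0 * g)⁻¹ = K.u 0 * (g * x * g⁻¹) * (K.u 0)⁻¹ by group]
        exact mul_mem (mul_mem (K.ι_mem _) (hg x hx)) (inv_mem (K.ι_mem _))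
    · exfalso
      obtain ⟨c, hc, hci⟩ := conj_u K hno i
      refine hwz ?_
      have hcz : c * K.z * c⁻¹ = K.z := mul_inv_eq_iff_eq_mul.2 (mem_centralizer_singleton_iff.1 hc)
      have huz' : c * (K.u 4 * K.z) * c⁻¹ = c * K.u 4 * c⁻¹ * K.z := by rw [← conj_mul, hcz]
      have hzu : K.u 4 * K.z = K.z * K.u 4 := K.z_comm (K.ι_mem _)
      rcases h with h | h <;> rcases hci with hci | hci
      · exact hu.trans (isConj_iff.2 ⟨c, hci.trans h.symm⟩)
      · exact (z_conj_V K hno hu (Or.inr (Or.inr rfl))).trans (isConj_iff.2 ⟨c, by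
          rw [← hzu, huz', hci, mul_assoc, K.z_sq, mul_one]
          exact h.symm⟩)
      · exact (z_conj_V K hno hu (Or.inr (Or.inr rfl))).trans (isConj_iff.2 ⟨c, by
          rw [← hzu, huz', hci]
          exact h.symm⟩)
      · exact hu.trans (isConj_iff.2 ⟨c, hci.trans h.symm⟩)
  have hko : Outer K (k * t * k⁻¹) := by
    refine ⟨hkA, fun hV => ?_⟩
    have hc : IsConj t (k * t * k⁻¹) := isConj_iff.2 ⟨k, rfl⟩
    obtain ⟨r, hr, e⟩ := V_cases K hV
    rcases (r0_inV_iff r).1 hr with rfl | rfl | rfl | rfl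
    · rw [map_one] at e
      exact ht.2 (conj_eq_one_iff.1 e.symm ▸ one_mem _)
    · exact hne t ht ((z_conj_V K hno hu (Or.inl e.symm)).trans hc.symm)
    · exact hne t ht ((z_conj_V K hno hu (Or.inr (Or.inl e.symm))).trans hc.symm)
    · rw [map_mul] at e
      exact hne t ht ((z_conj_V K hno hu (Or.inr (Or.inr e.symm))).trans hc.symm)
  have hle : T'.map (MulAut.conj k).toMonoidHom ≤ K.A := by
    rintro _ ⟨x, hx, rfl⟩
    obtain ⟨wr, hw1', hw2', hwe⟩ := hko.exists_ι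
    obtain ⟨r, hr⟩ := K.exists_ι (hkS x hx)
    show k * x * k⁻¹ ∈ K.A
    rw [← hr]
    refine K.mem_A.2 (r0_cent_eq wr hw1' hw2' r (K.ι_comm.1 ?_))
    rw [hr, hwe, conj_mul, conj_mul, mem_centralizer_singleton_iff.1 (map_subtype_le _ hx)]
  have h := Nat.le_of_dvd Nat.card_pos (card_dvd_of_le hle)
  rwa [Subgroup.card_map_of_injective (MulAut.conj k).injective, K.card_A] at h

theorem two_eq {t : G} (ht : Outer K t) {T : Subgroup G} (hT : IsPGroup 2 T) (hAT : K.A ≤ T)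
    (hTt : T ≤ centralizer ({t} : Set G)) : T = K.A :=
  (Subgroup.eq_of_le_of_card_ge hAT (by rw [K.card_A]; exact two_le K hno hu hne ht hT hTt)).symm

theorem A_le_cent {t : G} (ht : Outer K t) : K.A ≤ centralizer ({t} : Set G) :=
  fun _ hx => mem_centralizer_singleton_iff.2 (A_comm K hx ht.1)

/-- `A` is a Sylow 2-subgroup of every subgroup of `C(t)` containing it. -/
theorem conj_into_A {t : G} (ht : Outer K t) {X P : Subgroup G} (hAX : K.A ≤ X)
    (hXt : X ≤ centralizer ({t} : Set G)) (hP : IsPGroup 2 P) (hPX : P ≤ X) :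
    ∃ d ∈ X, ∀ x ∈ P, d * x * d⁻¹ ∈ K.A := by
  haveI : Fact (Nat.Prime 2) := ⟨Nat.prime_two⟩
  obtain ⟨T, hT⟩ := ((A_two K).comap_of_injective X.subtype X.subtype_injective).exists_le_sylow
  have hTA : (T : Subgroup X).map X.subtype = K.A :=
    two_eq K hno hu hne ht (T.2.map _) (fun x hx => mem_map.2 ⟨⟨x, hAX hx⟩, hT hx, rfl⟩)
      ((map_subtype_le _).trans hXt)
  obtain ⟨T', hT'⟩ := (hP.comap_of_injective X.subtype X.subtype_injective).exists_le_sylow
  obtain ⟨d, hd⟩ := MulAction.exists_smul_eq X T' T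
  refine ⟨d, d.2, fun x hx => ?_⟩
  rw [← hTA]
  refine mem_map.2 ⟨d * ⟨x, hPX hx⟩ * d⁻¹, ?_, rfl⟩
  rw [← hd, Sylow.coe_subgroup_smul]
  exact mem_map.2 ⟨_, hT' hx, rfl⟩

/-- Fusion in `A` inside `C(t)` happens in the normaliser of `A`. -/
theorem fusion_A {t g a : G} (ht : Outer K t) (hg : g * t = t * g) (ha : a ∈ K.A)
    (hga : g * a * g⁻¹ ∈ K.A) :
    ∃ n, Norm K n ∧ n * t = t * n ∧ n * a * n⁻¹ = g * a * g⁻¹ := by
  set b := g * a * g⁻¹ with hb
  set X : Subgroup G := centralizer ({t} : Set G) ⊓ centralizer ({b} : Set G) with hX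
  have hAX : K.A ≤ X := fun x hx =>
    ⟨A_le_cent K hno hu hne ht hx, mem_centralizer_singleton_iff.2 (A_comm K hx hga)⟩
  have hgt : g * t * g⁻¹ = t := mul_inv_eq_iff_eq_mul.2 hg
  have hPX : K.A.map (MulAut.conj g).toMonoidHom ≤ X := by
    rintro _ ⟨x, hx, rfl⟩
    refine ⟨mem_centralizer_singleton_iff.2 ?_, mem_centralizer_singleton_iff.2 ?_⟩
    · show g * x * g⁻¹ * t = t * (g * x * g⁻¹)
      rw [← hgt, conj_mul, conj_mul, A_comm K hx ht.1]
    · show g * x * g⁻¹ * b = b * (g * x * g⁻¹)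
      rw [hb, conj_mul, conj_mul, A_comm K hx ha]
  obtain ⟨d, hd, hdA⟩ := conj_into_A K hno hu hne ht hAX inf_le_left ((A_two K).map _) hPX
  refine ⟨d * g, fun x hx => ?_, ?_, ?_⟩
  · have := hdA _ ⟨x, hx, rfl⟩
    simpa [mul_assoc] using this
  · rw [mul_assoc, hg, ← mul_assoc, mem_centralizer_singleton_iff.1 hd.1, mul_assoc]
  · rw [show d * g * a * (d * g)⁻¹ = d * b * d⁻¹ by rw [hb]; group,
      mem_centralizer_singleton_iff.1 hd.2, mul_inv_cancel_right]

/-- No element of `N(A) ∩ C(t)` acts on `A` as an involution. -/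
theorem sq_central {t n : G} (ht : Outer K t) (hn : Norm K n) (hnt : n * t = t * n)
    (h : ∀ a ∈ K.A, n * n * a * (n * n)⁻¹ = a) : ∀ a ∈ K.A, n * a * n⁻¹ = a := by
  haveI : Fact (Nat.Prime 2) := ⟨Nat.prime_two⟩
  obtain ⟨k, m, hm, hkm⟩ := Nat.exists_eq_two_pow_mul_odd (n := orderOf n) (orderOf_pos n).ne'
  obtain ⟨l, rfl⟩ := hm
  set n' := n ^ (2 * l + 1) with hn'
  have hp : IsPGroup 2 (zpowers n') := by
    refine IsPGroup.of_card (n := k) ?_
    rw [Nat.card_zpowers, hn', orderOf_pow' n (show 2 * l + 1 ≠ 0 by omega), hkm,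
      Nat.gcd_eq_right (Dvd.intro_left _ rfl), Nat.mul_div_cancel _ (by omega)]
  have hle : zpowers n' ≤ normalizer (K.A : Set G) := by
    rw [zpowers_le, mem_normalizer_iff]
    refine fun x => ⟨(hn.pow _) x, fun hx => ?_⟩
    have := (hn.pow (2 * l + 1)).inv _ hx
    rwa [inv_inv, show (n ^ (2 * l + 1))⁻¹ * (n' * x * n'⁻¹) * n ^ (2 * l + 1) = x by
      rw [hn']; group] at this
  have hT := two_eq K hno hu hne ht (T := zpowers n' ⊔ K.A)
    (IsPGroup.to_sup_of_normal_right' hp (A_two K) hle) le_sup_right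
    (sup_le (zpowers_le.2 (mem_centralizer_singleton_iff.2 (Commute.pow_left hnt _).eq))
      (A_le_cent K hno hu hne ht))
  have hn'A : n' ∈ K.A := hT.le (mem_sup_left (mem_zpowers _))
  intro a ha
  have h1 : ∀ j : ℕ, (n * n) ^ j * a * ((n * n) ^ j)⁻¹ = a := by
    intro j
    induction j with
    | zero => simp
    | succ j ih =>
      rw [pow_succ', mul_inv_rev ((n * n))]
      calc n * n * (n * n) ^ j * a * (((n * n) ^ j)⁻¹ * (n * n)⁻¹)
          = n * n * ((n * n) ^ j * a * ((n * n) ^ j)⁻¹) * (n * n)⁻¹ := by simp only [mul_assoc]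
        _ = a := by rw [ih, h a ha]
  have h2 : n' * a * n'⁻¹ = a := by rw [A_comm K hn'A ha, mul_inv_cancel_right]
  rw [hn', pow_succ', pow_mul, pow_two,
    show n * (n * n) ^ l * a * (n * (n * n) ^ l)⁻¹ =
      n * ((n * n) ^ l * a * ((n * n) ^ l)⁻¹) * n⁻¹ by group, h1] at h2
  exact h2

/-- If `N(A) ∩ C(t)` fixes `z` then `C(t)` is 2-constrained. -/
theorem constrained_of_fix {t : G} (ht : Outer K t)
    (hfix : ∀ n, Norm K n → n * t = t * n → n * K.z * n⁻¹ = K.z) :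
    Cfsg.IsPConstrained 2 ↥(centralizer ({t} : Set G)) := by
  haveI : Fact (Nat.Prime 2) := ⟨Nat.prime_two⟩
  set C := centralizer ({t} : Set G) with hC
  obtain ⟨T, hT⟩ := ((A_two K).comap_of_injective C.subtype C.subtype_injective).exists_le_sylow
  have hTA : (T : Subgroup C).map C.subtype = K.A :=
    two_eq K hno hu hne ht (T.2.map _)
      (fun x hx => mem_map.2 ⟨⟨x, A_le_cent K hno hu hne ht hx⟩, hT hx, rfl⟩) (map_subtype_le _)
  set zC : C := ⟨K.z, A_le_cent K hno hu hne ht (z_mem_A K)⟩ with hzC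
  have hz2 : orderOf zC = 2 := by
    rw [← Subgroup.orderOf_coe]
    exact orderOf_eq_prime (by rw [pow_two]; exact K.z_sq) K.frame.z_ne
  have hiso : ∀ g : C, g * zC * g⁻¹ ∈ (T : Subgroup C) → g * zC * g⁻¹ = zC := by
    intro g hg
    have hgA : (g : G) * K.z * (g : G)⁻¹ ∈ K.A := hTA.le (mem_map.2 ⟨_, hg, rfl⟩)
    obtain ⟨n, hn, hnt, hnz⟩ := fusion_A K hno hu hne ht (mem_centralizer_singleton_iff.1 g.2)
      (z_mem_A K) hgA
    exact Subtype.ext (hnz.symm.trans (hfix n hn hnt))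
  have hI := ZStar.isolated_of_sylow T hz2 (hT (z_mem_A K)) hiso
  haveI hOn : (Cfsg.pPrimeCore 2 C).Normal := Cores.pPrimeCore_normal 2 C
  -- `X = C(t) ∩ C(z)` is solvable
  set X : Subgroup G := C ⊓ centralizer ({K.z} : Set G) with hX
  haveI : Group.IsSolvable X := by
    haveI hn : ((𝕆 K.z).subgroupOf X).Normal := ⟨fun x hx g => mem_subgroupOf.2 (by
      simpa using O_conj K g.2.2 (mem_subgroupOf.1 hx))⟩
    haveI : Group.IsSolvable ((𝕆 K.z).subgroupOf X) := OddOrderTheorem.solvable (by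
      refine (odd_core K.z).of_dvd_nat ?_
      rw [← Subgroup.card_map_of_injective X.subtype_injective]
      exact card_dvd_of_le (map_le_iff_le_comap.2 le_rfl))
    haveI : Group.IsSolvable (X ⧸ (𝕆 K.z).subgroupOf X) := by
      refine Group.isSolvable_of_comm fun p q => ?_
      have key : ∀ p : X ⧸ (𝕆 K.z).subgroupOf X, ∃ a, ∃ ha : a ∈ K.A,
          p = QuotientGroup.mk' _ (⟨a, A_le_cent K hno hu hne ht ha, A_le_C K ha⟩ : X) := by
        intro p
        obtain ⟨x, rfl⟩ := QuotientGroup.mk'_surjective _ p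
        obtain ⟨o, ho, a, ha, e⟩ := cent_outer K hno ht (mem_centralizer_singleton_iff.1 x.2.1)
          (mem_centralizer_singleton_iff.1 x.2.2)
        refine ⟨a, ha, (QuotientGroup.eq.2 (mem_subgroupOf.2 ?_)).symm⟩
        show a⁻¹ * (x : G) ∈ 𝕆 K.z
        rw [e, ← mul_assoc]
        simpa using O_conj K (inv_mem (A_le_C K ha)) ho
      obtain ⟨a, ha, rfl⟩ := key p
      obtain ⟨b, hb, rfl⟩ := key q
      rw [← map_mul, ← map_mul]
      exact congrArg _ (Subtype.ext (A_comm K ha hb))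
    exact Group.isSolvable_of_ker_le_range ((𝕆 K.z).subgroupOf X).subtype
      (QuotientGroup.mk' ((𝕆 K.z).subgroupOf X)) (by simp)
  haveI : Group.IsSolvable (C ⧸ Cfsg.pPrimeCore 2 C) := by
    refine Group.isSolvable_of_surjective
      (f := (QuotientGroup.mk' (Cfsg.pPrimeCore 2 C)).comp (Subgroup.inclusion (inf_le_left : X ≤ C)))
      fun q => ?_
    obtain ⟨g, rfl⟩ := QuotientGroup.mk'_surjective _ q
    obtain ⟨o, ho, hog⟩ := Constrained.exists_mul_mem_centralizer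
      (O := Cfsg.pPrimeCore 2 C) Cores.not_dvd_card_pPrimeCore
      (Signalizer.isPGroup_zpowers_of_pow_eq_one (show zC ^ 2 = 1 by
        rw [← hz2]; exact pow_orderOf_eq_one zC)) (x := g) (by
      intro v hv
      have hv' : v = 1 ∨ v = zC := by
        obtain ⟨i, rfl⟩ := mem_zpowers_iff.1 hv
        rcases Int.emod_two_eq_zero_or_one i with h | h <;>
          rw [← zpow_mod_orderOf, hz2, Nat.cast_ofNat, h]
        · exact Or.inl (zpow_zero _)
        · exact Or.inr (zpow_one _)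
      rcases hv' with rfl | rfl
      · simp
      · have := inv_mem (ZStar.zStar_of_brauerSuzuki ZStar.uniqueInvolution hI g)
        simpa [mul_assoc] using this)
    refine ⟨⟨((o * g : C) : G), (o * g).2, mem_centralizer_singleton_iff.2
      (congrArg Subtype.val (mem_centralizer_iff.1 hog _ (mem_zpowers zC))).symm⟩, ?_⟩
    show QuotientGroup.mk' _ (o * g) = _
    rw [map_mul, show QuotientGroup.mk' (Cfsg.pPrimeCore 2 C) o = 1 from
      (QuotientGroup.eq_one_iff o).2 ho, one_mul]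
  haveI : Group.IsSolvable (Cfsg.pPrimeCore 2 C) :=
    OddOrderTheorem.solvable (Nat.coprime_two_right.1 (Cores.coprime_card_pPrimeCore 2))
  haveI : Group.IsSolvable C := Group.isSolvable_of_ker_le_range (Cfsg.pPrimeCore 2 C).subtype
    (QuotientGroup.mk' (Cfsg.pPrimeCore 2 C)) (by simp)
  exact HallHigman.isPConstrained_of_isSolvable

omit hno hu hne in
/-- An element of odd order on `z, u, zu`. -/
structure Rot (t r : G) : Prop where
  cent : r * t = t * r
  norm : Norm K r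
  z : r * K.z * r⁻¹ = K.u 4
  u : r * K.u 4 * r⁻¹ = K.z * K.u 4

theorem exists_rot {t n : G} (ht : Outer K t) (hn : Norm K n) (hnt : n * t = t * n)
    (hnz : n * K.z * n⁻¹ ≠ K.z) : ∃ r, Rot K t r := by
  obtain ⟨-, -, hzu, hzuz, hzuu⟩ := u_ne K
  have hzc : K.u 4 * K.z = K.z * K.u 4 := K.z_comm (K.ι_mem _)
  have hu2 : K.u 4 * K.u 4 = 1 := K.frame.u_sq 4
  have hinj : ∀ {a b : G}, n * a * n⁻¹ = n * b * n⁻¹ → a = b := fun h =>
    mul_left_cancel (mul_right_cancel h)
  have hprod : n * (K.z * K.u 4) * n⁻¹ = (n * K.z * n⁻¹) * (n * K.u 4 * n⁻¹) := (conj_mul).symm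
  have hsq : ∀ a, n * n * a * (n * n)⁻¹ = n * (n * a * n⁻¹) * n⁻¹ := fun a => by group
  have hbad : n * n * K.z * (n * n)⁻¹ = K.z → False := fun h => hnz <|
    sq_central K hno hu hne ht hn hnt (fix_central K hno ht (hn.mul hn)
      (Commute.mul_left hnt hnt).eq (mul_inv_eq_iff_eq_mul.1 h)) _ (z_mem_A K)
  rcases norm_V K hno hu hne hn (Or.inl rfl) with e1 | e1 | e1
  · exact absurd e1 hnz
  · rcases norm_V K hno hu hne hn (Or.inr (Or.inl rfl)) with e2 | e2 | e2
    · exact (hbad (by rw [hsq, e1, e2])).elim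
    · exact absurd (hinj (e1.trans e2.symm)) hzu
    · exact ⟨n, hnt, hn, e1, e2⟩
  · rcases norm_V K hno hu hne hn (Or.inr (Or.inl rfl)) with e2 | e2 | e2
    · refine ⟨n * n, (Commute.mul_left hnt hnt).eq, hn.mul hn, ?_, ?_⟩
      · rw [hsq, e1, hprod, e1, e2, ← hzc, mul_assoc, K.z_sq, mul_one]
      · rw [hsq, e2, e1]
    · exact (hbad (by rw [hsq, e1, hprod, e1, e2, mul_assoc, hu2, mul_one])).elim
    · exact absurd (hinj (e1.trans e2.symm)) hzu

omit hu hne in
theorem Rot.zu {t r : G} (h : Rot K t r) : r * (K.z * K.u 4) * r⁻¹ = K.z := by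
  rw [← conj_mul, h.z, h.u, show K.z * K.u 4 = K.u 4 * K.z from (K.z_comm (K.ι_mem _)).symm,
    ← mul_assoc, show K.u 4 * K.u 4 = 1 from K.frame.u_sq 4, one_mul]

/-- `N(A) ∩ C(t)` acts on `A` through the powers of `r`. -/
theorem rot_acts {t r n : G} (ht : Outer K t) (h : Rot K t r) (hn : Norm K n)
    (hnt : n * t = t * n) : ∃ k : ℕ, ∀ a ∈ K.A, n * a * n⁻¹ = (r ^ k)⁻¹ * a * r ^ k := by
  have key : ∀ k : ℕ, r ^ k * (n * K.z * n⁻¹) * (r ^ k)⁻¹ = K.z →
      ∀ a ∈ K.A, n * a * n⁻¹ = (r ^ k)⁻¹ * a * r ^ k := by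
    intro k hk a ha
    have h2 := fix_central K hno ht ((h.norm.pow k).mul hn)
      (Commute.mul_left (Commute.pow_left h.cent k) hnt).eq (mul_inv_eq_iff_eq_mul.1 (by
        rw [show r ^ k * n * K.z * (r ^ k * n)⁻¹ = r ^ k * (n * K.z * n⁻¹) * (r ^ k)⁻¹ by group,
          hk])) a ha
    calc n * a * n⁻¹ = (r ^ k)⁻¹ * (r ^ k * n * a * (r ^ k * n)⁻¹) * r ^ k := by group
      _ = _ := by rw [h2]
  rcases norm_V K hno hu hne hn (Or.inl rfl) with e | e | e
  · exact ⟨0, key 0 (by simpa using e)⟩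
  · exact ⟨2, key 2 (by rw [e, pow_two, show r * r * K.u 4 * (r * r)⁻¹ =
      r * (r * K.u 4 * r⁻¹) * r⁻¹ by group, h.u, h.zu K hno])⟩
  · exact ⟨1, key 1 (by rw [e, pow_one, h.zu K hno])⟩

omit hu hne in
theorem rot_cube {t r : G} (ht : Outer K t) (h : Rot K t r) :
    ∀ a ∈ K.A, r ^ 3 * a * (r ^ 3)⁻¹ = a :=
  fix_central K hno ht (h.norm.pow 3) (Commute.pow_left h.cent 3).eq (mul_inv_eq_iff_eq_mul.1 (by
    rw [show r ^ 3 = r * r * r by rw [pow_succ, pow_two],
      show r * r * r * K.z * (r * r * r)⁻¹ = r * (r * (r * K.z * r⁻¹) * r⁻¹) * r⁻¹ by group,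
      h.z, h.u, h.zu K hno]))

omit hu hne in
theorem line_indep {v r r' : G} (hv : Outer K v) (h : Rot K v r) (h' : Rot K v r') :
    K.A ⊓ centralizer ({r} : Set G) = K.A ⊓ centralizer ({r'} : Set G) := by
  suffices hsuff : ∀ {r r' : G}, Rot K v r → Rot K v r' →
      K.A ⊓ centralizer ({r} : Set G) ≤ K.A ⊓ centralizer ({r'} : Set G) from
    le_antisymm (hsuff h h') (hsuff h' h)
  intro r r' h h' a ha
  refine ⟨ha.1, mem_centralizer_singleton_iff.2 ?_⟩
  have hfix := fix_central K hno hv (n := r'⁻¹ * r) (h'.norm.inv.mul h.norm)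
    (Commute.mul_left (Commute.inv_left h'.cent) h.cent).eq (mul_inv_eq_iff_eq_mul.1 (by
      rw [show r'⁻¹ * r * K.z * (r'⁻¹ * r)⁻¹ = r'⁻¹ * (r * K.z * r⁻¹) * r' by group, h.z, ← h'.z]
      group)) a ha.1
  have hr : r * a * r⁻¹ = a := mul_inv_eq_iff_eq_mul.2 (mem_centralizer_singleton_iff.1 ha.2).symm
  rw [show r'⁻¹ * r * a * (r'⁻¹ * r)⁻¹ = r'⁻¹ * (r * a * r⁻¹) * r' by group, hr] at hfix
  calc a * r' = r' * (r'⁻¹ * a * r') := by group
    _ = r' * a := by rw [hfix]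

omit hu hne in
theorem rot_fixed {t r : G} (ht : Outer K t) (h : Rot K t r) {x : G}
    (hx : x ∈ K.A ⊓ centralizer ({r} : Set G)) (hxV : x ∈ zpowers K.z ⊔ zpowers (K.u 4)) :
    x = 1 := by
  obtain ⟨-, -, hzu, hzuz, hzuu⟩ := u_ne K
  have hr : r * x * r⁻¹ = x := mul_inv_eq_iff_eq_mul.2 (mem_centralizer_singleton_iff.1 hx.2).symm
  obtain ⟨w, hw, rfl⟩ := V_cases K hxV
  rcases (r0_inV_iff w).1 hw with rfl | rfl | rfl | rfl
  · exact map_one _
  · exact absurd (h.z.symm.trans hr) hzu.symm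
  · exact absurd (h.u.symm.trans hr) hzuu
  · rw [map_mul] at hr
    exact absurd ((h.zu K hno).symm.trans hr) hzuz.symm

omit hu hne in
theorem line_card {t r : G} (ht : Outer K t) (h : Rot K t r) :
    Nat.card ↥(K.A ⊓ centralizer ({r} : Set G)) = 4 := by
  classical
  haveI : Fact (Nat.Prime 2) := ⟨Nat.prime_two⟩
  haveI : Fact (Nat.Prime 3) := ⟨Nat.prime_three⟩
  haveI : Fintype K.A := Fintype.ofFinite _
  set L := K.A ⊓ centralizer ({r} : Set G) with hL
  have h3 := rot_cube K hno ht h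
  let σ : Equiv.Perm K.A :=
    { toFun := fun a => ⟨r * a * r⁻¹, h.norm a a.2⟩
      invFun := fun a => ⟨r ^ 2 * a * (r ^ 2)⁻¹, h.norm.pow 2 a a.2⟩
      left_inv := fun a => Subtype.ext (by
        show r ^ 2 * (r * (a : G) * r⁻¹) * (r ^ 2)⁻¹ = a
        conv_rhs => rw [← h3 a a.2, pow_succ r 2]
        simp [mul_assoc])
      right_inv := fun a => Subtype.ext (by
        show r * (r ^ 2 * (a : G) * (r ^ 2)⁻¹) * r⁻¹ = a
        conv_rhs => rw [← h3 a a.2, pow_succ' r 2]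
        simp [mul_assoc]) }
  have hσ : σ ^ 3 ^ 1 = 1 := Equiv.ext fun a => Subtype.ext (by
    show r * (r * (r * (a : G) * r⁻¹) * r⁻¹) * r⁻¹ = a
    conv_rhs => rw [← h3 a a.2]
    simp [pow_succ, mul_assoc])
  have hmod := Equiv.Perm.card_compl_support_modEq hσ
  have hcard : (σ.supportᶜ).card = Nat.card L := by
    rw [← Nat.card_eq_finsetCard]
    refine Nat.card_congr
      { toFun := fun a => ⟨(a.1 : G), a.1.2, mem_centralizer_singleton_iff.2 ?_⟩
        invFun := fun x => ⟨⟨x, x.2.1⟩, ?_⟩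
        left_inv := fun a => rfl
        right_inv := fun x => rfl }
    · have ha := a.2
      simp only [Finset.mem_compl, Equiv.Perm.mem_support, not_not] at ha
      exact (mul_inv_eq_iff_eq_mul.1 (congrArg Subtype.val ha)).symm
    · simp only [Finset.mem_compl, Equiv.Perm.mem_support, not_not]
      exact Subtype.ext (mul_inv_eq_iff_eq_mul.2 (mem_centralizer_singleton_iff.1 x.2.2).symm)
  rw [hcard, ← Nat.card_eq_fintype_card, K.card_A] at hmod
  have hdvd : Nat.card L ∣ 2 ^ 4 := (card_dvd_of_le (inf_le_left : L ≤ K.A)).trans (by rw [K.card_A]; norm_num)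
  obtain ⟨i, hi, hi'⟩ := (Nat.dvd_prime_pow Nat.prime_two).1 hdvd
  rw [hi'] at hmod ⊢
  have hne1 : i ≠ 0 := fun e => by
    rw [e, pow_zero, Subgroup.card_eq_one] at hi'
    exact ht.2 ((eq_bot_iff_forall _).1 hi' t ⟨ht.1, mem_centralizer_singleton_iff.2 h.cent.symm⟩ ▸
      one_mem _)
  have hne4 : i ≠ 4 := fun e => by
    have hLA : L = K.A := Subgroup.eq_of_le_of_card_ge inf_le_left (by rw [hi', e, K.card_A]; norm_num)
    have hzL : K.z ∈ L := by rw [hLA]; exact z_mem_A K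
    exact K.frame.z_ne (rot_fixed K hno ht h hzL (mem_sup_left (mem_zpowers _)))
  interval_cases i <;> simp_all [Nat.ModEq]

theorem central_line {t r v g : G} (ht : Outer K t) (h : Rot K t r)
    (hv : v ∈ K.A ⊓ centralizer ({r} : Set G)) (hg : g ∈ centralizer ({t} : Set G)) :
    ⁅g, v⁆ ∈ 𝕆 t := by
  haveI : Fact (Nat.Prime 2) := ⟨Nat.prime_two⟩
  rcases eq_or_ne v 1 with rfl | hv1
  · simp
  set C := centralizer ({t} : Set G) with hC
  obtain ⟨T, hT⟩ := ((A_two K).comap_of_injective C.subtype C.subtype_injective).exists_le_sylow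
  have hTA : (T : Subgroup C).map C.subtype = K.A :=
    two_eq K hno hu hne ht (T.2.map _)
      (fun x hx => mem_map.2 ⟨⟨x, A_le_cent K hno hu hne ht hx⟩, hT hx, rfl⟩) (map_subtype_le _)
  set vC : C := ⟨v, A_le_cent K hno hu hne ht hv.1⟩ with hvC
  have hv2 : orderOf vC = 2 := by
    rw [← Subgroup.orderOf_coe]
    exact orderOf_eq_prime (by rw [pow_two]; exact A_sq K hv.1) hv1
  have hiso : ∀ x : C, x * vC * x⁻¹ ∈ (T : Subgroup C) → x * vC * x⁻¹ = vC := by
    intro x hx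
    have hxA : (x : G) * v * (x : G)⁻¹ ∈ K.A := hTA.le (mem_map.2 ⟨_, hx, rfl⟩)
    obtain ⟨n, hn, hnt, hnv⟩ := fusion_A K hno hu hne ht (mem_centralizer_singleton_iff.1 x.2)
      hv.1 hxA
    obtain ⟨k, hk⟩ := rot_acts K hno hu hne ht h hn hnt
    refine Subtype.ext (hnv.symm.trans ?_)
    show n * v * n⁻¹ = v
    rw [hk v hv.1, mul_assoc, (Commute.pow_right (mem_centralizer_singleton_iff.1 hv.2) k).eq,
      inv_mul_cancel_left]
  have hI := ZStar.isolated_of_sylow T hv2 (hT hv.1) hiso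
  have hz := inv_mem (ZStar.zStar_of_brauerSuzuki ZStar.uniqueInvolution hI (⟨g, hg⟩ : C))
  refine ⟨_, hz, ?_⟩
  show ((vC * ⟨g, hg⟩ * vC⁻¹ * (⟨g, hg⟩ : C)⁻¹)⁻¹ : C).1 = ⁅g, v⁆
  simp [hvC, commutatorElement_def, mul_assoc]

omit hu hne hno in
theorem line_max' {t r a : G} (h : Rot K t r) (ha : a ∈ K.A)
    (hg : ∀ g ∈ centralizer ({t} : Set G), ⁅g, a⁆ ∈ 𝕆 t) :
    a ∈ K.A ⊓ centralizer ({r} : Set G) := by
  refine ⟨ha, mem_centralizer_singleton_iff.2 ?_⟩
  have h1 : ⁅r, a⁆ ∈ K.A := mul_mem (h.norm a ha) (inv_mem ha)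
  have h2 := hg r (mem_centralizer_singleton_iff.2 h.cent)
  have h3 : orderOf ⁅r, a⁆ = 1 :=
    Nat.eq_one_of_dvd_coprimes (Nat.coprime_two_right.2 (odd_core t))
      (Subgroup.orderOf_dvd_natCard _ h2)
      (orderOf_dvd_of_pow_eq_one (by rw [pow_two]; exact A_sq K h1))
  exact (commutatorElement_eq_one_iff_mul_comm.1 (orderOf_eq_one_iff.1 h3)).symm

omit hno hu hne in
open scoped Classical in
/-- Either all `C(t)` are 2-constrained or the `Setup` holds. -/
theorem exists_setup [IsSimpleGroup G] (hna : ¬ IsMulCommutative G)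
    (hne : ∀ t, Outer K t → ¬ IsConj K.z t) :
    (∀ t, Outer K t → Cfsg.IsPConstrained 2 ↥(centralizer ({t} : Set G))) ∨
      ∃ D : Data G, D.A = K.A ∧ D.z = K.z ∧ D.u = K.u 4 ∧ Setup D := by
  have hno : TwoTimesPSL.NoIndexTwo G := TwoTimesPSL.noIndexTwo_of_simple hna
  have hu := conj_u_z K hna
  by_cases hall : ∀ t, Outer K t → ∃ r, Rot K t r
  swap
  · left
    push Not at hall
    obtain ⟨t₀, ht₀, hno₀⟩ := hall
    have h0 : Cfsg.IsPConstrained 2 ↥(centralizer ({t₀} : Set G)) :=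
      constrained_of_fix K hno hu hne ht₀ fun n hn hnt => by
        by_contra hnz
        obtain ⟨r, hr⟩ := exists_rot K hno hu hne ht₀ hn hnt hnz
        exact hno₀ r hr
    intro t ht
    obtain ⟨c, -, -, hc⟩ := exists_conj_outer K hno ht₀ ht
    exact constrained_conj (isConj_iff.2 ⟨c, hc⟩) h0
  right
  let rot : G → G := fun t => if h : ∃ r, Rot K t r then h.choose else 1
  let D : Data G := ⟨K.A, K.z, K.u 4, fun t => K.A ⊓ centralizer ({rot t} : Set G), rot⟩
  have hrot : ∀ t, Outer K t → Rot K t (rot t) := fun t ht => by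
    simp only [rot, dif_pos (hall t ht)]
    exact (hall t ht).choose_spec
  refine ⟨D, rfl, rfl, rfl, ?_⟩
  exact
    { elem := A_elem K
      card := K.card_A
      zA := z_mem_A K
      uA := u_mem_A K
      z1 := K.frame.z_ne
      u1 := (u_ne K).1
      zu := (u_ne K).2.2.1
      con := fun w hw hw1 => by
        obtain ⟨r, hr, rfl⟩ := V_cases K hw
        rcases (r0_inV_iff r).1 hr with rfl | rfl | rfl | rfl
        · exact absurd (map_one _) hw1
        · exact constrained_z K hno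
        · exact constrained_conj hu (constrained_z K hno)
        · rw [map_mul]
          exact constrained_conj (z_conj_V K hno hu (Or.inr (Or.inr rfl))) (constrained_z K hno)
      cent := fun t ht x h1 h2 => cent_outer K hno ht h1 h2
      line_le := fun t _ => inf_le_left
      line_card := fun t ht => line_card K hno ht (hrot t ht)
      line_mem := fun t ht =>
        ⟨ht.1, mem_centralizer_singleton_iff.2 (hrot t ht).cent.symm⟩
      line_disj := fun t ht v hv hvV => rot_fixed K hno ht (hrot t ht) hv hvV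
      line_eq := fun t ht v hv hv1 => by
        have hvo : Outer K v :=
          ⟨hv.1, fun hV => hv1 (rot_fixed K hno ht (hrot t ht) hv hV)⟩
        have h := hrot t ht
        exact line_indep K hno hvo (hrot v hvo)
          ⟨(mem_centralizer_singleton_iff.1 hv.2).symm, h.norm, h.z, h.u⟩
      central := fun t ht v hv g hg => central_line K hno hu hne ht (hrot t ht) hv hg
      line_max := fun t ht a ha h => line_max' K (hrot t ht) ha h
      rot_cent := fun t ht => mem_centralizer_singleton_iff.2 (hrot t ht).cent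
      rot_norm := fun t ht => (hrot t ht).norm
      rot_z := fun t ht => (hrot t ht).z
      rot_u := fun t ht => (hrot t ht).u
      move := fun t ht => move K ht
      two_le := fun t ht T hT hTt => two_le K hno hu hne ht hT hTt }

end Cfsg.Agent.JSylowSimple
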