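import Cfsg.Agent.Lib.JSylowSimple.Setup

/-!
# The invariant subgroup of `O(C(t))` (helper51, for S1776)

For `t ∈ A \ U`: `X = O(C(z)) ∩ C(t) ∩ C(line t)`, `Δ_w = O(C(t)) ∩ C(w) ∩ O*(t w)` and
`N = ⟨Δ_z, Δ_u, Δ_zu⟩`.  Then `N ∩ C(z) = Δ_z` and `N` is normalised by `A`, `X` and `rot t`.
-/

set_option autoImplicit false
set_option linter.style.haveILetI false
set_option linter.unusedSectionVars false

namespace Cfsg.Agent.JSylowSimple

open Subgroup
open scoped commutatorElement Pointwise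

universe v

variable {G : Type v} [Group G]

namespace Data

variable (D : Data G)

/-- `O(C(z)) ∩ C(t) ∩ C(line t)`. -/
def Xj (t : G) : Subgroup G :=
  Cfsg.centralizerPPrimeCore 2 D.z ⊓ centralizer ({t} : Set G) ⊓ centralizer (D.line t : Set G)

/-- `O(C(t)) ∩ C(w) ∩ O*(t w)`. -/
def Del (t w : G) : Subgroup G :=
  Cfsg.centralizerPPrimeCore 2 t ⊓ centralizer ({w} : Set G) ⊓ D.Ostar (t * w)

/-- `⟨Δ_z, Δ_u, Δ_zu⟩`. -/
def Nsub (t : G) : Subgroup G := D.Del t D.z ⊔ D.Del t D.u ⊔ D.Del t (D.z * D.u)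

/-- `(O(C(s)) ∩ C(line s)) E`. -/
def K (s : G) : Subgroup G :=
  (Cfsg.centralizerPPrimeCore 2 s ⊓ centralizer (D.line s : Set G)) ⊔ D.E

/-- `[Y, line s] (Y ∩ K s)`. -/
def part (Y : Subgroup G) (s : G) : Subgroup G := ⁅Y, D.line s⁆ ⊔ (Y ⊓ D.K s)

end Data

namespace Setup

variable {D : Data G} (S : Setup D) [Finite G]
include S

local notation "𝕆" => Cfsg.centralizerPPrimeCore 2

theorem E_le_cent_line {s : G} (hs : D.Outer s) : D.E ≤ centralizer (D.line s : Set G) :=
  fun _ he => mem_centralizer_iff.2 fun _ hv => (S.E_comm he (S.line_le s hs hv)).symm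

theorem E_le_normCline {s : G} (hs : D.Outer s) :
    D.E ≤ normalizer ((𝕆 s ⊓ centralizer (D.line s : Set G) : Subgroup G) : Set G) :=
  Signalizer.le_normalizer_inf (S.E_le_normO hs.1) ((S.E_le_cent_line hs).trans le_normalizer)

theorem mem_K {s x : G} (hs : D.Outer s) :
    x ∈ D.K s ↔ ∃ o ∈ 𝕆 s ⊓ centralizer (D.line s : Set G), ∃ e ∈ D.E, o * e = x :=
  Coprime.mem_sup_iff (S.E_le_normCline hs)

theorem K_le_cent {s : G} (hs : D.Outer s) : D.K s ≤ centralizer (D.line s : Set G) :=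
  sup_le inf_le_right (S.E_le_cent_line hs)

theorem K_le_Ostar (s : G) : D.K s ≤ D.Ostar s := sup_le_sup_right inf_le_left _

theorem A_le_cent_line {s : G} (hs : D.Outer s) : D.A ≤ centralizer (D.line s : Set G) :=
  fun _ ha => mem_centralizer_iff.2 fun _ hv => S.comm (S.line_le s hs hv) ha

theorem A_le_normK {s : G} (hs : D.Outer s) : D.A ≤ normalizer (D.K s : Set G) :=
  Signalizer.le_normalizer_sup
    (Signalizer.le_normalizer_inf (S.A_le_normO hs.1) ((S.A_le_cent_line hs).trans le_normalizer))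
    S.A_le_normE

variable {Y : Subgroup G}

theorem part_le {s : G} (hs : D.Outer s) (hAY : D.A ≤ normalizer (Y : Set G)) : D.part Y s ≤ Y :=
  sup_le (Coprime.commutator_le_left' ((S.line_le s hs).trans hAY)) inf_le_left

theorem part_invariant {s : G} (hs : D.Outer s) (hAY : D.A ≤ normalizer (Y : Set G)) :
    D.A ≤ normalizer (D.part Y s : Set G) :=
  Signalizer.le_normalizer_sup
    (Coprime.le_normalizer_commutator hAY (Signalizer.le_normalizer_of_commute fun _ ha _ hv =>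
      S.comm ha (S.line_le s hs hv)))
    (Signalizer.le_normalizer_inf hAY (S.A_le_normK hs))

theorem line_not_cyclic {s : G} (hs : D.Outer s) : ¬ IsCyclic (D.line s) := fun h => by
  obtain ⟨g, hg⟩ := h.exists_generator
  have h2 := orderOf_eq_card_of_forall_mem_zpowers hg
  rw [S.line_card s hs] at h2
  have h3 := orderOf_dvd_of_pow_eq_one (show g ^ 2 = 1 from Subtype.ext ((S.line_elem hs).2 g g.2))
  rw [h2] at h3
  norm_num at h3

/-- `part Y s ∩ C(line s) ≤ K s`. -/
theorem part_cent {s : G} (hs : D.Outer s) (hY : Odd (Nat.card Y))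
    (hAY : D.A ≤ normalizer (Y : Set G)) :
    D.part Y s ⊓ centralizer (D.line s : Set G) ≤ D.K s := by
  haveI : Fact (Nat.Prime 2) := ⟨Nat.prime_two⟩
  haveI := (S.line_elem hs).1
  set V := D.line s with hV
  have hVY : V ≤ normalizer (Y : Set G) := (S.line_le s hs).trans hAY
  have hle : ⁅Y, V⁆ ≤ Y := Coprime.commutator_le_left' hVY
  have hcY : Odd (Nat.card ↥⁅Y, V⁆) := odd_of_le hle hY
  refine (Signalizer.inf_centralizer_sup (Signalizer.isPGroup_of_elemAb (S.line_elem hs))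
    (normalizer_commutator_ge_right Y V)
    (Signalizer.le_normalizer_inf hVY ((S.line_le s hs).trans (S.A_le_normK hs)))
    (inf_le_left.trans (normalizer_commutator_ge_left Y V))
    (fun h => Nat.not_even_iff_odd.2 (odd_of_le inf_le_left hcY) (even_iff_two_dvd.2 h))).trans
    (sup_le ?_ (inf_le_left.trans inf_le_right))
  rw [Solvable.CommFixed.inf_centralizer_eq_iSup (OddOrderTheorem.solvable hcY)
    (normalizer_commutator_ge_right Y V) (coprime_two_group (S.line_elem hs) hcY)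
    (Coprime.commutator_commutator_eq hVY (coprime_two_group (S.line_elem hs) hY)
      (Or.inl (Solvable.CommFixed.solv_comm V))) le_rfl]
  refine iSup_le fun ⟨B, hB, hcyc⟩ => ?_
  obtain ⟨c, hc, hc1⟩ : ∃ c ∈ B, c ≠ 1 := by
    refine B.bot_or_exists_ne_one.resolve_left ?_
    rintro rfl
    haveI hn : ((⊥ : Subgroup G).subgroupOf V).Normal := by
      rw [bot_subgroupOf]; infer_instance
    have hq : IsCyclic (↥V ⧸ (⊥ : Subgroup G).subgroupOf V) := hcyc
    exact S.line_not_cyclic hs (isCyclic_of_injective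
      (QuotientGroup.mk' ((⊥ : Subgroup G).subgroupOf V))
      (by rw [← MonoidHom.ker_eq_bot_iff, QuotientGroup.ker_mk', bot_subgroupOf]))
  have hco := S.line_outer hs (hB hc) hc1
  have hle2 : ⁅⁅Y, V⁆ ⊓ centralizer (B : Set G), V⁆ ≤ 𝕆 c := commutator_le.2 fun y hy v hv =>
    S.line_comm_O hco ((S.line_eq s hs c (hB hc) hc1).symm ▸ hv)
      (mem_centralizer_iff.1 hy.2 c hc).symm
  rintro x ⟨⟨-, hxV⟩, hx⟩
  have hs' : s ∈ D.line c := (S.line_eq s hs c (hB hc) hc1).symm ▸ S.line_mem s hs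
  exact mem_sup_left ⟨S.line_balance hco hs' (S.outer_ne hs)
    ⟨hle2 hx, mem_centralizer_singleton_iff.2
      (mem_centralizer_iff.1 hxV s (S.line_mem s hs)).symm⟩, hxV⟩

/-- An invariant subgroup of `Y` whose fixed points of `line s` are in `K s` is in `part Y s`. -/
theorem le_part {s : G} {X : Subgroup G} (hs : D.Outer s) (hXY : X ≤ Y) (hY : Odd (Nat.card Y))
    (hAX : D.A ≤ normalizer (X : Set G))
    (h : ∀ x ∈ X, (∀ v ∈ D.line s, v * x = x * v) → x ∈ D.K s) : X ≤ D.part Y s :=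
  split (S.line_elem hs) (odd_of_le hXY hY) ((S.line_le s hs).trans hAX)
    (fun _ hx _ hv => mem_sup_left (commutator_mem_commutator (hXY hx) hv))
    fun x hx hc => mem_sup_right ⟨hXY hx, h x hx hc⟩

/-- An invariant subgroup of `part Y s` inside `C(s)` lies in `O*(s)`. -/
theorem le_Ostar_of_le_part {s : G} {X : Subgroup G} (hs : D.Outer s) (hY : Odd (Nat.card Y))
    (hAY : D.A ≤ normalizer (Y : Set G)) (hX : X ≤ D.part Y s) (hXs : ∀ x ∈ X, x * s = s * x)
    (hAX : D.A ≤ normalizer (X : Set G)) : X ≤ D.Ostar s :=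
  split (S.line_elem hs) (odd_of_le (hX.trans (S.part_le hs hAY)) hY) ((S.line_le s hs).trans hAX)
    (fun x hx v hv => mem_sup_left (S.line_comm_O hs hv (hXs x hx)))
    fun _ hx hc => S.K_le_Ostar _ (S.part_cent hs hY hAY ⟨hX hx, mem_centralizer_iff.2 hc⟩)

/-! ### The subgroup `N` -/

variable {t : G}

theorem mem_Xj {x : G} : x ∈ D.Xj t ↔
    x ∈ 𝕆 D.z ∧ x * t = t * x ∧ ∀ v ∈ D.line t, v * x = x * v := by
  rw [Data.Xj, mem_inf, mem_inf, mem_centralizer_singleton_iff, mem_centralizer_iff, and_assoc]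
  rfl

theorem Xj_invariant (ht : D.Outer t) : D.A ≤ normalizer (D.Xj t : Set G) :=
  Signalizer.le_normalizer_inf (Signalizer.le_normalizer_inf (S.A_le_normO S.zA)
    ((S.A_le_cent ht.1).trans le_normalizer)) ((S.A_le_cent_line ht).trans le_normalizer)

theorem odd_Xj (t : G) : Odd (Nat.card (D.Xj t)) :=
  odd_of_le (inf_le_left.trans inf_le_left) (odd_core _)

theorem Xj_comm_z {x : G} (hx : x ∈ D.Xj t) : x * D.z = D.z * x :=
  mem_centralizer_singleton_iff.1 (Signalizer.core_le_centralizer D.z (S.mem_Xj.1 hx).1)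

/-- `X ≤ O*(t z)`. -/
theorem Xj_le_Ostar (ht : D.Outer t) : D.Xj t ≤ D.Ostar (t * D.z) := by
  have hs := S.outer_mul ht S.z_mem
  refine split (S.line_elem hs) (S.odd_Xj t) ((S.line_le _ hs).trans (S.Xj_invariant ht))
    (fun x hx v hv => mem_sup_left (S.line_comm_O hs hv
      (Commute.mul_right (S.mem_Xj.1 hx).2.1 (S.Xj_comm_z hx)).eq))
    fun x hx hc => mem_sup_right (S.mem_E ht (odd_orderOf (S.odd_Xj t) hx)
      (S.cent_lines hs ht (S.line_ne ht S.z_mem S.z1) hc (S.mem_Xj.1 hx).2.2))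

theorem del_le_O (t w : G) : D.Del t w ≤ 𝕆 t := inf_le_left.trans inf_le_left

theorem mem_Del {w x : G} : x ∈ D.Del t w ↔ x ∈ 𝕆 t ∧ x * w = w * x ∧ x ∈ D.Ostar (t * w) := by
  rw [Data.Del, mem_inf, mem_inf, mem_centralizer_singleton_iff, and_assoc]

theorem del_invariant {w : G} (ht : D.Outer t) (hw : w ∈ D.four) :
    D.A ≤ normalizer (D.Del t w : Set G) :=
  Signalizer.le_normalizer_inf (Signalizer.le_normalizer_inf (S.A_le_normO ht.1)
    ((S.A_le_cent (S.four_le hw)).trans le_normalizer)) (S.A_le_normOstar (S.outer_mul ht hw).1)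

/-- `O(C(t)) ∩ C(U) ≤ Δ_w`. -/
theorem del_four {w x : G} (ht : D.Outer t) (hw : w ∈ D.four) (hx : x ∈ 𝕆 t)
    (hxU : ∀ y ∈ D.four, x * y = y * x) : x ∈ D.Del t w := by
  have hs := S.outer_mul ht hw
  have hX : 𝕆 t ⊓ centralizer (D.four : Set G) ≤ D.Ostar (t * w) :=
    S.le_Ostar hs (odd_of_le inf_le_left (odd_core t))
      (Signalizer.le_normalizer_inf (S.A_le_normO ht.1) (le_trans
        (fun a ha => mem_centralizer_iff.2 fun y hy => S.comm (S.four_le hy) ha) le_normalizer))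
      (fun y hy => (Commute.mul_right
        (mem_centralizer_singleton_iff.1 (Signalizer.core_le_centralizer t hy.1))
        (mem_centralizer_iff.1 hy.2 w hw).symm).eq)
      fun y hy v hv => (mem_centralizer_iff.1 hy.2 v hv).symm
  exact S.mem_Del.2 ⟨hx, hxU w hw, hX ⟨hx, mem_centralizer_iff.2 fun y hy => (hxU y hy).symm⟩⟩

theorem N_le_O (t : G) : D.Nsub t ≤ 𝕆 t :=
  sup_le (sup_le (S.del_le_O t _) (S.del_le_O t _)) (S.del_le_O t _)

theorem N_invariant (ht : D.Outer t) : D.A ≤ normalizer (D.Nsub t : Set G) :=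
  Signalizer.le_normalizer_sup (Signalizer.le_normalizer_sup (S.del_invariant ht S.z_mem)
    (S.del_invariant ht S.u_mem)) (S.del_invariant ht (mul_mem S.z_mem S.u_mem))

theorem del_le_N {w : G} (hw : w ∈ D.four) (hw1 : w ≠ 1) : D.Del t w ≤ D.Nsub t := by
  rcases S.mem_four.1 hw with rfl | rfl | rfl | rfl
  · exact absurd rfl hw1
  · exact le_sup_left.trans le_sup_left
  · exact le_sup_right.trans le_sup_left
  · exact le_sup_right

/-- `Δ_{w'} ≤ part Y (t w)`. -/
theorem del_le_part {w w' : G} (ht : D.Outer t) (hw : w ∈ D.four) (hw1 : w ≠ 1)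
    (hw' : w' ∈ D.four) (hw'1 : w' ≠ 1) (hY : Odd (Nat.card Y)) (hOY : 𝕆 t ≤ Y) :
    D.Del t w' ≤ D.part Y (t * w) := by
  have hs := S.outer_mul ht hw
  refine S.le_part hs ((S.del_le_O t w').trans hOY) hY (S.del_invariant ht hw') fun x hx hc => ?_
  obtain ⟨hxO, hxw', hxS⟩ := S.mem_Del.1 hx
  by_cases hww : w = w'
  · subst hww
    obtain ⟨o, ho, e, he, rfl⟩ := (S.mem_Ostar hs.1).1 hxS
    refine (S.mem_K hs).2 ⟨o, ⟨ho, mem_centralizer_iff.2 fun v hv => ?_⟩, e, he, rfl⟩
    have h1 : Commute v (o * e) := hc v hv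
    have h2 : Commute v e⁻¹ := (show Commute v e from (S.E_comm he (S.line_le _ hs hv)).symm).inv_right
    have h3 := h1.mul_right h2
    rwa [mul_inv_cancel_right] at h3
  · have hxt : Commute x t := mem_centralizer_singleton_iff.1 (Signalizer.core_le_centralizer t hxO)
    have hxw : Commute w x := by
      have h1 : Commute (t * w) x := hc _ (S.line_mem _ hs)
      have h2 := hxt.symm.inv_left.mul_left h1
      rwa [inv_mul_cancel_left] at h2
    exact mem_sup_right (S.mem_E ht (odd_orderOf (odd_core t) hxO)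
      (S.cent_line_four hs hc hw hw1 hw' hw'1 hww hxw.eq hxw'.symm))

/-- `N ∩ C(z) = Δ_z`. -/
theorem N_inf_z (ht : D.Outer t) : D.Nsub t ⊓ centralizer ({D.z} : Set G) ≤ D.Del t D.z := by
  have hs := S.outer_mul ht S.z_mem
  have hP : D.Nsub t ≤ D.part (𝕆 t) (t * D.z) := sup_le (sup_le
      (S.del_le_part ht S.z_mem S.z1 S.z_mem S.z1 (odd_core t) le_rfl)
      (S.del_le_part ht S.z_mem S.z1 S.u_mem S.u1 (odd_core t) le_rfl))
    (S.del_le_part ht S.z_mem S.z1 (mul_mem S.z_mem S.u_mem) S.zu_ne (odd_core t) le_rfl)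
  have hinv : D.A ≤ normalizer
      ((D.Nsub t ⊓ centralizer ({D.z} : Set G) : Subgroup G) : Set G) :=
    Signalizer.le_normalizer_inf (S.N_invariant ht) ((S.A_le_cent S.zA).trans le_normalizer)
  have hle := S.le_Ostar_of_le_part hs (odd_core t) (S.A_le_normO ht.1) (inf_le_left.trans hP)
    (fun x hx => (Commute.mul_right
      (mem_centralizer_singleton_iff.1 (Signalizer.core_le_centralizer t (S.N_le_O t hx.1)))
      (mem_centralizer_singleton_iff.1 hx.2)).eq) hinv
  exact fun x hx => S.mem_Del.2 ⟨S.N_le_O t hx.1, mem_centralizer_singleton_iff.1 hx.2, hle hx⟩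

/-- `X` normalises `N`. -/
theorem Xj_le_normN (ht : D.Outer t) : D.Xj t ≤ normalizer (D.Nsub t : Set G) := by
  haveI : Fact (Nat.Prime 2) := ⟨Nat.prime_two⟩
  set Y := 𝕆 t ⊔ D.Xj t with hYdef
  have hXn : D.Xj t ≤ normalizer (𝕆 t : Set G) := fun x hx =>
    Signalizer.centralizer_le_normalizer_core t (mem_centralizer_singleton_iff.2 (S.mem_Xj.1 hx).2.1)
  have hY : Odd (Nat.card Y) := odd_sup hXn (odd_core t) (S.odd_Xj t)
  have hAY : D.A ≤ normalizer (Y : Set G) :=
    Signalizer.le_normalizer_sup (S.A_le_normO ht.1) (S.Xj_invariant ht)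
  have hYt : ∀ y ∈ Y, y * t = t * y := fun y hy => mem_centralizer_singleton_iff.1
    ((sup_le (Signalizer.core_le_centralizer t)
      (fun x hx => mem_centralizer_singleton_iff.2 (S.mem_Xj.1 hx).2.1) :
        Y ≤ centralizer ({t} : Set G)) hy)
  have hzO : D.z ∈ normalizer (𝕆 t : Set G) := S.A_le_normO ht.1 S.zA
  have hYz : ∀ y ∈ Y, ⁅y, D.z⁆ ∈ 𝕆 t := by
    intro y hy
    obtain ⟨o, ho, x, hx, rfl⟩ := (Coprime.mem_sup_iff hXn).1 hy
    have h1 : x * D.z * x⁻¹ = D.z := by rw [S.Xj_comm_z hx, mul_inv_cancel_right]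
    have e : ⁅o * x, D.z⁆ = o * (D.z * o⁻¹ * D.z⁻¹) := by
      rw [commutatorElement_def]
      calc o * x * D.z * (o * x)⁻¹ * D.z⁻¹ = o * (x * D.z * x⁻¹) * o⁻¹ * D.z⁻¹ := by group
        _ = _ := by rw [h1]; group
    rw [e]
    exact mul_mem ho ((mem_normalizer_iff.1 hzO _).1 (inv_mem ho))
  have hzu := mul_mem S.z_mem S.u_mem
  set P := D.part Y (t * D.u) ⊓ D.part Y (t * (D.z * D.u)) with hP
  have hsu := S.outer_mul ht S.u_mem
  have hszu := S.outer_mul ht hzu
  have hPY : P ≤ Y := inf_le_left.trans (S.part_le hsu hAY)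
  have hAP : D.A ≤ normalizer (P : Set G) :=
    Signalizer.le_normalizer_inf (S.part_invariant hsu hAY) (S.part_invariant hszu hAY)
  have hXpart : ∀ w ∈ D.four, w ≠ 1 → D.Xj t ≤ D.part Y (t * w) := fun w hw hw1 => by
    have hs := S.outer_mul ht hw
    exact S.le_part hs le_sup_right hY (S.Xj_invariant ht) fun x hx hc =>
      mem_sup_right (S.mem_E ht (odd_orderOf (S.odd_Xj t) hx)
        (S.cent_lines hs ht (S.line_ne ht hw hw1) hc (S.mem_Xj.1 hx).2.2))
  have hXP : D.Xj t ≤ P := le_inf (hXpart _ S.u_mem S.u1) (hXpart _ hzu S.zu_ne)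
  have hDP : ∀ w ∈ D.four, w ≠ 1 → D.Del t w ≤ P := fun w hw hw1 =>
    le_inf (S.del_le_part ht S.u_mem S.u1 hw hw1 hY le_sup_left)
      (S.del_le_part ht hzu S.zu_ne hw hw1 hY le_sup_left)
  -- the fixed points of `u` and `z u`
  have hfix : ∀ w ∈ D.four, w ≠ 1 → w ≠ D.z → P ≤ D.part Y (t * w) →
      P ⊓ centralizer ({w} : Set G) ≤ D.Nsub t ⊔ D.E := by
    intro w hw hw1 hwz hPw
    have hs := S.outer_mul ht hw
    set F := P ⊓ centralizer ({w} : Set G) with hF
    have hFY : F ≤ Y := inf_le_left.trans hPY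
    have hFA : D.A ≤ normalizer (F : Set G) :=
      Signalizer.le_normalizer_inf hAP ((S.A_le_cent (S.four_le hw)).trans le_normalizer)
    have hFodd := odd_of_le hFY hY
    have h1 : F ≤ D.Ostar (t * w) := S.le_Ostar_of_le_part hs hY hAY (inf_le_left.trans hPw)
      (fun x hx => (Commute.mul_right (hYt x (hFY hx)) (mem_centralizer_singleton_iff.1 hx.2)).eq)
      hFA
    have h2 : F ≤ D.Ostar t := by
      refine split (S.line_elem ht) hFodd ((S.line_le t ht).trans hFA)
        (fun x hx v hv => mem_sup_left (S.line_comm_O ht hv (hYt x (hFY hx)))) fun x hx hc => ?_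
      set F' := F ⊓ centralizer (D.line t : Set G) with hF'
      have hF'A : D.A ≤ normalizer (F' : Set G) :=
        Signalizer.le_normalizer_inf hFA ((S.A_le_cent_line ht).trans le_normalizer)
      have h3 : F' ≤ D.Ostar t := split
        (Signalizer.elemAb_of_le S.elem (zpowers_le.2 S.zA)) (odd_of_le inf_le_left hFodd)
        ((zpowers_le.2 S.zA).trans hF'A)
        (fun y hy p hp => by
          obtain ⟨i, rfl⟩ := mem_zpowers_iff.1 hp
          rcases Int.even_or_odd' i with ⟨j, rfl | rfl⟩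
          · rw [zpow_mul, zpow_two, S.sq S.zA, one_zpow, commutatorElement_one_right]
            exact one_mem _
          · rw [zpow_add, zpow_mul, zpow_two, S.sq S.zA, one_zpow, one_mul, zpow_one]
            exact mem_sup_left (hYz y (hFY hy.1)))
        fun y hy hyz => mem_sup_right (S.mem_E ht (odd_orderOf hFodd hy.1)
          (S.cent_line_four ht (mem_centralizer_iff.1 hy.2) S.z_mem S.z1 hw hw1 (Ne.symm hwz)
            (hyz _ (mem_zpowers _)) (mem_centralizer_singleton_iff.1 hy.1.2).symm))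
      exact h3 ⟨hx, mem_centralizer_iff.2 hc⟩
    intro x hx
    obtain ⟨o, ho, e, he, rfl⟩ := (S.mem_Ostar ht.1).1 (h2 hx)
    refine mul_mem (mem_sup_left (S.del_le_N hw hw1 (S.mem_Del.2 ⟨ho, ?_, ?_⟩))) (mem_sup_right he)
    · have h3 : Commute (o * e) w := mem_centralizer_singleton_iff.1 hx.2
      have h4 : Commute e⁻¹ w := (show Commute e w from S.E_comm he (S.four_le hw)).inv_left
      have h5 := h3.mul_left h4
      rwa [mul_inv_cancel_right] at h5
    · have h3 := mul_mem (h1 hx) (inv_mem (mem_sup_right he : e ∈ D.Ostar (t * w)))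
      rwa [mul_inv_cancel_right] at h3
  have hNE : D.E ≤ normalizer (D.Nsub t : Set G) := by
    have hd : ∀ w ∈ D.four, D.E ≤ normalizer (D.Del t w : Set G) := fun w hw =>
      Signalizer.le_normalizer_inf (Signalizer.le_normalizer_inf (S.E_le_normO ht.1)
        (le_trans (fun e he => mem_centralizer_singleton_iff.2 (S.E_comm he (S.four_le hw)))
          le_normalizer))
        (Signalizer.le_normalizer_sup (S.E_le_normO (S.outer_mul ht hw).1) le_normalizer)
    exact Signalizer.le_normalizer_sup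
      (Signalizer.le_normalizer_sup (hd _ S.z_mem) (hd _ S.u_mem)) (hd _ hzu)
  -- `[P, z] ≤ N`
  have hcomm : ∀ n ∈ P, n * D.z * n⁻¹ * D.z⁻¹ ∈ D.Nsub t := by
    intro n hn
    set Y' := P ⊓ (D.Nsub t ⊔ D.E) with hY'
    have hUA : ∀ {H : Subgroup G}, D.A ≤ normalizer (H : Set G) →
        D.four ≤ normalizer (H : Set G) := fun h => S.four_le.trans h
    have h1 := conj_mul_mem S.four_elem S.four_not_cyclic S.z_mem (odd_of_le hPY hY) (hUA hAP)
      (Y := Y') inf_le_left
      (hUA (Signalizer.le_normalizer_inf hAP (Signalizer.le_normalizer_sup (S.N_invariant ht)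
        S.A_le_normE)))
      (fun w hw hw1 hwz => le_inf inf_le_left (hfix w hw hw1 hwz (by
        rcases S.mem_four.1 hw with rfl | rfl | rfl | rfl
        · exact absurd rfl hw1
        · exact absurd rfl hwz
        · exact inf_le_left
        · exact inf_le_right))) hn
    obtain ⟨p, hp, e, he, hpe⟩ := (Coprime.mem_sup_iff hNE).1 h1.2
    have hO : n * D.z * n⁻¹ * D.z⁻¹ ∈ 𝕆 t := hYz n (hPY hn)
    have heO : e ∈ 𝕆 t := by
      rw [show e = p⁻¹ * (n * D.z * n⁻¹ * D.z⁻¹) by rw [← hpe, inv_mul_cancel_left]]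
      exact mul_mem (inv_mem (S.N_le_O t hp)) hO
    rw [← hpe]
    exact mul_mem hp (S.del_le_N S.z_mem S.z1
      (S.del_four ht S.z_mem heO fun y hy => S.E_comm he (S.four_le hy)))
  intro g hg
  refine Signalizer.mem_normalizer_of_conj_mem ?_
  have hgz : g * D.z = D.z * g := S.Xj_comm_z hg
  have hgc : ∀ n ∈ P, g * (n * D.z * n⁻¹ * D.z⁻¹) * g⁻¹ ∈ D.Nsub t := by
    intro n hn
    have e : g * (n * D.z * n⁻¹ * D.z⁻¹) * g⁻¹ = (g * n) * D.z * (g * n)⁻¹ * D.z⁻¹ := by
      have h1 : D.z⁻¹ * g⁻¹ = g⁻¹ * D.z⁻¹ := by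
        rw [← mul_inv_rev, ← mul_inv_rev, hgz]
      simp only [mul_inv_rev, mul_assoc]
      rw [h1]
    rw [e]
    exact hcomm _ (mul_mem (hXP hg) hn)
  have hz' : D.Del t D.z ≤ (D.Nsub t).comap (MulAut.conj g).toMonoidHom := by
    intro x hx
    obtain ⟨hxO, hxz, hxS⟩ := S.mem_Del.1 hx
    refine S.del_le_N S.z_mem S.z1 (S.mem_Del.2 ⟨Signalizer.conj_mem hXn hg hxO, ?_, ?_⟩)
    · show Commute (g * x * g⁻¹) D.z
      exact (Commute.mul_left hgz hxz).mul_left (Commute.inv_left hgz)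
    · exact mul_mem (mul_mem (S.Xj_le_Ostar ht hg) hxS) (inv_mem (S.Xj_le_Ostar ht hg))
  have hw' : ∀ w ∈ D.four, w ≠ 1 → w ≠ D.z →
      D.Del t w ≤ (D.Nsub t).comap (MulAut.conj g).toMonoidHom := by
    intro w hw hw1 hwz
    refine split (Signalizer.elemAb_of_le S.elem (zpowers_le.2 S.zA))
      (odd_of_le (S.del_le_O t w) (odd_core t))
      ((zpowers_le.2 S.zA).trans (S.del_invariant ht hw)) (fun x hx p hp => ?_) fun x hx hxz => ?_
    · obtain ⟨i, rfl⟩ := mem_zpowers_iff.1 hp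
      rcases Int.even_or_odd' i with ⟨j, rfl | rfl⟩
      · rw [zpow_mul, zpow_two, S.sq S.zA, one_zpow, commutatorElement_one_right]
        exact one_mem _
      · rw [zpow_add, zpow_mul, zpow_two, S.sq S.zA, one_zpow, one_mul, zpow_one]
        exact hgc x (hDP w hw hw1 hx)
    · obtain ⟨hxO, hxw, -⟩ := S.mem_Del.1 hx
      refine hz' (S.del_four ht S.z_mem hxO fun y hy => ?_)
      have hxz' : x * D.z = D.z * x := (hxz _ (mem_zpowers _)).symm
      rcases S.mul_four S.z_mem S.z1 hw hw1 (Ne.symm hwz) hy with rfl | rfl | rfl | rfl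
      · simp
      · exact hxz'
      · exact hxw
      · exact (Commute.mul_right hxz' hxw).eq
  have hle : D.Nsub t ≤ (D.Nsub t).comap (MulAut.conj g).toMonoidHom :=
    sup_le (sup_le hz' (hw' _ S.u_mem S.u1 (Ne.symm S.zu)))
      (hw' _ hzu S.zu_ne fun e => S.u1 (mul_eq_left.1 e))
  exact fun x hx => hle hx

/-- An element of `C(A)` stays there under a normalising element. -/
theorem conj_mem_E (ht : D.Outer t) {g e : G} (hg : ∀ a ∈ D.A, g * a * g⁻¹ ∈ D.A) (he : e ∈ D.E) :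
    g * e * g⁻¹ ∈ D.E := by
  refine S.mem_E ht (by rw [Involution.orderOf_conj]; exact odd_orderOf S.odd_E he)
    (mem_centralizer_iff.2 fun a ha => ?_)
  obtain ⟨b, hb, rfl⟩ : ∃ b ∈ D.A, g * b * g⁻¹ = a := by
    have hg' : g ∈ normalizer (D.A : Set G) := Signalizer.mem_normalizer_of_conj_mem hg
    exact ⟨g⁻¹ * a * g, (mem_normalizer_iff''.1 hg' a).1 ha, by group⟩
  exact ((show Commute b e from (S.E_comm he hb).symm).map (MulAut.conj g).toMonoidHom).eq

/-- `rot t` normalises `N`. -/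
theorem rot_mem_normN (ht : D.Outer t) : D.rot t ∈ normalizer (D.Nsub t : Set G) := by
  refine Signalizer.mem_normalizer_of_conj_mem ?_
  set c := D.rot t with hc
  have hct : c * t * c⁻¹ = t := S.rot_comm ht
  have hO : ∀ {a x : G}, x ∈ 𝕆 a → c * x * c⁻¹ ∈ 𝕆 (c * a * c⁻¹) := fun {a x} hx => by
    rw [S.conj_O]; exact ⟨x, hx, rfl⟩
  have hd : ∀ w ∈ D.four, ∀ x ∈ D.Del t w, c * x * c⁻¹ ∈ D.Del t (c * w * c⁻¹) := by
    intro w hw x hx
    obtain ⟨hxO, hxw, hxS⟩ := S.mem_Del.1 hx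
    refine S.mem_Del.2 ⟨?_, ?_, ?_⟩
    · have := hO hxO; rwa [hct] at this
    · exact (show Commute x w from hxw).map (MulAut.conj c).toMonoidHom
    · obtain ⟨o, ho, e, he, rfl⟩ := (S.mem_Ostar (S.outer_mul ht hw).1).1 hxS
      rw [← conj_mul, show t * (c * w * c⁻¹) = c * (t * w) * c⁻¹ by rw [← conj_mul, hct]]
      exact mul_mem (mem_sup_left (hO ho)) (mem_sup_right (S.conj_mem_E ht (S.rot_norm t ht) he))
  have hzu := mul_mem S.z_mem S.u_mem
  have hle : D.Nsub t ≤ (D.Nsub t).comap (MulAut.conj c).toMonoidHom := by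
    refine sup_le (sup_le (fun x hx => ?_) fun x hx => ?_) fun x hx => ?_
    · have := hd _ S.z_mem x hx
      rw [S.rot_z t ht] at this
      exact S.del_le_N S.u_mem S.u1 this
    · have := hd _ S.u_mem x hx
      rw [S.rot_u t ht] at this
      exact S.del_le_N hzu S.zu_ne this
    · have := hd _ hzu x hx
      rw [← conj_mul, S.rot_z t ht, S.rot_u t ht, ← mul_assoc, S.comm S.uA S.zA, mul_assoc,
        S.sq S.uA, mul_one] at this
      exact S.del_le_N S.z_mem S.z1 this
  exact fun x hx => hle hx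

end Setup

end Cfsg.Agent.JSylowSimple
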