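import Cfsg.Agent.Lib.JSylowSimple.Parts
import Cfsg.Agent.Lib.JSylowSimple.Quad

/-!
# `C(t)` modulo `O(C(t))` and the line (helper51, for S1776)

* `Mline t = O(C(t)) line t`, normal in `C(t)`; its elements of odd order lie in `O(C(t))`
* `exists_quot` : the quotient satisfies `Quad`
-/

set_option autoImplicit false
set_option linter.style.haveILetI false
set_option linter.unusedSectionVars false

namespace Cfsg.Agent.JSylowSimple

open Subgroup
open scoped commutatorElement Pointwise

universe v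

variable {G : Type v} [Group G]

theorem relIndex_eq_card_map {K H : Type*} [Group K] [Group H] {f : K →* H} {M : Subgroup K}
    (hker : f.ker = M) (Y : Subgroup K) : M.relIndex Y = Nat.card (Y.map f) := by
  subst hker
  rw [relIndex_ker]

namespace Data

variable (D : Data G)

/-- `O(C(t)) line t`. -/
def Mline (t : G) : Subgroup G := Cfsg.centralizerPPrimeCore 2 t ⊔ D.line t

end Data

namespace Setup

variable {D : Data G} (S : Setup D) [Finite G]
include S

local notation "𝕆" => Cfsg.centralizerPPrimeCore 2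

/-- The Sylow 2-subgroups of `C(t)` have order 16. -/
theorem sylow_cent {t : G} (ht : D.Outer t) :
    ¬ 2 ∣ (D.A.subgroupOf (centralizer ({t} : Set G))).index := by
  haveI : Fact (Nat.Prime 2) := ⟨Nat.prime_two⟩
  set C := centralizer ({t} : Set G)
  obtain ⟨P, hP⟩ := ((Signalizer.isPGroup_of_elemAb S.elem).comap_of_injective C.subtype
    C.subtype_injective).exists_le_sylow
  have h16 : Nat.card (D.A.subgroupOf C) = 16 := by
    rw [Cores.card_subgroupOf (S.A_le_cent ht.1), S.card]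
  have he : (P : Subgroup C) = D.A.subgroupOf C := by
    refine (Subgroup.eq_of_le_of_card_ge hP ?_).symm
    rw [show D.A.comap C.subtype = D.A.subgroupOf C from rfl, h16,
      ← Cores.card_map_subtype C P]
    exact S.two_le t ht _ (P.2.map _) (map_subtype_le _)
  rw [← he]
  exact P.not_dvd_index

theorem A_inf_O {t a : G} (ha : a ∈ D.A) (hO : a ∈ 𝕆 t) : a = 1 := by
  have h := odd_orderOf (odd_core t) hO
  rcases Nat.le_one_iff_eq_zero_or_eq_one.1 (Nat.le_of_lt_succ
    (lt_of_le_of_ne (orderOf_le_of_pow_eq_one two_pos (S.elem.2 a ha))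
      fun e => by rw [e] at h; exact absurd h (by decide))) with e | e
  · rw [e] at h; exact absurd h (by decide)
  · exact orderOf_eq_one_iff.1 e

theorem line_le_normO {t : G} (ht : D.Outer t) : D.line t ≤ normalizer (𝕆 t : Set G) :=
  (S.line_le t ht).trans (S.A_le_normO ht.1)

theorem mem_Mline {t x : G} (ht : D.Outer t) :
    x ∈ D.Mline t ↔ ∃ o ∈ 𝕆 t, ∃ v ∈ D.line t, o * v = x :=
  Coprime.mem_sup_iff (S.line_le_normO ht)

theorem Mline_le_cent {t : G} (ht : D.Outer t) : D.Mline t ≤ centralizer ({t} : Set G) :=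
  sup_le (Signalizer.core_le_centralizer t) ((S.line_le t ht).trans (S.A_le_cent ht.1))

theorem Mline_normal {t : G} (ht : D.Outer t) :
    ((D.Mline t).subgroupOf (centralizer ({t} : Set G))).Normal := by
  refine ⟨fun x hx g => ?_⟩
  obtain ⟨o, ho, v, hv, hx'⟩ := (S.mem_Mline ht).1 (mem_subgroupOf.1 hx)
  rw [mem_subgroupOf]
  show (g : G) * (x : G) * (g : G)⁻¹ ∈ _
  rw [← hx', ← conj_mul]
  refine mul_mem (mem_sup_left (Signalizer.conj_mem (Signalizer.centralizer_le_normalizer_core t)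
    g.2 ho)) ?_
  have h := mul_mem (mem_sup_left (S.central t ht v hv g g.2) : ⁅(g : G), v⁆ ∈ D.Mline t)
    (mem_sup_right hv : v ∈ D.Mline t)
  rwa [commutatorElement_def, inv_mul_cancel_right] at h

/-- An element of odd order of `O(C(t)) line t` lies in `O(C(t))`. -/
theorem mem_O_of_mem_Mline {t x : G} (ht : D.Outer t) (hx : x ∈ D.Mline t)
    (hodd : Odd (orderOf x)) : x ∈ 𝕆 t := by
  obtain ⟨o, ho, v, hv, rfl⟩ := (S.mem_Mline ht).1 hx
  refine mem_of_sq_mem hodd ?_
  have e : o * v * (o * v) = o * (v * o * v⁻¹) := by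
    rw [S.inv_eq (S.line_le t ht hv)]; simp [mul_assoc]
  rw [e]
  exact mul_mem ho (Signalizer.conj_mem (S.line_le_normO ht) hv ho)

theorem A_inf_Mline {t a : G} (ht : D.Outer t) (ha : a ∈ D.A) (hM : a ∈ D.Mline t) :
    a ∈ D.line t := by
  obtain ⟨o, ho, v, hv, rfl⟩ := (S.mem_Mline ht).1 hM
  have h1 : o = 1 := S.A_inf_O (t := t) (by
    have := mul_mem ha (inv_mem (S.line_le t ht hv))
    rwa [mul_inv_cancel_right] at this) ho
  rwa [h1, one_mul]

/-- A normal subgroup of `C(t)` of odd index over `O(C(t)) line t` is equal to it. -/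
theorem Mline_max {t : G} (ht : D.Outer t) : ∀ {Y : Subgroup (centralizer ({t} : Set G))}, Y.Normal →
    (D.Mline t).subgroupOf (centralizer ({t} : Set G)) ≤ Y →
    Odd (((D.Mline t).subgroupOf (centralizer ({t} : Set G))).relIndex Y) →
    Y ≤ (D.Mline t).subgroupOf (centralizer ({t} : Set G)) := by
  haveI : Fact (Nat.Prime 2) := ⟨Nat.prime_two⟩
  set C := centralizer ({t} : Set G) with hC
  intro Y hY hMY hodd
  haveI hOn : (Cfsg.oddCore C).Normal := Cores.pPrimeCore_normal 2 C
  set q := QuotientGroup.mk' (Cfsg.oddCore C) with hq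
  have hqs : Function.Surjective q := QuotientGroup.mk'_surjective _
  set M : Subgroup C := (D.Mline t).subgroupOf C with hM
  set Lb : Subgroup (C ⧸ Cfsg.oddCore C) := M.map q with hLb
  set Yb : Subgroup (C ⧸ Cfsg.oddCore C) := Y.map q with hYb
  haveI : Yb.Normal := hY.map q hqs
  have hle : Lb ≤ Yb := map_mono hMY
  have hker : q.ker ≤ M := by
    rw [hq, QuotientGroup.ker_mk']
    intro x hx
    exact mem_subgroupOf.2 (mem_sup_left ⟨x, hx, rfl⟩)
  have hLeq : ∀ x ∈ Lb, ∃ v : C, (v : G) ∈ D.line t ∧ q v = x := by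
    rintro _ ⟨x, hx, rfl⟩
    obtain ⟨o, ho, v, hv, hov⟩ := (S.mem_Mline ht).1 (mem_subgroupOf.1 hx)
    refine ⟨⟨v, S.A_le_cent ht.1 (S.line_le t ht hv)⟩, hv, ?_⟩
    obtain ⟨o', ho', rfl⟩ := ho
    have e : x = o' * ⟨v, S.A_le_cent ht.1 (S.line_le t ht hv)⟩ := Subtype.ext hov.symm
    rw [e, map_mul, show q o' = 1 from (QuotientGroup.eq_one_iff o').2 ho', one_mul]
  have hcent : ∀ x ∈ Lb, ∀ y, y * x = x * y := by
    intro x hx y
    obtain ⟨v, hv, rfl⟩ := hLeq x hx
    obtain ⟨g, rfl⟩ := hqs y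
    obtain ⟨d, hd, hde⟩ := S.central t ht v hv g g.2
    have h1 : q (g * v * g⁻¹ * v⁻¹) = 1 := by
      rw [show g * v * g⁻¹ * v⁻¹ = d from Subtype.ext (by
        rw [← Subgroup.coe_subtype, hde]; simp [commutatorElement_def])]
      exact (QuotientGroup.eq_one_iff d).2 hd
    rw [map_mul, map_mul, map_mul, map_inv, map_inv, mul_inv_eq_one, mul_inv_eq_iff_eq_mul] at h1
    exact h1
  have hL2 : IsPGroup 2 Lb := fun ⟨x, hx⟩ => by
    obtain ⟨v, hv, rfl⟩ := hLeq x hx
    refine ⟨1, Subtype.ext ?_⟩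
    show q v ^ 2 ^ 1 = 1
    rw [pow_one, ← map_pow, show v ^ 2 = 1 from Subtype.ext (S.elem.2 _ (S.line_le t ht hv)), map_one]
  haveI hLn : (Lb.subgroupOf Yb).Normal := ⟨fun x hx g => by
    rw [mem_subgroupOf] at hx ⊢
    show (g : C ⧸ Cfsg.oddCore C) * x * (g : C ⧸ Cfsg.oddCore C)⁻¹ ∈ Lb
    rw [hcent _ hx, mul_inv_cancel_right]
    exact hx⟩
  have hidx : Odd (Lb.subgroupOf Yb).index := by
    have : Lb.relIndex Yb = M.relIndex Y := by
      rw [hLb, hYb, relIndex_map_map, sup_of_le_left hker, sup_of_le_left (hker.trans hMY)]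
    rw [← relIndex, this]
    exact hodd
  obtain ⟨k, hk⟩ := IsPGroup.iff_card.1 hL2
  obtain ⟨H, hH⟩ := Subgroup.exists_right_complement'_of_coprime (N := Lb.subgroupOf Yb) (by
    rw [Cores.card_subgroupOf hle, hk]
    exact Nat.Coprime.pow_left _ (Nat.coprime_two_left.2 hidx))
  haveI hHn : H.Normal := by
    refine normalizer_eq_top_iff.1 (top_le_iff.1 (hH.sup_eq_top ▸ sup_le ?_ le_normalizer))
    intro a ha
    refine Signalizer.mem_normalizer_of_conj_mem fun h hh => ?_
    have h1 : a * h = h * a := Subtype.ext (hcent _ (mem_subgroupOf.1 ha) (h : C ⧸ Cfsg.oddCore C)).symm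
    rw [h1, mul_inv_cancel_right]
    exact hh
  have hHodd : (Nat.card H).Coprime 2 := by
    rw [← hH.symm.index_eq_card, Nat.coprime_two_right]
    exact hidx
  have hH1 : H = ⊥ := by
    have h1 := map_mono (f := Yb.subtype) (Cores.le_pPrimeCore hHn hHodd)
    rw [Cores.pPrimeCore_map_subtype Yb 2, Cores.pPrimeCore_quotient_self, bot_inf_eq, le_bot_iff,
      map_eq_bot_iff_of_injective _ Yb.subtype_injective] at h1
    exact h1
  have hYL : Yb ≤ Lb := fun y hy => by
    have h1 : (⟨y, hy⟩ : Yb) ∈ Lb.subgroupOf Yb := by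
      have h2 := hH.sup_eq_top
      rw [hH1, sup_bot_eq] at h2
      rw [h2]; exact mem_top _
    exact h1
  have h3 := comap_mono (f := q) hYL
  rw [hLb, hYb, comap_map_eq, comap_map_eq, sup_of_le_left hker, sup_of_le_left (hker.trans hMY)] at h3
  exact h3

/-- `C(t)` modulo `O(C(t)) line t`. -/
theorem exists_quot {t : G} (ht : D.Outer t) :
    ∃ (K : Type v) (_ : Group K) (_ : Finite K) (π : centralizer ({t} : Set G) →* K),
      Function.Surjective π ∧ (∀ x, π x = 1 ↔ (x : G) ∈ D.Mline t) ∧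
      Quad (π ⟨D.z, S.A_le_cent ht.1 S.zA⟩) (π ⟨D.u, S.A_le_cent ht.1 S.uA⟩)
        (π ⟨D.rot t, S.rot_cent t ht⟩) := by
  haveI : Fact (Nat.Prime 2) := ⟨Nat.prime_two⟩
  set C := centralizer ({t} : Set G) with hC
  haveI := S.Mline_normal ht
  set M : Subgroup C := (D.Mline t).subgroupOf C with hM
  refine ⟨C ⧸ M, inferInstance, inferInstance, QuotientGroup.mk' M, QuotientGroup.mk'_surjective M,
    fun x => (QuotientGroup.eq_one_iff x).trans mem_subgroupOf, ?_⟩
  set π := QuotientGroup.mk' M with hπ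
  have hπ1 : ∀ x, π x = 1 ↔ (x : G) ∈ D.Mline t := fun x =>
    (QuotientGroup.eq_one_iff x).trans mem_subgroupOf
  set zc : C := ⟨D.z, S.A_le_cent ht.1 S.zA⟩ with hzc
  set uc : C := ⟨D.u, S.A_le_cent ht.1 S.uA⟩ with huc
  have hfour : (closure {π zc, π uc} : Subgroup (C ⧸ M)) = (D.four.subgroupOf C).map π := by
    rw [Set.insert_eq, Subgroup.closure_union, ← zpowers_eq_closure, ← zpowers_eq_closure]
    refine le_antisymm (sup_le ?_ ?_) ?_
    · exact zpowers_le.2 (mem_map_of_mem π (mem_subgroupOf.2 S.z_mem))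
    · exact zpowers_le.2 (mem_map_of_mem π (mem_subgroupOf.2 S.u_mem))
    · rintro _ ⟨x, hx, rfl⟩
      rcases S.mem_four.1 (mem_subgroupOf.1 hx) with e | e | e | e
      · rw [show x = 1 from Subtype.ext e, map_one]; exact one_mem _
      · rw [show x = zc from Subtype.ext e]; exact mem_sup_left (mem_zpowers _)
      · rw [show x = uc from Subtype.ext e]; exact mem_sup_right (mem_zpowers _)
      · rw [show x = zc * uc from Subtype.ext e, map_mul]
        exact mul_mem (mem_sup_left (mem_zpowers _)) (mem_sup_right (mem_zpowers _))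
  have hinj : ∀ x : C, (x : G) ∈ D.four → π x = 1 → x = 1 := fun x hx h =>
    Subtype.ext (S.line_disj t ht _ (S.A_inf_Mline ht (S.four_le hx) ((hπ1 x).1 h)) hx)
  have hcard : Nat.card ((D.four.subgroupOf C).map π) = 4 := by
    have hi : Function.Injective (π.comp (D.four.subgroupOf C).subtype) :=
      (injective_iff_map_eq_one _).2 fun x hx => Subtype.ext (hinj x (mem_subgroupOf.1 x.2) hx)
    have hr : (π.comp (D.four.subgroupOf C).subtype).range = (D.four.subgroupOf C).map π := by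
      rw [MonoidHom.range_comp, Subgroup.range_subtype]
    rw [← hr, ← Nat.card_congr (MonoidHom.ofInjective hi).toEquiv,
      Cores.card_subgroupOf (S.four_le.trans (S.A_le_cent ht.1)), S.four_card]
  have hexp : ∀ x ∈ (D.four.subgroupOf C).map π, x * x = 1 := by
    rintro _ ⟨x, hx, rfl⟩
    rw [← map_mul, show x * x = 1 from Subtype.ext (S.sq (S.four_le (mem_subgroupOf.1 hx))), map_one]
  have hne : ∀ w : C, (w : G) ∈ D.four → w ≠ 1 → orderOf (π w) = 2 := fun w hw hw1 =>
    orderOf_eq_prime (by rw [pow_two]; exact hexp _ ⟨w, mem_subgroupOf.2 hw, rfl⟩)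
      fun h => hw1 (hinj w hw h)
  refine ⟨?_, ?_, ?_, hne zc S.z_mem fun h => S.z1 (congrArg Subtype.val h),
    hne uc S.u_mem fun h => S.u1 (congrArg Subtype.val h), ?_, ?_, ?_⟩
  · -- trivial core
    haveI hYn : ((Cfsg.oddCore (C ⧸ M)).comap π).Normal :=
      Normal.comap (Cores.pPrimeCore_normal 2 _) π
    have hsurj : Function.Surjective π := QuotientGroup.mk'_surjective M
    have hMY : M ≤ (Cfsg.oddCore (C ⧸ M)).comap π := fun x hx => by
      rw [mem_comap, show π x = 1 from (QuotientGroup.eq_one_iff x).2 hx]; exact one_mem _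
    have h1 := S.Mline_max ht hYn hMY (by
      have hker : π.ker = M := QuotientGroup.ker_mk' M
      rw [relIndex_eq_card_map hker,
        map_comap_eq_self_of_surjective hsurj]
      exact Nat.coprime_two_right.1 (Cores.coprime_card_pPrimeCore 2))
    rw [← map_comap_eq_self_of_surjective hsurj (Cfsg.oddCore (C ⧸ M)), eq_bot_iff]
    rintro _ ⟨x, hx, rfl⟩
    rw [mem_bot]
    exact (QuotientGroup.eq_one_iff x).2 (h1 hx)
  · rw [hfour]
    refine ⟨hcard, ?_⟩
    refine ((Nat.dvd_prime Nat.prime_two).1 (Monoid.exponent_dvd_of_forall_pow_eq_one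
      fun x => Subtype.ext (by rw [pow_two]; exact hexp x x.2))).resolve_left fun e => ?_
    haveI := Monoid.exp_eq_one_iff.1 e
    rw [Nat.card_unique] at hcard
    omega
  · have himg : (D.four.subgroupOf C).map π = (D.A.subgroupOf C).map π := by
      refine le_antisymm (map_mono fun x hx => mem_subgroupOf.2 (S.four_le (mem_subgroupOf.1 hx))) ?_
      rintro _ ⟨x, hx, rfl⟩
      obtain ⟨v, hv, w, hw, hvw⟩ := S.decomp ht (mem_subgroupOf.1 hx)
      refine ⟨⟨w, S.A_le_cent ht.1 (S.four_le hw)⟩, mem_subgroupOf.2 hw, ?_⟩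
      rw [show x = ⟨v, S.A_le_cent ht.1 (S.line_le t ht hv)⟩ * ⟨w, S.A_le_cent ht.1 (S.four_le hw)⟩
        from Subtype.ext hvw, map_mul, (hπ1 ⟨v, S.A_le_cent ht.1 (S.line_le t ht hv)⟩).2 (mem_sup_right hv), one_mul]
    have hp : IsPGroup 2 ((D.four.subgroupOf C).map π) :=
      IsPGroup.of_card (n := 2) (by rw [hcard]; rfl)
    refine ⟨hp.toSylow ?_, by rw [hfour]; rfl⟩
    rw [himg]
    exact fun h => S.sylow_cent ht (h.trans (index_map_dvd _ (QuotientGroup.mk'_surjective M)))
  · exact (show Commute zc uc from Subtype.ext (S.comm S.zA S.uA)).map π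
  · rw [← map_inv, ← map_mul, ← map_mul]
    exact congrArg π (Subtype.ext (S.rot_z t ht))
  · rw [← map_inv, ← map_mul, ← map_mul, ← map_mul]
    exact congrArg π (Subtype.ext (S.rot_u t ht))

end Setup

end Cfsg.Agent.JSylowSimple
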