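import Cfsg.Agent.Lib.JSylowSimple.Tools

/-!
# An invariant abelian section and its eigen lines (helper51, for S1776)

* `exists_section` : below a solvable `Y`, above a proper invariant `N`, an elementary abelian
  invariant section `V/J` with `V ⊓ N ≤ J`
* `sectionAct` : the action on `V/J`
* `exists_eigen` : a fixed-point-free four-group with cyclically permuted cyclic fixed groups
-/

set_option autoImplicit false
set_option linter.style.haveILetI false

namespace Cfsg.Agent.JSylowSimple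

open Subgroup
open scoped commutatorElement Pointwise

universe v

variable {G : Type v} [Group G] [Finite G]

theorem exists_section {H Y N : Subgroup G} (hY : Odd (Nat.card Y)) (hHY : H ≤ normalizer (Y : Set G))
    (hNY : N ≤ Y) (hne : N ≠ Y) (hHN : H ≤ normalizer (N : Set G)) :
    ∃ V J : Subgroup G, ∃ r : ℕ, r.Prime ∧ r ≠ 2 ∧ J ≤ V ∧ J ≠ V ∧ V ≤ Y ∧
      V ≤ normalizer (J : Set G) ∧ H ≤ normalizer (J : Set G) ∧ H ≤ normalizer (V : Set G) ∧
      V ⊓ N ≤ J ∧ (∀ a ∈ V, ∀ b ∈ V, ⁅a, b⁆ ∈ J) ∧ ∀ a ∈ V, a ^ r ∈ J := by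
  classical
  -- a maximal invariant overgroup
  obtain ⟨O1, hO1, hmax1⟩ := (Set.toFinite
    {P : Subgroup G | N ≤ P ∧ P ≤ Y ∧ P ≠ Y ∧ H ≤ normalizer (P : Set G)}).exists_maximal
    ⟨N, le_rfl, hNY, hne, hHN⟩
  obtain ⟨hNO, hOY, hOne, hHO⟩ := hO1
  -- its core in `Y`
  obtain ⟨J, ⟨hJO, hYJ, hHJ⟩, hmaxJ⟩ := (Set.toFinite
    {P : Subgroup G | P ≤ O1 ∧ Y ≤ normalizer (P : Set G) ∧ H ≤ normalizer (P : Set G)}).exists_maximal
    ⟨⊥, bot_le, Signalizer.le_normalizer_of_conj_mem (fun a _ x hx => by simp [mem_bot.1 hx]),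
      Signalizer.le_normalizer_of_conj_mem (fun a _ x hx => by simp [mem_bot.1 hx])⟩
  have hJY : J ≤ Y := hJO.trans hOY
  -- a minimal invariant subgroup above it
  obtain ⟨V, ⟨hJV, hJVne, hVY, hYV, hHV⟩, hminV⟩ := (Set.toFinite
    {P : Subgroup G | J ≤ P ∧ J ≠ P ∧ P ≤ Y ∧ Y ≤ normalizer (P : Set G) ∧
      H ≤ normalizer (P : Set G)}).exists_minimal
    ⟨Y, hJY, fun e => hOne (le_antisymm hOY (e ▸ hJO)), le_rfl, le_normalizer, hHY⟩
  have hVO : ¬ V ≤ O1 := fun h => hJVne (le_antisymm hJV (hmaxJ ⟨h, hYV, hHV⟩ hJV))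
  have hsup : O1 ⊔ V = Y := by
    by_contra hne'
    exact hVO (le_sup_right.trans (hmax1 ⟨hNO.trans le_sup_left, sup_le hOY hVY, hne',
      Signalizer.le_normalizer_sup hHO hHV⟩ le_sup_left))
  have hVJ : V ≤ normalizer (J : Set G) := hVY.trans hYJ
  have hmin : ∀ P : Subgroup G, J ≤ P → P ≤ V → Y ≤ normalizer (P : Set G) →
      H ≤ normalizer (P : Set G) → P ≠ J → P = V := fun P h1 h2 h3 h4 h5 =>
    le_antisymm h2 (hminV ⟨h1, fun e => h5 e.symm, h2.trans hVY, h3, h4⟩ h2)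
  -- the section is abelian
  set W : Subgroup G := ⁅V, V⁆ ⊔ J with hW
  have hWV : W ≤ V := sup_le (commutator_le.2 fun a ha b hb => by
    rw [commutatorElement_def]
    exact mul_mem (mul_mem (mul_mem ha hb) (inv_mem ha)) (inv_mem hb)) hJV
  haveI hJn : (J.subgroupOf V).Normal := normal_subgroupOf_iff_le_normalizer hJV |>.2 hVJ
  have hQ : Nontrivial (V ⧸ J.subgroupOf V) := by
    obtain ⟨a, ha, haJ⟩ := SetLike.exists_of_lt (lt_of_le_of_ne hJV hJVne)
    exact ⟨⟨QuotientGroup.mk' (J.subgroupOf V) ⟨a, ha⟩, 1, fun e =>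
      haJ (mem_subgroupOf.1 ((QuotientGroup.eq_one_iff _).1 e))⟩⟩
  haveI : Group.IsSolvable V := OddOrderTheorem.solvable (odd_of_le hVY hY)
  have hWne : W ≠ V := by
    intro e
    set π := QuotientGroup.mk' (J.subgroupOf V) with hπ
    have hs : Function.Surjective π := QuotientGroup.mk'_surjective _
    haveI : Group.IsSolvable (V ⧸ J.subgroupOf V) := Group.isSolvable_of_surjective hs
    refine (Group.IsSolvable.commutator_lt_top_of_nontrivial (V ⧸ J.subgroupOf V)).ne (top_le_iff.1 ?_)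
    have h1 : (⊤ : Subgroup V) ≤ commutator V ⊔ J.subgroupOf V := by
      refine (map_le_map_iff_of_injective V.subtype_injective).1 ?_
      rw [← MonoidHom.range_eq_map, range_subtype, Subgroup.map_sup, subgroupOf_map_subtype,
        inf_of_le_left hJV, _root_.commutator_def, map_commutator, ← MonoidHom.range_eq_map, range_subtype,
        ← hW, e]
    have h2 := map_mono (f := π) h1
    rw [Subgroup.map_sup, map_top_of_surjective π hs,
      (map_eq_bot_iff (J.subgroupOf V)).2 (by rw [hπ, QuotientGroup.ker_mk']), sup_bot_eq,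
      _root_.commutator_def, map_commutator, map_top_of_surjective π hs, ← _root_.commutator_def] at h2
    exact h2
  have hWJ : W = J := by
    by_contra h
    exact hWne (hmin W le_sup_right hWV
      (Signalizer.le_normalizer_sup (Coprime.le_normalizer_commutator hYV hYV) hYJ)
      (Signalizer.le_normalizer_sup (Coprime.le_normalizer_commutator hHV hHV) hHJ) h)
  have hab : ∀ a ∈ V, ∀ b ∈ V, ⁅a, b⁆ ∈ J := fun a ha b hb =>
    hWJ.le (mem_sup_left (commutator_mem_commutator ha hb))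
  letI : CommGroup (V ⧸ J.subgroupOf V) :=
    { (inferInstance : Group (V ⧸ J.subgroupOf V)) with
      mul_comm := fun x y => by
        obtain ⟨a, rfl⟩ := QuotientGroup.mk'_surjective _ x
        obtain ⟨b, rfl⟩ := QuotientGroup.mk'_surjective _ y
        rw [← map_mul, ← map_mul]
        refine (QuotientGroup.mk'_eq_mk' _).2 ⟨⁅b⁻¹, a⁻¹⁆, mem_subgroupOf.2 ?_, ?_⟩
        · exact hab _ (inv_mem b.2) _ (inv_mem a.2)
        · rw [commutatorElement_def]; group }
  -- the exponent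
  have hVodd : Odd (Nat.card (V ⧸ J.subgroupOf V)) :=
    (odd_of_le hVY hY).of_dvd_nat (card_quotient_dvd_card _)
  obtain ⟨r, hr, hrd⟩ := Nat.exists_prime_and_dvd (Finite.one_lt_card (α := V ⧸ J.subgroupOf V)).ne'
  haveI : Fact r.Prime := ⟨hr⟩
  have hr2 : r ≠ 2 := fun e => Nat.not_even_iff_odd.2 hVodd (even_iff_two_dvd.2 (e ▸ hrd))
  set π := QuotientGroup.mk' (J.subgroupOf V) with hπ
  set P : Subgroup G := (((powMonoidHom r).ker).comap π).map V.subtype with hP
  have hPmem : ∀ x, x ∈ P ↔ x ∈ V ∧ x ^ r ∈ J := by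
    intro x
    constructor
    · rintro ⟨a, ha, rfl⟩
      refine ⟨a.2, ?_⟩
      have h1 : π (a ^ r) = 1 := by rw [map_pow]; exact ha
      have h2 := mem_subgroupOf.1 ((QuotientGroup.eq_one_iff _).1 h1)
      simpa using h2
    · rintro ⟨hx, hxr⟩
      refine ⟨⟨x, hx⟩, ?_, rfl⟩
      show π ⟨x, hx⟩ ^ r = 1
      rw [← map_pow]
      exact (QuotientGroup.eq_one_iff _).2 (mem_subgroupOf.2 (by simpa using hxr))
  have hPinv : ∀ X : Subgroup G, X ≤ normalizer (V : Set G) → X ≤ normalizer (J : Set G) →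
      X ≤ normalizer (P : Set G) := fun X h1 h2 => Signalizer.le_normalizer_of_conj_mem
    fun g hg x hx => by
      obtain ⟨hxV, hxr⟩ := (hPmem x).1 hx
      refine (hPmem _).2 ⟨Signalizer.conj_mem h1 hg hxV, ?_⟩
      rw [conj_pow]
      exact Signalizer.conj_mem h2 hg hxr
  have hPV : P = V := by
    refine hmin P (fun x hx => (hPmem x).2 ⟨hJV hx, pow_mem hx r⟩) (map_subtype_le _)
      (hPinv Y hYV hYJ) (hPinv H hHV hHJ) fun e => ?_
    obtain ⟨q, hq⟩ := exists_prime_orderOf_dvd_card' r hrd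
    obtain ⟨a, rfl⟩ := QuotientGroup.mk'_surjective (J.subgroupOf V) q
    have haP : (a : G) ∈ P := ⟨a, (by show π a ^ r = 1; rw [← hq]; exact pow_orderOf_eq_one _), rfl⟩
    rw [e] at haP
    rw [show QuotientGroup.mk' (J.subgroupOf V) a = 1 from
      (QuotientGroup.eq_one_iff _).2 (mem_subgroupOf.2 haP), orderOf_one] at hq
    exact hr.one_lt.ne' hq.symm
  refine ⟨V, J, r, hr, hr2, hJV, hJVne, hVY, hVJ, hHJ, hHV, ?_, hab, fun a ha =>
    ((hPmem a).1 (hPV.ge ha)).2⟩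
  -- `V ⊓ O1 = J`
  have hVO1 : V ≤ normalizer ((V ⊓ O1 : Subgroup G) : Set G) :=
    Signalizer.le_normalizer_of_conj_mem fun g hg x hx => by
      have h1 : g * x * g⁻¹ = ⁅g, x⁆ * x := by rw [commutatorElement_def]; group
      refine mem_inf.2 ⟨mul_mem (mul_mem hg hx.1) (inv_mem hg), ?_⟩
      rw [h1]
      exact mul_mem (hJO (hab g hg x hx.1)) hx.2
  have hle : V ⊓ O1 ≤ J := hmaxJ
    ⟨inf_le_right, hsup ▸ sup_le (Signalizer.le_normalizer_inf ((hOY).trans hYV) le_normalizer) hVO1,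
      Signalizer.le_normalizer_inf hHV hHO⟩ (le_inf hJV hJO)
  exact le_trans (inf_le_inf_left V hNO) hle

/-- Conjugation on a section, as an endomorphism. -/
def sectionHom {H V J : Subgroup G} [(J.subgroupOf V).Normal] (hV : H ≤ normalizer (V : Set G))
    (hJ : H ≤ normalizer (J : Set G)) : H →* Monoid.End (V ⧸ J.subgroupOf V) where
  toFun h := QuotientGroup.map (J.subgroupOf V) (J.subgroupOf V)
    { toFun := fun a => ⟨h * a * (h : G)⁻¹, Signalizer.conj_mem hV h.2 a.2⟩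
      map_one' := Subtype.ext (by simp)
      map_mul' := fun a b => Subtype.ext (by simp [mul_assoc]) }
    fun a ha => mem_subgroupOf.2 (Signalizer.conj_mem hJ h.2 (mem_subgroupOf.1 ha))
  map_one' := by
    refine MonoidHom.ext fun q => ?_
    obtain ⟨a, rfl⟩ := QuotientGroup.mk'_surjective _ q
    exact congrArg (QuotientGroup.mk' _) (Subtype.ext (by simp))
  map_mul' h h' := by
    refine MonoidHom.ext fun q => ?_
    obtain ⟨a, rfl⟩ := QuotientGroup.mk'_surjective _ q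
    exact congrArg (QuotientGroup.mk' _) (Subtype.ext (by simp [mul_assoc]))

/-- Conjugation on a section. -/
def sectionAct {H V J : Subgroup G} [(J.subgroupOf V).Normal] (hV : H ≤ normalizer (V : Set G))
    (hJ : H ≤ normalizer (J : Set G)) : H →* MulAut (V ⧸ J.subgroupOf V) where
  toFun h := MonoidHom.toMulEquiv (sectionHom hV hJ h) (sectionHom hV hJ h⁻¹)
    (show sectionHom hV hJ h⁻¹ * sectionHom hV hJ h = 1 by rw [← map_mul, inv_mul_cancel, map_one])
    (show sectionHom hV hJ h * sectionHom hV hJ h⁻¹ = 1 by rw [← map_mul, mul_inv_cancel, map_one])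
  map_one' := MulEquiv.ext fun q => DFunLike.congr_fun (map_one (sectionHom hV hJ)) q
  map_mul' h h' := MulEquiv.ext fun q => DFunLike.congr_fun (map_mul (sectionHom hV hJ) h h') q

omit [Finite G] in
theorem sectionAct_mk {H V J : Subgroup G} [(J.subgroupOf V).Normal] (hV : H ≤ normalizer (V : Set G))
    (hJ : H ≤ normalizer (J : Set G)) (h : H) (a : V) :
    sectionAct hV hJ h (QuotientGroup.mk' (J.subgroupOf V) a) =
      QuotientGroup.mk' (J.subgroupOf V) ⟨h * a * (h : G)⁻¹, Signalizer.conj_mem hV h.2 a.2⟩ := rfl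

/-- Three lines. -/
theorem exists_eigen {M : Type*} [CommGroup M] [Finite M] [Nontrivial M] {r : ℕ} [Fact r.Prime]
    (hr : r ≠ 2) (hexp : ∀ x : M, x ^ r = 1) {Z U C : MulAut M} (hZ : Z * Z = 1) (hU : U * U = 1)
    (hZU : Z * U = U * Z) (hcz : C * Z * C⁻¹ = U) (hcu : C * U * C⁻¹ = Z * U)
    (hfix : ∀ x, Z x = x → U x = x → x = 1)
    (hcyc : ∃ x0, Z x0 = x0 ∧ ∀ x, Z x = x → ∃ k : ℕ, x = x0 ^ k) :
    ∃ e : Fin 3 → M, Subgroup.closure (Set.range e) = ⊤ ∧ Nat.card M = r ^ 3 ∧ (∀ i, e i ^ r = 1) ∧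
      e 0 ≠ 1 ∧ (Z (e 0) = e 0 ∧ Z (e 1) = (e 1)⁻¹ ∧ Z (e 2) = (e 2)⁻¹) ∧
      (U (e 0) = (e 0)⁻¹ ∧ U (e 1) = e 1 ∧ U (e 2) = (e 2)⁻¹) ∧
      ∀ i, ∃ k : ℕ, C (e i) = e (i + 1) ^ k := by
  obtain ⟨x0, hx0, hgen⟩ := hcyc
  have hZ2 : ∀ x, Z (Z x) = x := fun x => by rw [← MulAut.mul_apply, hZ]; rfl
  have hU2 : ∀ x, U (U x) = x := fun x => by rw [← MulAut.mul_apply, hU]; rfl
  have hc : ∀ x, Z (U x) = U (Z x) := fun x => by rw [← MulAut.mul_apply, hZU]; rfl
  have hCZ : ∀ x, C (Z x) = U (C x) := fun x => by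
    rw [← MulAut.mul_apply, ← MulAut.mul_apply, ← hcz, inv_mul_cancel_right]
  have hCU : ∀ x, C (U x) = Z (U (C x)) := fun x => by
    rw [← MulAut.mul_apply, ← MulAut.mul_apply, ← MulAut.mul_apply, ← hcu, inv_mul_cancel_right]
  obtain ⟨k, hk⟩ : ∃ k, r = 2 * k + 1 := (Fact.out : r.Prime).odd_of_ne_two hr
  have hsq : ∀ x : M, x * x = 1 → x = 1 := fun x h => by
    have := hexp x
    rwa [hk, pow_succ, pow_mul, pow_two, h, one_pow, one_mul] at this
  -- inversion
  have hinvU : ∀ x, Z x = x → U x = x⁻¹ := fun x hx => eq_inv_of_mul_eq_one_right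
    (hfix (x * U x) (by rw [map_mul, hx, hc, hx]) (by rw [map_mul, hU2, mul_comm]))
  set a := x0 with ha
  set b := C a with hb
  set c := C b with hcdef
  have hUa : U a = a⁻¹ := hinvU a hx0
  have hUb : U b = b := by rw [hb, ← hCZ, hx0]
  have hZb : Z b = b⁻¹ := eq_inv_of_mul_eq_one_right
    (hfix (b * Z b) (by rw [map_mul, hZ2, mul_comm]) (by rw [map_mul, hUb, ← hc, hUb]))
  have hZUc : Z (U c) = c := by rw [hcdef, ← hCU, hUb]
  have hUc : U c = c⁻¹ := by
    refine eq_inv_of_mul_eq_one_right (hfix (c * U c) ?_ (by rw [map_mul, hU2, mul_comm]))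
    rw [map_mul, hZUc, mul_comm, show Z c = U c from (congrArg Z hZUc).symm.trans (hZ2 _)]
  have hZc : Z c = c⁻¹ := by
    have := hZUc
    rw [hUc, map_inv, inv_eq_iff_eq_inv] at this
    exact this
  have hZCc : Z (C c) = C c := by
    apply C.symm.injective
    apply C.injective
    simp only [MulEquiv.apply_symm_apply]
    have h1 := hCU (U c)
    rw [hU2, hUc, map_inv, map_inv, map_inv] at h1
    have h2 := hCZ c
    rw [hZc, map_inv] at h2
    have h3 : U (C c) = (C c)⁻¹ := h2.symm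
    rw [h3, map_inv, inv_inv] at h1
    exact h1.symm
  -- the decomposition
  have hdec : ∀ x : M, ∃ i j l : ℕ, x = a ^ i * b ^ j * c ^ l := by
    have hfz : ∀ x, Z x = x → ∃ i : ℕ, x = a ^ i := hgen
    have hfu : ∀ x, U x = x → ∃ j : ℕ, x = b ^ j := fun x hx => by
      obtain ⟨y, rfl⟩ := C.surjective x
      obtain ⟨i, rfl⟩ := hgen y (C.injective (by rw [hCZ, hx]))
      exact ⟨i, map_pow C _ _⟩
    have hfzu : ∀ x, Z (U x) = x → ∃ l : ℕ, x = c ^ l := fun x hx => by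
      obtain ⟨y, rfl⟩ := C.surjective x
      obtain ⟨j, rfl⟩ := hfu y (C.injective (by rw [hCU, hx]))
      exact ⟨j, map_pow C _ _⟩
    intro x
    have h1 : x * Z x * U x * Z (U x) = 1 := hfix _
      (by simp only [map_mul, hZ2]; ac_rfl) (by simp only [map_mul, hU2, ← hc]; ac_rfl)
    obtain ⟨i, hi⟩ := hfz (x * Z x * (U x * Z (U x))⁻¹) (by
      simp only [map_mul, map_inv, hZ2, mul_comm (Z x) x, mul_comm (Z (U x)) (U x)])
    obtain ⟨j, hj⟩ := hfu (x * U x * (Z x * Z (U x))⁻¹) (by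
      simp only [map_mul, map_inv, hU2, ← hc, mul_comm (U x) x, mul_comm (Z (U x)) (Z x)])
    obtain ⟨l, hl⟩ := hfzu (x * Z (U x) * (Z x * U x)⁻¹) (by
      simp only [map_mul, map_inv, ← hc, hU2, hZ2]; congr 1 <;> ac_rfl)
    have h4 : x ^ 4 = a ^ i * b ^ j * c ^ l := by
      rw [← hi, ← hj, ← hl]
      generalize Z (U x) = s at h1 ⊢
      generalize Z x = p at h1 ⊢
      generalize U x = q at h1 ⊢
      have e : x * p * (q * s)⁻¹ * (x * q * (p * s)⁻¹) * (x * s * (p * q)⁻¹) =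
          x ^ 4 * (x * p * q * s)⁻¹ := by
        apply Additive.ofMul.injective
        simp only [ofMul_mul, ofMul_inv, ofMul_pow]
        abel
      rw [e, h1, inv_one, mul_one]
    obtain ⟨m, hm⟩ : ∃ m, x = (x ^ 4) ^ m := by
      have hcop : Nat.Coprime 4 r := Nat.Coprime.pow_left 2
        (Nat.coprime_two_left.2 ⟨k, hk⟩)
      obtain ⟨m, -, hm⟩ := Nat.exists_mul_mod_eq_one_of_coprime hcop (Fact.out : r.Prime).one_lt
      refine ⟨m, ?_⟩
      rw [← pow_mul, ← Nat.mod_add_div (4 * m) r, hm, pow_add, pow_mul, hexp, one_pow, mul_one, pow_one]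
    exact ⟨i * m, j * m, l * m, by rw [hm, h4, mul_pow, mul_pow, ← pow_mul, ← pow_mul, ← pow_mul]⟩
  have ha1 : a ≠ 1 := by
    intro e
    obtain ⟨x, hx⟩ := exists_ne (1 : M)
    obtain ⟨i, j, l, rfl⟩ := hdec x
    apply hx
    rw [hcdef, hb, e, map_one, map_one, one_pow, one_pow, one_pow, one_mul, one_mul]
  have hord : ∀ {y : M}, y ≠ 1 → orderOf y = r := fun hy => orderOf_eq_prime (hexp _) hy
  -- the count
  let f : Fin r × Fin r × Fin r → M := fun p => a ^ (p.1 : ℕ) * b ^ (p.2.1 : ℕ) * c ^ (p.2.2 : ℕ)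
  have hinj : Function.Injective f := by
    rintro ⟨i, j, l⟩ ⟨i', j', l'⟩ h
    simp only [f] at h
    have key : ∀ {p p' q q' s s' : M}, p * q * s = p' * q' * s' →
        p * q⁻¹ * s⁻¹ = p' * q'⁻¹ * s'⁻¹ → p = p' := by
      intro p p' q q' s s' h h'
      have h2 := congrArg₂ (· * ·) h h'
      have e : ∀ p q s : M, p * q * s * (p * q⁻¹ * s⁻¹) = p * p := fun p q s => by
        apply Additive.ofMul.injective
        simp only [ofMul_mul, ofMul_inv]
        abel
      simp only [e] at h2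
      refine mul_inv_eq_one.1 (hsq _ ?_)
      rw [mul_mul_mul_comm, h2, ← mul_inv, mul_inv_cancel]
    have hz := congrArg Z h
    simp only [map_mul, map_pow, hx0, hZb, hZc, inv_pow] at hz
    have hu := congrArg U h
    simp only [map_mul, map_pow, hUa, hUb, hUc, inv_pow] at hu
    have e1 := key h hz
    have e2 : b ^ (j : ℕ) = b ^ (j' : ℕ) := key
      (q := a ^ (i : ℕ)) (q' := a ^ (i' : ℕ)) (s := c ^ (l : ℕ)) (s' := c ^ (l' : ℕ))
      (by rwa [mul_comm (b ^ (j : ℕ)), mul_comm (b ^ (j' : ℕ))])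
      (by rwa [mul_comm (b ^ (j : ℕ)), mul_comm (b ^ (j' : ℕ))])
    rw [e1, e2] at h
    have e3 := mul_left_cancel h
    have hne : b ≠ 1 ∧ c ≠ 1 := by
      have hbne : b ≠ 1 := fun e => ha1 (C.injective (by rw [← hb, e, map_one]))
      exact ⟨hbne, fun e => hbne (C.injective (by rw [← hcdef, e, map_one]))⟩
    have pinj : ∀ {y : M}, y ≠ 1 → ∀ p q : Fin r, y ^ (p : ℕ) = y ^ (q : ℕ) → p = q :=
      fun hy p q h => Fin.ext (pow_injOn_Iio_orderOf (by rw [hord hy]; exact p.2)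
        (by rw [hord hy]; exact q.2) h)
    rw [pinj ha1 _ _ e1, pinj hne.1 _ _ e2, pinj hne.2 _ _ e3]
  have hsurj : Function.Surjective f := fun x => by
    obtain ⟨i, j, l, rfl⟩ := hdec x
    have hrp := (Fact.out : r.Prime).pos
    refine ⟨(⟨i % r, Nat.mod_lt _ hrp⟩, ⟨j % r, Nat.mod_lt _ hrp⟩, ⟨l % r, Nat.mod_lt _ hrp⟩), ?_⟩
    simp only [f]
    rw [← pow_eq_pow_mod i (hexp a), ← pow_eq_pow_mod j (hexp b), ← pow_eq_pow_mod l (hexp c)]
  refine ⟨![a, b, c], ?_, ?_, fun i => hexp _, ha1, ⟨hx0, hZb, hZc⟩, ⟨hUa, hUb, hUc⟩, ?_⟩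
  · refine eq_top_iff.2 fun x _ => ?_
    obtain ⟨i, j, l, rfl⟩ := hdec x
    exact mul_mem (mul_mem (pow_mem (Subgroup.subset_closure (Set.mem_range_self (f := ![a, b, c]) 0)) i) (pow_mem (Subgroup.subset_closure (Set.mem_range_self (f := ![a, b, c]) 1)) j))
      (pow_mem (Subgroup.subset_closure (Set.mem_range_self (f := ![a, b, c]) 2)) l)
  · rw [← Nat.card_congr (Equiv.ofBijective f ⟨hinj, hsurj⟩), Nat.card_prod, Nat.card_prod, Nat.card_fin]
    ring
  · intro i
    obtain ⟨n, hn⟩ := hgen (C c) hZCc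
    fin_cases i
    · exact ⟨1, by simp [hb]⟩
    · exact ⟨1, by simp [hcdef]⟩
    · exact ⟨n, by simpa using hn⟩

end Cfsg.Agent.JSylowSimple
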