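/-
Three eigenlines, a cyclic monomial map and a transvection force a nonabelian two-subgroup.

Main result (namespace `Cfsg.Agent.JSylowSimple`): `false_of_three_slots`.
-/
import Mathlib
import Cfsg.Agent.EqLemmas

set_option autoImplicit false

open Subgroup Matrix

namespace Cfsg.Agent.JSylowSimple

namespace ThreeSlot

variable {r : ℕ} [Fact r.Prime]

theorem transvection_conj {C : Matrix (Fin 3) (Fin 3) (ZMod r)} {k : Fin 3 → ZMod r}
    (hC : ∀ a b, C a b = if a = b + 1 then k b else 0) (hk : ∀ b, k b ≠ 0) {i j : Fin 3} (h : i ≠ j) (x : ZMod r) :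
    C * transvection i j x = transvection (i + 1) (j + 1) (x * k i / k j) * C := by
  have hC' : C = Matrix.of fun a b => if a = b + 1 then k b else 0 := Matrix.ext hC
  have h0 := hk 0; have h1 := hk 1; have h2 := hk 2
  ext a b
  rw [hC', transvection, transvection, mul_add, add_mul, Matrix.mul_one, Matrix.one_mul, Matrix.add_apply,
    Matrix.add_apply]
  fin_cases i <;> fin_cases j <;> fin_cases a <;> fin_cases b <;>
    first
      | (exfalso; exact h rfl)
      | (simp [Matrix.mul_apply, Fin.sum_univ_three, Matrix.single, h0, h1, h2] <;> field_simp)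

theorem transvection_commutator {i j l : Fin 3} (hij : i ≠ j) (hjl : j ≠ l) (hil : i ≠ l) (x y : ZMod r) :
    transvection i j x * transvection j l y * transvection i j (-x) * transvection j l (-y) =
      transvection i l (x * y) := by
  ext a b
  fin_cases i <;> fin_cases j <;> fin_cases l <;>
    first
      | (exfalso; exact hij rfl) | (exfalso; exact hjl rfl) | (exfalso; exact hil rfl)
      | (fin_cases a <;> fin_cases b <;>
          simp [Matrix.mul_apply, Fin.sum_univ_three, transvection, Matrix.single, Matrix.one_apply])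

theorem two_ne_zero' (hr : r ≠ 2) : (2 : ZMod r) ≠ 0 := fun h => hr
  ((Nat.prime_dvd_prime_iff_eq (Fact.out : r.Prime) Nat.prime_two).mp
    ((ZMod.natCast_eq_zero_iff 2 r).mp (by exact_mod_cast h)))

/-- An element of `r`-power order commuting with `diag (1,-1,-1)` and inverted by `diag (-1,1,-1)`. -/
theorem transvection_of_inverted (hr : r ≠ 2) {A : Matrix (Fin 3) (Fin 3) (ZMod r)}
    (hZ : A * diagonal ![1, -1, -1] = diagonal ![1, -1, -1] * A)
    (hU : A * (diagonal ![-1, 1, -1] * A * diagonal ![-1, 1, -1]) = 1) {n : ℕ} (hn : A ^ r ^ n = 1) :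
    ∃ x : ZMod r, A = transvection 1 2 x ∨ A = transvection 2 1 x := by
  have h2 := two_ne_zero' hr
  have hz : ∀ a b, (![1, -1, -1] : Fin 3 → ZMod r) b * A a b = (![1, -1, -1] : Fin 3 → ZMod r) a * A a b :=
    fun a b => by
      have := congrFun (congrFun hZ a) b
      rw [Matrix.mul_diagonal, Matrix.diagonal_mul] at this
      rw [mul_comm]; exact this
  have kill : ∀ x : ZMod r, -x = x → x = 0 := fun x h =>
    (mul_eq_zero.mp (show (2 : ZMod r) * x = 0 by linear_combination -h)).resolve_left h2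
  have a01 : A 0 1 = 0 := kill _ (by simpa using hz 0 1)
  have a02 : A 0 2 = 0 := kill _ (by simpa using hz 0 2)
  have a10 : A 1 0 = 0 := kill _ (by simpa using (hz 1 0).symm)
  have a20 : A 2 0 = 0 := kill _ (by simpa using (hz 2 0).symm)
  have key : ∀ a b, ∑ j, A a j * ((![-1, 1, -1] : Fin 3 → ZMod r) j * A j b * (![-1, 1, -1] : Fin 3 → ZMod r) b) =
      (1 : Matrix (Fin 3) (Fin 3) (ZMod r)) a b := fun a b => by
    rw [← congrFun (congrFun hU a) b]
    rw [Matrix.mul_apply]
    exact Finset.sum_congr rfl fun j _ => by rw [Matrix.mul_diagonal, Matrix.diagonal_mul]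
  have e00 := key 0 0
  have e11 := key 1 1
  have e22 := key 2 2
  simp [Fin.sum_univ_three, a01, a02, a10, a20] at e00 e11 e22
  have hfix : ∀ m : ℕ, (A ^ r ^ m).trace = A.trace ∧ (A ^ r ^ m).det = A.det := fun m => by
    induction m with
    | zero => simp
    | succ m ih =>
      rw [pow_succ, pow_mul, ZMod.trace_pow_card, ZMod.pow_card, Matrix.det_pow, ZMod.pow_card]
      exact ih
  obtain ⟨ht, hd⟩ := hfix n
  rw [hn, Matrix.trace_one, Fintype.card_fin, Matrix.trace_fin_three] at ht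
  rw [hn, Matrix.det_one, Matrix.det_fin_three, a01, a02, a10, a20] at hd
  push_cast at ht
  have a00 : A 0 0 = 1 := by
    rcases mul_eq_zero.mp (show (A 0 0 - 1) * (A 0 0 + 1) = 0 by linear_combination e00) with h | h
    · linear_combination h
    · exfalso
      rcases mul_eq_zero.mp (show (A 1 1 - A 2 2) * (A 1 1 + A 2 2) = 0 by linear_combination e11 - e22) with h' | h'
      · exact h2 (by linear_combination (1 : ZMod r) * hd - e11 + (A 1 1) * h' + (A 1 1 * A 2 2 - A 1 2 * A 2 1) * h)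
      · exact mul_ne_zero h2 h2 (by linear_combination ht + h + h')
  have a11 : A 1 1 = 1 := by
    rcases mul_eq_zero.mp (show (A 1 1 - A 2 2) * (A 1 1 + A 2 2) = 0 by linear_combination e11 - e22) with h | h
    · exact mul_left_cancel₀ h2 (by linear_combination h - ht - a00)
    · exact absurd (show (2 : ZMod r) = 0 by linear_combination ht + a00 + h) h2
  have a22 : A 2 2 = 1 := by linear_combination -ht - a00 - a11
  rcases mul_eq_zero.mp (show A 1 2 * A 2 1 = 0 by linear_combination (A 1 1 + 1) * a11 - e11) with h | h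
  · refine ⟨A 2 1, Or.inr (Matrix.ext fun a b => ?_)⟩
    fin_cases a <;> fin_cases b <;> simp [transvection, a00, a01, a02, a10, a11, a20, a22, h]
  · refine ⟨A 1 2, Or.inl (Matrix.ext fun a b => ?_)⟩
    fin_cases a <;> fin_cases b <;> simp [transvection, a00, a01, a02, a10, a11, a20, a22, h]

end ThreeSlot

open ThreeSlot in
theorem false_of_three_slots {M : Type*} [CommGroup M] [Finite M] {r : ℕ} [Fact r.Prime] (hr : r ≠ 2)
    {Γ : Subgroup (MulAut M)} (hab : ∀ T : Subgroup (MulAut M), T ≤ Γ → IsPGroup 2 T → IsMulCommutative T)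
    {Z U C g : MulAut M} (hZ : Z ∈ Γ) (hU : U ∈ Γ) (hC : C ∈ Γ) (hg : g ∈ Γ)
    {e : Fin 3 → M} (hgen : Subgroup.closure (Set.range e) = ⊤) (hcard : Nat.card M = r ^ 3) (her : ∀ i, e i ^ r = 1)
    (hZe : Z (e 0) = e 0 ∧ Z (e 1) = (e 1)⁻¹ ∧ Z (e 2) = (e 2)⁻¹)
    (hUe : U (e 0) = (e 0)⁻¹ ∧ U (e 1) = e 1 ∧ U (e 2) = (e 2)⁻¹)
    (hCe : ∀ i, ∃ k : ℕ, C (e i) = e (i + 1) ^ k)
    (hgp : ∃ k : ℕ, g ^ r ^ k = 1) (hg1 : g ≠ 1) (hgZ : Commute g Z) (hgU : U * g * U⁻¹ = g⁻¹) : False := by
  classical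
  let pw : Fin 3 → ZMod r →+ Additive M := fun i =>
    ZMod.lift r ⟨zmultiplesHom (Additive M) (Additive.ofMul (e i)), by
      simp only [zmultiplesHom_apply, natCast_zsmul]
      exact congrArg Additive.ofMul (her i)⟩
  let φ : (Fin 3 → ZMod r) →+ Additive M :=
    { toFun := fun v => ∑ i, pw i (v i)
      map_zero' := by simp
      map_add' := fun v w => by simp [Finset.sum_add_distrib] }
  have hpw : ∀ (i : Fin 3) (k : ℕ), pw i (k : ZMod r) = Additive.ofMul (e i ^ k) := fun i k => by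
    show ZMod.lift r _ ((k : ℕ) : ZMod r) = _
    rw [← Int.cast_natCast k, ZMod.lift_coe, zmultiplesHom_apply, natCast_zsmul]
    rfl
  have hφsingle : ∀ (i : Fin 3) (k : ℕ), φ (Pi.single i (k : ZMod r)) = Additive.ofMul (e i ^ k) := fun i k => by
    show ∑ j, pw j (Pi.single (M := fun _ : Fin 3 => ZMod r) i (k : ZMod r) j) = _
    rw [Finset.sum_eq_single i (fun j _ hj => by rw [Pi.single_eq_of_ne hj, map_zero]) (by simp),
      Pi.single_eq_same, hpw]
  have hsurj : Function.Surjective φ := fun m => by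
    have hm : Additive.toMul m ∈ Subgroup.closure (Set.range e) := hgen ▸ mem_top _
    suffices ∀ x ∈ Subgroup.closure (Set.range e), ∃ v, φ v = Additive.ofMul x from this _ hm
    intro x hx
    induction hx using Subgroup.closure_induction with
    | mem x hx => obtain ⟨i, rfl⟩ := hx; exact ⟨_, (hφsingle i 1).trans (by rw [pow_one])⟩
    | one => exact ⟨0, map_zero φ⟩
    | mul x y _ _ hx hy => obtain ⟨v, hv⟩ := hx; obtain ⟨w, hw⟩ := hy; exact ⟨v + w, by rw [map_add, hv, hw]; rfl⟩
    | inv x _ hx => obtain ⟨v, hv⟩ := hx; exact ⟨-v, by rw [map_neg, hv]; rfl⟩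
  have hbij : Function.Bijective φ := by
    refine (Nat.bijective_iff_surjective_and_card φ).mpr ⟨hsurj, ?_⟩
    rw [Nat.card_fun, Nat.card_zmod, Nat.card_eq_fintype_card, Fintype.card_fin]
    exact hcard.symm
  let Φ : (Fin 3 → ZMod r) ≃+ Additive M := AddEquiv.ofBijective φ hbij
  let L : MulAut M → ((Fin 3 → ZMod r) →ₗ[ZMod r] (Fin 3 → ZMod r)) := fun f =>
    ((Φ.symm.toAddMonoidHom.comp (MonoidHom.toAdditive f.toMonoidHom)).comp φ).toZModLinearMap r
  have hL : ∀ f v, L f v = Φ.symm (Additive.ofMul (f (Additive.toMul (φ v)))) := fun f v => rfl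
  have hLmul : ∀ f f', L (f * f') = (L f).comp (L f') := fun f f' => LinearMap.ext fun v => by
    rw [LinearMap.comp_apply, hL, hL f', hL f]
    congr 2
    show f (f' _) = f (Additive.toMul (Φ (Φ.symm _)))
    rw [AddEquiv.apply_symm_apply]
    rfl
  have hL1 : L 1 = LinearMap.id := LinearMap.ext fun v => by rw [hL]; exact Φ.symm_apply_apply v
  let ψ : MulAut M →* Matrix (Fin 3) (Fin 3) (ZMod r) :=
    { toFun := fun f => LinearMap.toMatrix' (L f)
      map_one' := by rw [hL1, LinearMap.toMatrix'_id]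
      map_mul' := fun f f' => by rw [hLmul, LinearMap.toMatrix'_comp] }
  have hψinj : Function.Injective ψ := fun f f' h => MulEquiv.ext fun m => by
    obtain ⟨v, hv⟩ := hsurj (Additive.ofMul m)
    have := LinearMap.congr_fun (LinearMap.toMatrix'.injective h) v
    rw [hL, hL, hv] at this
    exact Φ.symm.injective this
  have col : ∀ (f : MulAut M) (a b : Fin 3) (v : Fin 3 → ZMod r), φ v = Additive.ofMul (f (e b)) → ψ f a b = v a := by
    intro f a b v hv
    show LinearMap.toMatrix' (L f) a b = v a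
    rw [LinearMap.toMatrix'_apply, hL]
    have h1 : φ (fun j' => if j' = b then (1 : ZMod r) else 0) = Additive.ofMul (e b) := by
      rw [← pow_one (e b), ← hφsingle b 1, Nat.cast_one]
      exact congrArg φ (funext fun j => by simp [Pi.single_apply])
    first
      | rw [h1]
      | rw [show (Pi.single b (1 : ZMod r) : Fin 3 → ZMod r) = fun j' => if j' = b then (1 : ZMod r) else 0 from
          funext fun j => by simp [Pi.single_apply], h1]
    exact congrFun (Φ.symm_apply_eq.mpr hv.symm) a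
  have hdiag : ∀ (f : MulAut M) (d : Fin 3 → ℤ), (∀ i, f (e i) = e i ^ d i) →
      ψ f = diagonal fun i => (d i : ZMod r) := fun f d hd => Matrix.ext fun a b => by
    rw [col f a b ((d b) • Pi.single b (1 : ZMod r)) (by
      rw [map_zsmul, ← Nat.cast_one, hφsingle, pow_one, hd]; rfl), Matrix.diagonal_apply, Pi.smul_apply,
      Pi.single_apply, zsmul_eq_mul]
    rcases eq_or_ne a b with rfl | h <;> simp [*]
  have hψZ : ψ Z = diagonal ![1, -1, -1] := by
    rw [hdiag Z ![1, -1, -1] fun i => by fin_cases i <;> simp [hZe.1, hZe.2.1, hZe.2.2]]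
    exact congrArg diagonal (funext fun i => by fin_cases i <;> simp)
  have hψU : ψ U = diagonal ![-1, 1, -1] := by
    rw [hdiag U ![-1, 1, -1] fun i => by fin_cases i <;> simp [hUe.1, hUe.2.1, hUe.2.2]]
    exact congrArg diagonal (funext fun i => by fin_cases i <;> simp)
  choose k hk using hCe
  have hψC : ∀ a b, ψ C a b = if a = b + 1 then (k b : ZMod r) else 0 := fun a b => by
    rw [col C a b _ ((hφsingle (b + 1) (k b)).trans (by rw [hk])), Pi.single_apply]
  have hk0 : ∀ b, (k b : ZMod r) ≠ 0 := fun b h => by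
    have h1 : Additive.ofMul (C (e b)) = (0 : Additive M) := by
      rw [hk, ← hφsingle, h, Pi.single_zero, map_zero]
    have h2 : e b = 1 := C.injective (h1.trans (map_one C).symm :)
    exact one_ne_zero (α := ZMod r) (by
      have := congrFun (hbij.1 (show φ (Pi.single b ((1 : ℕ) : ZMod r)) = φ 0 by
        rw [hφsingle, pow_one, h2, map_zero]; rfl)) b
      simpa using this)
  -- transvections in the group
  let S : Fin 3 → Fin 3 → ZMod r → Prop := fun i j x => ∃ f ∈ Γ, ψ f = transvection i j x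
  have hmul : ∀ {i j : Fin 3}, i ≠ j → ∀ {x y}, S i j x → S i j y → S i j (x + y) :=
    fun {i j} hij {x y} ⟨f, hf, e1⟩ ⟨f', hf', e2⟩ =>
      ⟨f * f', mul_mem hf hf', by rw [map_mul, e1, e2, transvection_mul_transvection_same i j hij]⟩
  have hall : ∀ {i j : Fin 3}, i ≠ j → ∀ {x}, S i j x → x ≠ 0 → ∀ y, S i j y := by
    intro i j hij x hx hx0 y
    have : ∀ n : ℕ, S i j (n * x) := fun n => by
      induction n with
      | zero => exact ⟨1, one_mem _, by rw [map_one, Nat.cast_zero, zero_mul, transvection_zero]⟩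
      | succ n ih => rw [Nat.cast_succ, add_mul, one_mul]; exact hmul hij ih hx
    have h := this (y / x).val
    rwa [ZMod.natCast_zmod_val, div_mul_cancel₀ _ hx0] at h
  have hconj : ∀ {i j : Fin 3}, i ≠ j → ∀ {x}, S i j x → x ≠ 0 → ∀ y, S (i + 1) (j + 1) y := by
    intro i j hij x ⟨f, hf, e1⟩ hx0
    refine hall (fun h => hij (add_right_cancel h)) ⟨C * f * C⁻¹, mul_mem (mul_mem hC hf) (inv_mem hC), ?_⟩
      (div_ne_zero (mul_ne_zero hx0 (hk0 i)) (hk0 j))
    rw [map_mul, map_mul, e1, transvection_conj hψC hk0 hij x, Matrix.mul_assoc, ← map_mul, mul_inv_cancel,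
      map_one, Matrix.mul_one]
  have hcomm : ∀ {i j l : Fin 3}, i ≠ j → j ≠ l → i ≠ l → (∀ y, S i j y) → (∀ y, S j l y) → ∀ y, S i l y := by
    intro i j l hij hjl hil h1 h2 y
    obtain ⟨a, ha, ea⟩ := h1 y
    obtain ⟨a', ha', ea'⟩ := h1 (-y)
    obtain ⟨b, hb, eb⟩ := h2 1
    obtain ⟨b', hb', eb'⟩ := h2 (-1)
    exact ⟨a * b * a' * b', mul_mem (mul_mem (mul_mem ha hb) ha') hb', by
      rw [map_mul, map_mul, map_mul, ea, eb, ea', eb', transvection_commutator hij hjl hil, mul_one]⟩
  obtain ⟨n, hn⟩ := hgp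
  have hUinv : U⁻¹ = U := by
    refine inv_eq_of_mul_eq_one_left (hψinj ?_)
    rw [map_mul, map_one, hψU, diagonal_mul_diagonal, ← diagonal_one]
    exact congrArg diagonal (funext fun i => by fin_cases i <;> simp)
  obtain ⟨x, hx⟩ := transvection_of_inverted hr (A := ψ g) (by rw [← hψZ, ← map_mul, ← map_mul, hgZ.eq])
    (by rw [← hψU, ← map_mul, ← map_mul, ← map_mul]
        nth_rewrite 2 [← hUinv]
        rw [hgU, mul_inv_cancel, map_one]) (n := n) (by rw [← map_pow, hn, map_one])
  have hx0 : x ≠ 0 := fun h => hg1 (hψinj (by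
    rcases hx with hx | hx <;> rw [hx, h, transvection_zero, map_one]))
  have hboth : (∀ y, S 0 1 y) ∧ ∀ y, S 1 0 y := by
    rcases hx with hx | hx
    · have h12 := hall (show (1 : Fin 3) ≠ 2 by decide) ⟨g, hg, hx⟩ hx0
      have h20 : ∀ y, S 2 0 y := hconj (by decide) (h12 1) one_ne_zero
      have h01 : ∀ y, S 0 1 y := hconj (by decide) (h20 1) one_ne_zero
      exact ⟨h01, hcomm (by decide) (by decide) (by decide) h12 h20⟩
    · have h21 := hall (show (2 : Fin 3) ≠ 1 by decide) ⟨g, hg, hx⟩ hx0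
      have h02 : ∀ y, S 0 2 y := hconj (by decide) (h21 1) one_ne_zero
      have h10 : ∀ y, S 1 0 y := hconj (by decide) (h02 1) one_ne_zero
      exact ⟨hcomm (by decide) (by decide) (by decide) h02 h21, h10⟩
  obtain ⟨a, ha, ea⟩ := hboth.1 1
  obtain ⟨b, hb, eb⟩ := hboth.2 (-1)
  set w := a * b * a with hw
  have hψw : ψ w = !![0, 1, 0; -1, 0, 0; 0, 0, 1] := by
    rw [hw, map_mul, map_mul, ea, eb]
    ext i j
    fin_cases i <;> fin_cases j <;> simp [Matrix.mul_apply, Fin.sum_univ_three, transvection, Matrix.one_apply]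
  have hw4 : w ^ 2 ^ 2 = 1 := by
    refine hψinj ?_
    rw [map_pow, map_one, hψw, show 2 ^ 2 = 2 * 2 from rfl, pow_mul, sq, sq]
    ext i j
    fin_cases i <;> fin_cases j <;> simp [Matrix.mul_apply, Fin.sum_univ_three]
  have hZ2 : Z * Z = 1 := by
    refine hψinj ?_
    rw [map_mul, map_one, hψZ, diagonal_mul_diagonal, ← diagonal_one]
    exact congrArg diagonal (funext fun i => by fin_cases i <;> simp)
  have hrel : Z * w * Z = w⁻¹ := by
    refine eq_inv_of_mul_eq_one_left (hψinj ?_)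
    rw [map_mul, map_mul, map_mul, map_one, hψw, hψZ]
    ext i j
    fin_cases i <;> fin_cases j <;> simp [Matrix.mul_apply, Fin.sum_univ_three, Matrix.diagonal]
  have hZinv : Z⁻¹ = Z := inv_eq_of_mul_eq_one_left hZ2
  have hW : IsPGroup 2 (zpowers w) := fun ⟨y, hy⟩ => by
    obtain ⟨m, rfl⟩ := mem_zpowers_iff.mp hy
    refine ⟨2, Subtype.ext ?_⟩
    show (w ^ m) ^ 2 ^ 2 = 1
    rw [← zpow_natCast, ← _root_.zpow_mul, mul_comm, _root_.zpow_mul, zpow_natCast, hw4, _root_.one_zpow]
  have hZp : IsPGroup 2 (zpowers Z) := fun ⟨y, hy⟩ => by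
    obtain ⟨m, rfl⟩ := mem_zpowers_iff.mp hy
    refine ⟨1, Subtype.ext ?_⟩
    show (Z ^ m) ^ 2 ^ 1 = 1
    rw [← zpow_natCast, ← _root_.zpow_mul, mul_comm, _root_.zpow_mul, zpow_natCast, pow_one, sq, hZ2, _root_.one_zpow]
  have hnorm : zpowers Z ≤ normalizer (zpowers w : Set (MulAut M)) := by
    rw [zpowers_le, mem_normalizer_iff]
    intro h
    have hconj' : ∀ y ∈ zpowers w, Z * y * Z⁻¹ ∈ zpowers w := fun y hy => by
      obtain ⟨m, rfl⟩ := mem_zpowers_iff.mp hy
      rw [← conj_zpow, hZinv, hrel]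
      exact zpow_mem (inv_mem (mem_zpowers w)) m
    refine ⟨hconj' h, fun hh => ?_⟩
    have := hconj' _ hh
    rw [hZinv] at this
    rwa [← mul_assoc, ← mul_assoc, hZ2, one_mul, mul_assoc, hZ2, mul_one] at this
  have hwΓ : w ∈ Γ := mul_mem (mul_mem ha hb) ha
  have hT : zpowers w ⊔ zpowers Z ≤ Γ := sup_le (zpowers_le.mpr hwΓ) (zpowers_le.mpr hZ)
  have hc := hab _ hT (hW.to_sup_of_normal_left' hZp hnorm)
  have he := congrArg (fun t : ↥(zpowers w ⊔ zpowers Z) => ψ (t : MulAut M))
    (hc.is_comm.comm ⟨w, mem_sup_left (mem_zpowers w)⟩ ⟨Z, mem_sup_right (mem_zpowers Z)⟩)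
  simp only [Subgroup.coe_mul, map_mul, hψw, hψZ] at he
  have h01 := congrFun (congrFun he 0) 1
  simp [Matrix.mul_apply, Fin.sum_univ_three, Matrix.diagonal] at h01
  exact two_ne_zero' hr (by linear_combination -h01)

end Cfsg.Agent.JSylowSimple
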