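import Cfsg.Agent.Lib.Signalizer.Core
import Cfsg.Agent.Lib.Signalizer.ElemAb
import Cfsg.Agent.Lib.Signalizer.GraphTrivial
import Cfsg.Agent.Lib.Coprime.Invariant
import Cfsg.Agent.Lib.Coprime.Factorization
import Cfsg.Agent.Lib.Constrained.Basic
import Cfsg.Agent.Lib.Solvable.CommutatorFixed
import Cfsg.Agent.Lib.OddOrderTheorem.Basic

/-!
# Coprime action of a small abelian 2-group (helper51, for S1776)

* `split` : `Y = [Y, P] C_Y(P)` in the form of a containment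
* `conj_mul_mem` : `[N, z] ≤ ⟨C_N(u), C_N(zu)⟩` for a four-group `⟨z, u⟩`
* `mem_of_sq_mem` : an element of odd order with square in `N` lies in `N`
-/

set_option autoImplicit false
set_option linter.style.haveILetI false

namespace Cfsg.Agent.JSylowSimple

open Subgroup
open scoped commutatorElement Pointwise

universe v

variable {G : Type v} [Group G] [Finite G]

theorem odd_of_le {H K : Subgroup G} (h : H ≤ K) (hK : Odd (Nat.card K)) : Odd (Nat.card H) :=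
  hK.of_dvd_nat (card_dvd_of_le h)

theorem odd_core (a : G) : Odd (Nat.card (Cfsg.centralizerPPrimeCore 2 a)) := by
  haveI : Fact (Nat.Prime 2) := ⟨Nat.prime_two⟩
  rw [← Nat.not_even_iff_odd, even_iff_two_dvd]
  exact Signalizer.not_dvd_card_core a

omit [Finite G] in
theorem odd_orderOf {H : Subgroup G} (hH : Odd (Nat.card H)) {x : G} (hx : x ∈ H) :
    Odd (orderOf x) := by
  refine hH.of_dvd_nat ?_
  rw [← Subgroup.orderOf_mk x hx]
  exact orderOf_dvd_natCard _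

theorem odd_sup {N H : Subgroup G} (hn : H ≤ normalizer (N : Set G)) (hN : Odd (Nat.card N))
    (hH : Odd (Nat.card H)) : Odd (Nat.card ↥(N ⊔ H)) := by
  haveI : Fact (Nat.Prime 2) := ⟨Nat.prime_two⟩
  rw [← Nat.not_even_iff_odd, even_iff_two_dvd]
  exact Signalizer.not_dvd_card_sup (fun h => Nat.not_even_iff_odd.2 hN (even_iff_two_dvd.2 h))
    (fun h => Nat.not_even_iff_odd.2 hH (even_iff_two_dvd.2 h)) hn

omit [Finite G] in
theorem mem_of_sq_mem {N : Subgroup G} {x : G} (hx : Odd (orderOf x)) (h : x * x ∈ N) : x ∈ N := by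
  obtain ⟨k, hk⟩ := hx
  have e : x = ((x * x) ^ k)⁻¹ := by
    refine eq_inv_of_mul_eq_one_left ?_
    rw [← pow_two, ← pow_mul, ← pow_succ', ← hk, pow_orderOf_eq_one]
  rw [e]
  exact inv_mem (pow_mem h k)

theorem coprime_two_group {P Y : Subgroup G} (hP : Cfsg.IsElementaryAbelian 2 P)
    (hY : Odd (Nat.card Y)) : (Nat.card P).Coprime (Nat.card Y) := by
  haveI : Fact (Nat.Prime 2) := ⟨Nat.prime_two⟩
  obtain ⟨k, hk⟩ := IsPGroup.iff_card.1 (Signalizer.isPGroup_of_elemAb hP)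
  rw [hk]
  exact Nat.Coprime.pow_left _ (Nat.coprime_two_left.2 hY)

/-- `Y = [Y, P] C_Y(P)`. -/
theorem split {P Y Z : Subgroup G} (hP : Cfsg.IsElementaryAbelian 2 P)
    (hY : Odd (Nat.card Y)) (hn : P ≤ normalizer (Y : Set G))
    (h1 : ∀ y ∈ Y, ∀ p ∈ P, ⁅y, p⁆ ∈ Z) (h2 : ∀ y ∈ Y, (∀ p ∈ P, p * y = y * p) → y ∈ Z) :
    Y ≤ Z := by
  haveI := hP.1
  rw [← Coprime.commutator_sup_centralizer hn (coprime_two_group hP hY)
    (Or.inl (Solvable.CommFixed.solv_comm P))]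
  exact sup_le (commutator_le.2 h1) fun y hy => h2 y hy.1 hy.2

/-- `[N, z] ≤ ⟨C_N(u), C_N(zu)⟩`. -/
theorem conj_mul_mem {N Y U : Subgroup G} (hU : Cfsg.IsElementaryAbelian 2 U)
    (hU2 : ¬ IsCyclic U) {z : G} (hz : z ∈ U) (hN : Odd (Nat.card N))
    (hUN : U ≤ normalizer (N : Set G)) (hY : Y ≤ N) (hUY : U ≤ normalizer (Y : Set G))
    (hother : ∀ w ∈ U, w ≠ 1 → w ≠ z → N ⊓ centralizer ({w} : Set G) ≤ Y)
    {n : G} (hn : n ∈ N) : n * z * n⁻¹ * z⁻¹ ∈ Y := by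
  haveI := hU.1
  have hzU : ∀ w ∈ U, z * w = w * z := fun w hw =>
    Signalizer.commute_of_isMulCommutative hU.1 hz hw
  set X := N ⊓ centralizer ({z} : Set G) with hX
  have hUX : U ≤ normalizer (X : Set G) := Signalizer.le_normalizer_inf hUN
    (le_trans (fun w hw => mem_centralizer_singleton_iff.2 (hzU w hw).symm) le_normalizer)
  have hfac := Coprime.le_mul_of_centralizers hU2 hUN (coprime_two_group hU hN)
    (X := X) (Y := Y) inf_le_left hY hUX hUY
    (fun x hx => le_normalizer (show x ∈ X from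
      ⟨hx.1, mem_centralizer_singleton_iff.2 (hx.2 z hz).symm⟩))
    fun a ha ha1 => by
      refine Set.Subset.antisymm (fun k hk => ?_) ?_
      · by_cases haz : a = z
        · subst haz
          exact ⟨k, ⟨hk, hk.2⟩, 1, one_mem _, mul_one k⟩
        · exact ⟨1, one_mem _, k, ⟨hother a ha ha1 haz hk, hk.2⟩, one_mul k⟩
      · rintro _ ⟨x, hx, y, hy, rfl⟩
        exact ⟨mul_mem hx.1.1 (hY hy.1), mul_mem hx.2 hy.2⟩
  have hn' : n⁻¹ ∈ (X : Set G) * (Y : Set G) := hfac ▸ inv_mem hn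
  obtain ⟨x, hx, y, hy, hxy⟩ := hn'
  have hxz : x⁻¹ * z * x = z := by
    rw [mul_assoc, ← mem_centralizer_singleton_iff.1 hx.2, inv_mul_cancel_left]
  have e : n = y⁻¹ * x⁻¹ := by rw [← inv_inv n, ← hxy, mul_inv_rev]
  have e2 : n * z * n⁻¹ * z⁻¹ = y⁻¹ * (z * y * z⁻¹) := by
    rw [e]
    calc y⁻¹ * x⁻¹ * z * (y⁻¹ * x⁻¹)⁻¹ * z⁻¹ = y⁻¹ * (x⁻¹ * z * x) * y * z⁻¹ := by group
      _ = _ := by rw [hxz]; group
  rw [e2]
  exact mul_mem (inv_mem hy) (Signalizer.conj_mem hUY hz hy)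

end Cfsg.Agent.JSylowSimple
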